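import Cfsg.Agent.Lib.Known.UnitMult.PCompl

/-!
# No stem part in the characteristic
-/

set_option autoImplicit false
set_option linter.unusedSectionVars false

namespace CfsgLib.Known.UnitMult

open CfsgLib.Classical CfsgLib.Classical.Herm CfsgLib.Known.SympMult
open CfsgLib.Classical.Herm.IsHerm (restrict restrict_apply)
open scoped commutatorElement

variable {F : Type*} [Field F] {σ : F →+* F} {V : Type*} [AddCommGroup V] [Module F V]
  {B : V →ₛₗ[σ] V →ₗ[F] F} [Finite F] [FiniteDimensional F V] (h : IsHerm B)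
  {Γ : Type*} [Group Γ] [Finite Γ] {π : Γ →* HSU B} (C : CExt π) {p : ℕ} [Fact p.Prime] [CharP F p]
  (hZ : IsPGroup p π.ker)
include h C hZ

/-- the exceptions -/
theorem good_SW_of_char (h3 : 3 ≤ Module.finrank F V)
    (hex3 : Module.finrank F V = 3 → Nat.card (fixedSub σ) ≠ 2)
    (hex4 : Module.finrank F V = 4 → Nat.card (fixedSub σ) ≠ 2 ∧ Nat.card (fixedSub σ) ≠ 3)
    (hex6 : Module.finrank F V = 6 → Nat.card (fixedSub σ) ≠ 2) :
    ∀ W : Submodule F V, ND B W → Good π (SW h W) := by
  intro W
  induction hk : Module.finrank F W using Nat.strong_induction_on generalizing W with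
  | _ k ihk =>
  subst hk
  intro hW
  have : Finite (HSU B) := Finite.of_surjective π C.surj
  refine good_of_sylow C hZ fun X hXW hX => ?_
  rcases Nat.eq_zero_or_pos (Module.finrank F W) with h0 | hpos
  · refine Good.mono hXW ?_
    rw [SW_eq_bot h hW (by omega)]
    intro z hz _
    have hab : ⁅(⊥ : Subgroup (HSU B)).comap π, (⊥ : Subgroup (HSU B)).comap π⁆ = ⊥ := by
      rw [eq_bot_iff, Subgroup.commutator_le]
      intro x hx y _
      rw [Subgroup.mem_bot, commutatorElement_eq_one_iff_commute]
      exact (C.ker_comm (Subgroup.mem_bot.1 hx) y).symm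
    rwa [hab, Subgroup.mem_bot] at hz
  -- a nonzero fixed vector
  let act : MulAction X W :=
    { smul := fun g w => ⟨ap (g : HSU B) w, SW_map h hW (hXW g.2) w.2⟩
      one_smul := fun w => Subtype.ext (ap_one _)
      mul_smul := fun g g' w => Subtype.ext (ap_mul _ _ _) }
  have : Finite W := Module.finite_of_finite F
  have hdvd : p ∣ Nat.card W := by
    have : Fintype F := Fintype.ofFinite F
    obtain ⟨k, -, hk⟩ := FiniteField.card F p
    rw [Module.natCard_eq_pow_finrank (K := F), Nat.card_eq_fintype_card, hk]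
    exact dvd_pow (dvd_pow_self p k.ne_zero) hpos.ne'
  obtain ⟨⟨a, haW⟩, hfix, ha0⟩ := hX.exists_fixed_point_of_prime_dvd_card_of_fixed_point W hdvd
    (a := (0 : W)) (fun g => Subtype.ext (LinearEquiv.map_zero _))
  have ha : a ≠ 0 := fun e => ha0 (Subtype.ext e.symm)
  have hfa : ∀ g ∈ X, ap g a = a := fun g hg => congrArg Subtype.val (hfix ⟨g, hg⟩)
  by_cases haa : B a a = 0
  · obtain ⟨f, haf, hff⟩ := (h.restrict_herm hW).exists_isotropic_partner (u := ⟨a, haW⟩)
      (fun e => ha (congrArg Subtype.val e)) haa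
    have P : Pair B a (f : V) := ⟨haa, hff, haf⟩
    have hle : Submodule.span F ({a, (f : V)} : Set V) ≤ W :=
      Submodule.span_le.2 (Set.insert_subset_iff.2 ⟨haW, Set.singleton_subset_iff.2 f.2⟩)
    have hlt : Module.finrank F (W ⊓ perpP h a f : Submodule F V) < Module.finrank F W := by
      have := finrank_inf h (nd_pair h P) hW hle
      rw [h.pair_finrank (h.hyperbolic_disc P.aa P.af)] at this
      rw [perpP]
      omega
    obtain ⟨M, hM, hMZ, hMn⟩ := exists_radical_complement h P C hZ h3 hex3 hex4 hex6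
    refine good_of_complement (Y := SW h (W ⊓ perpP h a f)) C hMZ
      (fun g hg => hMn g (SW_mono h inf_le_right hg)) ?_
      (ihk _ hlt _ rfl (nd_inf h (nd_pair h P) hW hle).1) fun x hx => ?_
    · rw [hM, eq_bot_iff, ← radical_inf h P]
      exact inf_le_inf_left _ (SW_mono h inf_le_right)
    · obtain ⟨v, hv, t, ht, k, hk, ek, hvW⟩ := stab_decomp h P (hfa x hx)
      have hvW' := hvW W haW f.2 (hXW hx) hW
      have hkW : k ∈ SW h W := by
        have := mul_mem (inv_mem (rx_mem_SW h P haW hvW' (hv := hv) (ht := ht))) (hXW hx)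
        rwa [ek, inv_mul_cancel_left] at this
      obtain ⟨m, hm, em⟩ : rx h P v hv t ht ∈ M.map π := hM ▸ rx_mem h P
      refine ⟨m, hm, k, SW_inf h (nd_pair h P) hW hle hkW fun y hy => ?_, em ▸ ek⟩
      obtain ⟨r, s, rfl⟩ := Submodule.mem_span_pair.1 hy
      simp only [map_add, LinearEquiv.map_smul, ((mem_SW_perpP h P).1 hk).1, ((mem_SW_perpP h P).1 hk).2]
  · have hU : ND B (Submodule.span F {a}) := fun y hy hrad => by
      obtain ⟨r, rfl⟩ := Submodule.mem_span_singleton.1 hy
      have h1 := hrad a (Submodule.mem_span_singleton_self a)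
      rw [smul_left, mul_eq_zero] at h1
      rw [IsInvol.apply_eq_zero_iff.1 (h1.resolve_right haa), zero_smul]
    have hle : Submodule.span F {a} ≤ W := Submodule.span_le.2 (Set.singleton_subset_iff.2 haW)
    have hlt : Module.finrank F (W ⊓ h.orth (Submodule.span F {a}) : Submodule F V) < Module.finrank F W := by
      have := finrank_inf h hU hW hle
      rw [finrank_span_singleton ha] at this
      omega
    refine Good.mono (fun g hg => SW_inf h hU hW hle (hXW hg) fun y hy => ?_) (ihk _ hlt _ rfl (nd_inf h hU hW hle).1)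
    obtain ⟨r, rfl⟩ := Submodule.mem_span_singleton.1 hy
    rw [LinearEquiv.map_smul, hfa g hg]

end CfsgLib.Known.UnitMult
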