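import Cfsg.Agent.Lib.Known.UnitMult.LPart
import Cfsg.Agent.Lib.Known.UnitMult.PPart

/-!
# Stem extensions of special unitary groups are trivial
-/

set_option autoImplicit false
set_option linter.unusedSectionVars false

namespace CfsgLib.Known.UnitMult

open CfsgLib.Classical CfsgLib.Classical.Herm CfsgLib.Known.SympMult

universe u v

/-- it suffices to treat kernels of prime power order -/
theorem ker_eq_bot_of_prime {G : Type u} [Group G]
    (hl : ∀ (l : ℕ) [Fact l.Prime] (Γ : Type v) [Group Γ] [Finite Γ] (π : Γ →* G), Cfsg.IsStemExtension π →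
      IsPGroup l π.ker → π.ker = ⊥)
    {Γ : Type v} [Group Γ] [Finite Γ] (π : Γ →* G) (hπ : Cfsg.IsStemExtension π) : π.ker = ⊥ := by
  induction hk : Nat.card π.ker using Nat.strong_induction_on generalizing Γ with
  | _ k ih =>
  subst hk
  obtain ⟨hs, hc, hd⟩ := id hπ
  by_cases h1 : Nat.card π.ker = 1
  · exact Subgroup.card_eq_one.1 h1
  obtain ⟨r, hr, hrd⟩ := Nat.exists_prime_and_dvd h1
  have : Fact r.Prime := ⟨hr⟩
  obtain ⟨x, hx⟩ := exists_prime_orderOf_dvd_card' r hrd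
  obtain ⟨Q, hQ⟩ : ∃ Q : Subgroup Γ, Q = Subgroup.zpowers (x : Γ) := ⟨_, rfl⟩
  have hQk : Q ≤ π.ker := hQ ▸ Subgroup.zpowers_le.2 x.2
  have hQc : Nat.card Q = r := by rw [hQ, Nat.card_zpowers, Subgroup.orderOf_coe, hx]
  have : Q.Normal := ⟨fun y hy g => by
    rwa [Subgroup.mem_center_iff.1 (hc (hQk hy)) g, mul_inv_cancel_right]⟩
  obtain ⟨σ', hσ'⟩ : ∃ σ' : Γ ⧸ Q →* G, ∀ g, σ' (QuotientGroup.mk' Q g) = π g :=
    ⟨QuotientGroup.lift Q π hQk, fun g => rfl⟩
  have hker : ∀ g, QuotientGroup.mk' Q g ∈ σ'.ker ↔ g ∈ π.ker := fun g => by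
    rw [MonoidHom.mem_ker, hσ', MonoidHom.mem_ker]
  have hmap : σ'.ker = π.ker.map (QuotientGroup.mk' Q) := by
    ext y
    obtain ⟨g, rfl⟩ := QuotientGroup.mk'_surjective Q y
    rw [hker]
    refine ⟨fun hg => ⟨g, hg, rfl⟩, fun ⟨g', hg', e⟩ => ?_⟩
    have : π g' = π g := by rw [← hσ', e, hσ']
    rwa [MonoidHom.mem_ker, ← this]
  have hst : Cfsg.IsStemExtension σ' := by
    refine ⟨fun y => ?_, ?_, ?_⟩
    · obtain ⟨g, rfl⟩ := hs y; exact ⟨_, hσ' g⟩
    · rw [hmap]
      rintro _ ⟨g, hg, rfl⟩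
      rw [Subgroup.mem_center_iff]
      intro y
      obtain ⟨g', rfl⟩ := QuotientGroup.mk'_surjective Q y
      rw [← map_mul, ← map_mul, Subgroup.mem_center_iff.1 (hc hg) g']
    · rw [hmap]
      rintro _ ⟨g, hg, rfl⟩
      have h3 : (commutator Γ).map (QuotientGroup.mk' Q) ≤ commutator (Γ ⧸ Q) := by
        rw [commutator_def, commutator_def, Subgroup.map_commutator]
        exact Subgroup.commutator_mono le_top le_top
      exact h3 ⟨g, hd hg, rfl⟩
  have hlt : Nat.card σ'.ker < Nat.card π.ker := by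
    let f : π.ker →* σ'.ker := ((QuotientGroup.mk' Q).comp π.ker.subtype).codRestrict σ'.ker fun g => (hker g).2 g.2
    have hf : Function.Surjective f := by
      rintro ⟨y, hy⟩
      rw [hmap] at hy
      obtain ⟨g, hg, rfl⟩ := hy
      exact ⟨⟨g, hg⟩, rfl⟩
    refine lt_of_le_of_ne (Nat.card_le_card_of_surjective _ hf) fun e => ?_
    have hinj := ((Nat.bijective_iff_surjective_and_card f).2 ⟨hf, e.symm⟩).1
    have hf1 : f x = 1 := Subtype.ext ((QuotientGroup.eq_one_iff (x : Γ)).2 (hQ ▸ Subgroup.mem_zpowers _))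
    have hx1 : x = 1 := hinj (hf1.trans (map_one f).symm)
    rw [hx1, orderOf_one] at hx
    exact hr.ne_one hx.symm
  have hb := ih _ hlt σ' hst rfl
  refine hl r Γ π hπ ?_
  have hle : π.ker ≤ Q := fun g hg => by
    have h4 := (hker g).2 hg
    rw [hb, Subgroup.mem_bot] at h4
    exact (QuotientGroup.eq_one_iff g).1 h4
  refine IsPGroup.to_le ?_ hle
  exact IsPGroup.of_card (n := 1) (by rw [hQc, pow_one])

variable {F : Type*} [Field F] {σ : F →+* F} {V : Type*} [AddCommGroup V] [Module F V]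
  {B : V →ₛₗ[σ] V →ₗ[F] F} [Finite F] [FiniteDimensional F V] (h : IsHerm B)
include h

/-- stem extensions of the special unitary groups are trivial -/
theorem ker_eq_bot (h3 : 3 ≤ Module.finrank F V)
    (hex3 : Module.finrank F V = 3 → Nat.card (fixedSub σ) ≠ 2)
    (hex4 : Module.finrank F V = 4 → Nat.card (fixedSub σ) ≠ 2 ∧ Nat.card (fixedSub σ) ≠ 3)
    (hex6 : Module.finrank F V = 6 → Nat.card (fixedSub σ) ≠ 2)
    {Γ : Type v} [Group Γ] [Finite Γ] (π : Γ →* HSU B) (hπ : Cfsg.IsStemExtension π) : π.ker = ⊥ := by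
  refine ker_eq_bot_of_prime (fun l _ Γ _ _ π hπ hZ => ?_) π hπ
  obtain ⟨hs, hc, hd⟩ := hπ
  obtain ⟨p, hp⟩ := CharP.exists F
  have : Fact p.Prime := ⟨(CharP.char_is_prime_or_zero F p).resolve_right (CharP.char_ne_zero_of_finite F p)⟩
  have C : CExt π := ⟨hs, hc⟩
  have hgood : Good π (SW h (⊤ : Submodule F V)) := by
    by_cases hlp : l = p
    · subst hlp
      exact good_SW_of_char h C hZ h3 hex3 hex4 hex6 ⊤ (nd_top h)
    · exact good_SW_of_ne h (p := p) C hZ
        (fun hd => hlp ((Nat.prime_dvd_prime_iff_eq (Fact.out : l.Prime) (Fact.out : p.Prime)).1 hd)) ⊤ (nd_top h)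
  rw [SW_top h] at hgood
  refine (Subgroup.eq_bot_iff_forall _).2 fun z hz => hgood z ?_ hz
  have h5 := hd hz
  rw [commutator_def] at h5
  rwa [Subgroup.comap_top]

theorem isCyclic_center_HSU (h3 : 3 ≤ Module.finrank F V) : IsCyclic (Subgroup.center (HSU B)) := by
  obtain ⟨b, hb⟩ := h.exists_orthonormal_basis rfl
  obtain ⟨i⟩ : Nonempty (Fin (Module.finrank F V)) := ⟨⟨0, by omega⟩⟩
  have key : ∀ z : Subgroup.center (HSU B), ∀ v, ap (z : HSU B) v = B (b i) (ap (z : HSU B) (b i)) • v := by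
    intro z v
    obtain ⟨c, hc⟩ := (h.mem_center_HSU_iff h3).1 z.2
    show (((z : HSU B) : HU B) : V ≃ₗ[F] V) v = B (b i) ((((z : HSU B) : HU B) : V ≃ₗ[F] V) (b i)) • v
    rw [hc, hc, smul_right, hb, if_pos rfl, mul_one]
  let φ : Subgroup.center (HSU B) →* F :=
    { toFun := fun z => B (b i) (ap (z : HSU B) (b i))
      map_one' := by simp [hb]
      map_mul' := fun z w => by
        show B (b i) (ap ((z : HSU B) * (w : HSU B)) (b i)) = _
        rw [ap_mul, key z, smul_right] }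
  have : Finite V := Module.finite_of_finite F
  have : Finite (HSU B) := Finite.of_injective (fun g v => ap g v) fun g g' e => ap_ext (congrFun e)
  refine isCyclic_of_injective_ringHom φ fun z w e => Subtype.ext (ap_ext fun v => ?_)
  rw [key z, key w]
  exact congrArg (· • v) e

end CfsgLib.Known.UnitMult
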