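import Cfsg.Agent.Lib.Classical.Unitary.Field

/-!
# Biadditive maps on a field with balanced multipliers
-/

set_option autoImplicit false
set_option linter.unusedSectionVars false

namespace CfsgLib.Known.UnitMult

open CfsgLib.Classical CfsgLib.Classical.Herm

variable {F : Type*} [Field F] [Finite F] {A : Type*} [AddCommGroup A]

theorem exists_subfield (S : Subring F) : ∃ T : Subfield F, ∀ x, x ∈ T ↔ x ∈ S := by
  refine ⟨{ S with inv_mem' := fun x hx => ?_ }, fun x => Iff.rfl⟩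
  change x⁻¹ ∈ S
  have : Fintype F := Fintype.ofFinite F
  by_cases hx0 : x = 0
  · rw [hx0, inv_zero]; exact zero_mem S
  have h2 : 2 ≤ Fintype.card F := Fintype.one_lt_card
  have h1 : x * x ^ (Fintype.card F - 2) = 1 := by
    rw [← pow_succ', show Fintype.card F - 2 + 1 = Fintype.card F - 1 by omega]
    exact FiniteField.pow_card_sub_one_eq_one x hx0
  rw [← eq_inv_of_mul_eq_one_right h1]
  exact pow_mem hx _

variable {q : ℕ} (hF : Nat.card F = q ^ 2)
include hF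

theorem subring_eq_top {S : Subring F} (hS : q < Nat.card S) : S = ⊤ := by
  obtain ⟨T, hT⟩ := exists_subfield S
  have hc : Nat.card T = Nat.card S := Nat.card_congr (Equiv.subtypeEquivRight hT)
  have h1 := Module.natCard_eq_pow_finrank (K := T) (V := F)
  rw [hF, hc] at h1
  rcases Nat.lt_or_ge (Module.finrank T F) 2 with h2 | h2
  · rcases Nat.eq_zero_or_pos (Module.finrank T F) with h0 | h0
    · rw [h0, pow_zero] at h1
      exfalso
      have := Finite.one_lt_card (α := F)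
      omega
    rw [show Module.finrank T F = 1 by omega, pow_one] at h1
    refine eq_top_iff.2 fun x _ => ?_
    have hu : (S : Set F) = Set.univ :=
      Set.eq_of_subset_of_ncard_le (Set.subset_univ _) (by
        rw [Set.ncard_univ, hF, h1, ← Nat.card_coe_set_eq]; rfl) (Set.toFinite _)
    exact (hu ▸ Set.mem_univ x : x ∈ (S : Set F))
  · exfalso
    have h3 : Nat.card S ^ 2 ≤ Nat.card S ^ Module.finrank T F := Nat.pow_le_pow_right (by omega) h2
    have h4 : q ^ 2 < Nat.card S ^ 2 := Nat.pow_lt_pow_left hS two_ne_zero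
    omega

theorem subring_eq_top_of_mem {S : Subring F} {ν : F} (hν0 : ν ≠ 0) (hν : ν ∈ S)
    (hgen : ∀ s, 2 ≤ s → s ≤ q → ν ^ (s - 1) ≠ 1) : S = ⊤ := by
  refine subring_eq_top hF (lt_of_not_ge fun hle => ?_)
  obtain ⟨T, hT⟩ := exists_subfield S
  have hc : Nat.card T = Nat.card S := Nat.card_congr (Equiv.subtypeEquivRight hT)
  have : Fintype T := Fintype.ofFinite T
  refine hgen (Nat.card S) (hc ▸ Finite.one_lt_card) hle ?_
  rw [← hc, Nat.card_eq_fintype_card]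
  have h1 := FiniteField.pow_card_sub_one_eq_one (⟨ν, (hT ν).2 hν⟩ : T) fun e => hν0 (congrArg Subtype.val e)
  exact congrArg Subtype.val h1

omit hF in
/-- the multipliers that can be moved across -/
def balRing (β : F →+ F →+ A) : Subring (F × F) where
  carrier := {c | ∀ r s, β (c.1 * r) s = β r (c.2 * s)}
  one_mem' := fun r s => by simp
  zero_mem' := fun r s => by simp
  add_mem' := fun {a b} ha hb r s => by
    simp only [Prod.fst_add, Prod.snd_add, add_mul, map_add, AddMonoidHom.add_apply, ha r s, hb r s]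
  neg_mem' := fun {a} ha r s => by
    simp only [Prod.fst_neg, Prod.snd_neg, neg_mul, map_neg, AddMonoidHom.neg_apply, ha r s]
  mul_mem' := fun {a b} ha hb r s => by
    rw [Prod.fst_mul, Prod.snd_mul, mul_assoc, ha, hb, ← mul_assoc, mul_comm b.2 a.2]

omit hF in
theorem eq_zero_of_bal {β : F →+ F →+ A} {x y : F} (h : (x, y) ∈ balRing β) (hne : x ≠ 0 ∧ y = 0 ∨ x = 0 ∧ y ≠ 0) :
    β = 0 := by
  ext r s
  rcases hne with ⟨hx, hy⟩ | ⟨hx, hy⟩
  · have := h (x⁻¹ * r) s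
    simpa [hy, hx] using this
  · have := h r (y⁻¹ * s)
    simpa [hy, hx] using this.symm

/-- invariant biadditive maps vanish -/
theorem biadd_zero (β : F →+ F →+ A) {ν : F} (hν0 : ν ≠ 0) (hgen : ∀ s, 2 ≤ s → s ≤ q → ν ^ (s - 1) ≠ 1)
    (hν2 : ν ^ 2 ≠ 1) (hνq : ν ^ (q + 1) ≠ 1) (hinv : ∀ r s, β (ν * r) (ν * s) = β r s) : β = 0 := by
  by_contra hne
  obtain ⟨S, hS⟩ : ∃ S, S = balRing β := ⟨_, rfl⟩
  have hmem : (ν, ν⁻¹) ∈ S := by
    rw [hS]
    intro r s
    show β (ν * r) s = β r (ν⁻¹ * s)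
    conv_lhs => rw [show s = ν * (ν⁻¹ * s) by field_simp]
    exact hinv _ _
  have hν' : ν ∈ S.map (RingHom.snd F F) := by
    have h1 : ν⁻¹ ∈ S.map (RingHom.snd F F) := ⟨_, hmem, rfl⟩
    obtain ⟨T, hT⟩ := exists_subfield (S.map (RingHom.snd F F))
    rw [← inv_inv ν, ← hT]
    exact inv_mem ((hT _).2 h1)
  have h1 := subring_eq_top_of_mem hF hν0 (S := S.map (RingHom.fst F F)) ⟨_, hmem, rfl⟩ hgen
  have h2 := subring_eq_top_of_mem hF hν0 hν' hgen
  have huniq : ∀ x y y', (x, y) ∈ S → (x, y') ∈ S → y = y' := fun x y y' ha hb => by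
    by_contra hyy
    have h3 := sub_mem ha hb
    rw [Prod.mk_sub_mk, sub_self, hS] at h3
    exact hne (eq_zero_of_bal h3 (Or.inr ⟨rfl, sub_ne_zero.2 hyy⟩))
  have hex : ∀ x, ∃ y, (x, y) ∈ S := fun x => by
    obtain ⟨⟨a, b⟩, hab, e⟩ := (h1 ▸ Subring.mem_top x : x ∈ S.map (RingHom.fst F F))
    exact ⟨b, (show a = x from e) ▸ hab⟩
  choose t ht using hex
  let τ : F →+* F :=
    { toFun := t
      map_one' := huniq _ _ _ (ht 1) S.one_mem
      map_mul' := fun a b => huniq _ _ _ (ht _) (S.mul_mem (ht a) (ht b))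
      map_zero' := huniq _ _ _ (ht 0) S.zero_mem
      map_add' := fun a b => huniq _ _ _ (ht _) (S.add_mem (ht a) (ht b)) }
  have hτν : τ ν = ν⁻¹ := huniq _ _ _ (ht ν) hmem
  have hsq : ∀ x, τ (τ x) = x := by
    intro x
    have h4 : RingHom.eqLocus (τ.comp τ) (RingHom.id F) = ⊤ :=
      subring_eq_top_of_mem hF hν0 (show τ (τ ν) = ν by rw [hτν, map_inv₀, hτν, inv_inv]) hgen
    exact (h4 ▸ Subring.mem_top x : x ∈ RingHom.eqLocus (τ.comp τ) (RingHom.id F))
  by_cases hid : τ = RingHom.id F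
  · rw [hid] at hτν
    refine hν2 ?_
    rw [pow_two]
    conv_lhs => arg 2; rw [show ν = ν⁻¹ from hτν]
    exact mul_inv_cancel₀ hν0
  · have hI : IsInvol τ := ⟨hid, hsq⟩
    have h5 : Nat.card (fixedSub τ) = q :=
      Nat.pow_left_injective two_ne_zero (hI.card_sq.symm.trans hF)
    rw [hI.apply_eq_pow, h5] at hτν
    exact hνq (by rw [pow_succ, hτν, inv_mul_cancel₀ hν0])

omit hF in
theorem exponent_aux {q : ℕ} (hq : 3 ≤ q) :
    (∀ s, 2 ≤ s → s ≤ q → ¬ (q ^ 2 - 1) ∣ (2 * q - 1) * (s - 1)) ∧ ¬ (q ^ 2 - 1) ∣ (2 * q - 1) * 2 ∧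
      ¬ (q ^ 2 - 1) ∣ (2 * q - 1) * (q + 1) := by
  obtain ⟨a, rfl⟩ : ∃ a, q = a + 3 := ⟨q - 3, by omega⟩
  have e1 : (a + 3) ^ 2 - 1 = a * a + 6 * a + 8 := by
    have : (a + 3) ^ 2 = a * a + 6 * a + 9 := by ring
    omega
  have e2 : 2 * (a + 3) - 1 = 2 * a + 5 := by omega
  have key : ∀ x, (a * a + 6 * a + 8) ∣ (2 * a + 5) * x → (a * a + 6 * a + 8) ∣ 3 * x := by
    intro x hx
    have h1 : (2 * a + 7) * ((2 * a + 5) * x) + 3 * x = (a * a + 6 * a + 8) * (4 * x) + 6 * x := by ring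
    have h2 : (a * a + 6 * a + 8) ∣ (a * a + 6 * a + 8) * (4 * x) + 6 * x - 3 * x := by
      rw [← h1, Nat.add_sub_cancel]
      exact Dvd.dvd.mul_left hx _
    rw [Nat.add_sub_assoc (by omega), show 6 * x - 3 * x = 3 * x by omega] at h2
    exact (Nat.dvd_add_right (dvd_mul_right _ _)).1 h2
  rw [e1, e2]
  refine ⟨fun s hs hsq hd => ?_, fun hd => ?_, fun hd => ?_⟩
  · obtain ⟨t, rfl⟩ : ∃ t, s = t + 1 := ⟨s - 1, by omega⟩
    have := Nat.le_of_dvd (by omega) (key _ hd)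
    rw [Nat.add_sub_cancel] at this
    nlinarith
  · have := Nat.le_of_dvd (by omega) (key _ hd)
    nlinarith
  · have h3 : (a + 2) * (a + 4) ∣ (2 * a + 5) * (a + 4) := by
      rw [show (a + 2) * (a + 4) = a * a + 6 * a + 8 by ring, show a + 4 = a + 3 + 1 by omega]; exact hd
    have h4 : (a + 2) ∣ 2 * a + 5 := (Nat.mul_dvd_mul_iff_right (by omega)).1 h3
    rw [show 2 * a + 5 = (a + 2) * 2 + 1 by ring] at h4
    have h5 := Nat.le_of_dvd one_pos ((Nat.dvd_add_right (dvd_mul_right _ _)).1 h4)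
    omega

end CfsgLib.Known.UnitMult
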