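import Cfsg.Agent.Lib.Known.UnitMult.Ext

/-!
# Complements of the kernel cut out by one element acting without fixed points
-/

set_option autoImplicit false
set_option linter.unusedSectionVars false

namespace CfsgLib.Known.UnitMult

open CfsgLib.Known.SympMult
open scoped commutatorElement

variable {G Γ : Type*} [Group G] [Group Γ] {π : Γ →* G}

/-- the commutators with a lift, together with the derived subgroup -/
def cpl (π : Γ →* G) (K : Subgroup G) (g : Γ) : Subgroup Γ :=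
  Subgroup.closure {x | x ∈ ⁅K.comap π, K.comap π⁆ ∨ ∃ y ∈ K.comap π, x = ⁅g, y⁆}

theorem comm_mem_cpl {K : Subgroup G} {g y : Γ} (hy : π y ∈ K) : ⁅g, y⁆ ∈ cpl π K g :=
  Subgroup.subset_closure (Or.inr ⟨y, hy, rfl⟩)

theorem derived_le_cpl {K : Subgroup G} {g : Γ} : ⁅K.comap π, K.comap π⁆ ≤ cpl π K g := fun _ hx =>
  Subgroup.subset_closure (Or.inl hx)

variable (C : CExt π) {K : Subgroup G}
include C

omit C in
theorem comap_conj {k : Γ} (hk : ∀ a ∈ K, π k * a * (π k)⁻¹ ∈ K) {x : Γ} (hx : x ∈ K.comap π) :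
    k * x * k⁻¹ ∈ K.comap π := by
  show π (k * x * k⁻¹) ∈ K
  rw [map_mul, map_mul, map_inv]
  exact hk _ hx

omit C in
theorem derived_conj {k : Γ} (hk : ∀ a ∈ K, π k * a * (π k)⁻¹ ∈ K) {x : Γ}
    (hx : x ∈ ⁅K.comap π, K.comap π⁆) : k * x * k⁻¹ ∈ ⁅K.comap π, K.comap π⁆ := by
  have hle : (K.comap π).map (MulAut.conj k).toMonoidHom ≤ K.comap π := by
    rintro _ ⟨y, hy, rfl⟩
    exact comap_conj hk hy
  have h1 : k * x * k⁻¹ ∈ ⁅K.comap π, K.comap π⁆.map (MulAut.conj k).toMonoidHom := ⟨x, hx, rfl⟩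
  rw [Subgroup.map_commutator] at h1
  exact Subgroup.commutator_mono hle hle h1

omit C in
theorem cpl_form {g : Γ} (hg : ∀ a ∈ K, π g * a * (π g)⁻¹ ∈ K) {x : Γ} (hx : x ∈ cpl π K g) :
    ∃ y ∈ K.comap π, ∃ d ∈ ⁅K.comap π, K.comap π⁆, x = ⁅g, y⁆ * d := by
  obtain ⟨Kh, hKh⟩ : ∃ Kh, Kh = K.comap π := ⟨_, rfl⟩
  obtain ⟨D, hD⟩ : ∃ D, D = ⁅Kh, Kh⁆ := ⟨_, rfl⟩
  rw [← hKh, ← hD]
  have hu : ∀ y ∈ Kh, ⁅g, y⁆ ∈ Kh := fun y hy => by
    rw [commutatorElement_def, hKh]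
    exact mul_mem (comap_conj hg (hKh ▸ hy)) (inv_mem (hKh ▸ hy))
  have hDn : ∀ u ∈ Kh, ∀ d ∈ D, u * d * u⁻¹ ∈ D := fun u hu d hd => by
    rw [hD, hKh] at hd ⊢
    rw [hKh] at hu
    exact derived_conj (fun a ha => mul_mem (mul_mem hu ha) (inv_mem hu)) hd
  let S : Subgroup Γ :=
    { carrier := {x | ∃ y ∈ Kh, ∃ d ∈ D, x = ⁅g, y⁆ * d}
      one_mem' := ⟨1, one_mem _, 1, one_mem _, by rw [commutatorElement_one_right, one_mul]⟩
      mul_mem' := by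
        rintro _ _ ⟨y, hy, d, hd, rfl⟩ ⟨y', hy', d', hd', rfl⟩
        refine ⟨y * y', mul_mem hy hy', ⁅y, ⁅g, y'⁆⁻¹⁆ * (⁅g, y'⁆⁻¹ * d * ⁅g, y'⁆⁻¹⁻¹) * d',
          mul_mem (mul_mem (hD ▸ Subgroup.commutator_mem_commutator hy (inv_mem (hu y' hy')))
            (hDn _ (inv_mem (hu y' hy')) d hd)) hd', ?_⟩
        simp only [commutatorElement_def]
        group
      inv_mem' := by
        rintro _ ⟨y, hy, d, hd, rfl⟩
        refine ⟨y⁻¹, inv_mem hy, ⁅g, y⁻¹⁆⁻¹ * (d⁻¹ * ⁅g, y⁆⁻¹), ?_, by simp only [commutatorElement_def]; group⟩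
        rw [show ⁅g, y⁻¹⁆⁻¹ * (d⁻¹ * ⁅g, y⁆⁻¹) = ⁅y⁻¹, ⁅g, y⁆⁆ * (⁅g, y⁆ * d⁻¹ * ⁅g, y⁆⁻¹) by
          simp only [commutatorElement_def]; group]
        exact mul_mem (hD ▸ Subgroup.commutator_mem_commutator (inv_mem hy) (hu y hy))
          (hDn _ (hu y hy) _ (inv_mem hd)) }
  refine (Subgroup.closure_le S).2 ?_ hx
  rintro x (hx | ⟨y, hy, rfl⟩)
  · exact ⟨1, one_mem _, x, by rw [hD, hKh]; exact hx, by rw [commutatorElement_one_right, one_mul]⟩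
  · exact ⟨y, hKh ▸ hy, 1, one_mem _, (mul_one _).symm⟩

omit C in
theorem cpl_le {g : Γ} (hg : ∀ a ∈ K, π g * a * (π g)⁻¹ ∈ K) : cpl π K g ≤ K.comap π := by
  intro x hx
  obtain ⟨y, hy, d, hd, rfl⟩ := cpl_form hg hx
  refine mul_mem ?_ (Subgroup.commutator_le_self _ hd)
  rw [commutatorElement_def]
  exact mul_mem (comap_conj hg hy) (inv_mem hy)

theorem derived_map : (⁅K.comap π, K.comap π⁆).map π = ⁅K, K⁆ := by
  rw [Subgroup.map_commutator, Subgroup.map_comap_eq_self_of_surjective C.surj]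

/-- the complement -/
theorem cpl_spec (hK : Good π K) {g : Γ} (hg : ∀ a ∈ K, π g * a * (π g)⁻¹ ∈ K)
    (hinj : ∀ x ∈ K, ⁅π g, x⁆ ∈ ⁅K, K⁆ → x ∈ ⁅K, K⁆) (hsur : ∀ y ∈ K, ∃ x ∈ K, ⁅π g, x⁆⁻¹ * y ∈ ⁅K, K⁆) :
    (cpl π K g).map π = K ∧ ∀ x ∈ cpl π K g, π x = 1 → x = 1 := by
  refine ⟨le_antisymm ?_ ?_, fun x hx hx1 => ?_⟩
  · rintro _ ⟨x, hx, rfl⟩
    exact cpl_le hg hx
  · intro y hy
    obtain ⟨x, hx, hxy⟩ := hsur y hy
    obtain ⟨x', rfl⟩ := C.surj x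
    rw [← derived_map C] at hxy
    obtain ⟨d, hd, hde⟩ := hxy
    refine ⟨⁅g, x'⁆ * d, mul_mem (comm_mem_cpl hx) (derived_le_cpl hd), ?_⟩
    rw [map_mul, map_commutatorElement, hde, mul_inv_cancel_left]
  · obtain ⟨y, hy, d, hd, rfl⟩ := cpl_form hg hx
    rw [map_mul] at hx1
    have h1 : ⁅π g, π y⁆ ∈ ⁅K, K⁆ := by
      rw [← map_commutatorElement, eq_inv_of_mul_eq_one_left hx1, ← derived_map C]
      exact inv_mem ⟨d, hd, rfl⟩
    obtain ⟨d', hd', e⟩ := (derived_map C).symm ▸ hinj _ hy h1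
    obtain ⟨z, hz, rfl⟩ := C.diff (x := y) (y := d') e.symm
    refine hK _ (mul_mem ?_ hd) (by rw [map_mul, hx1])
    rw [show ⁅g, d' * z⁆ = g * d' * (z * g⁻¹) * z⁻¹ * d'⁻¹ by simp only [commutatorElement_def]; group,
      ← (C.ker_comm hz g⁻¹).eq, show g * d' * (g⁻¹ * z) * z⁻¹ * d'⁻¹ = g * d' * g⁻¹ * d'⁻¹ by group]
    exact mul_mem (derived_conj hg hd') (inv_mem hd')

/-- elements commuting with the one element normalise the complement -/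
theorem cpl_conj {g k : Γ} (hk : ∀ a ∈ K, π k * a * (π k)⁻¹ ∈ K) (hc : Commute (π g) (π k)) {x : Γ}
    (hx : x ∈ cpl π K g) : k * x * k⁻¹ ∈ cpl π K g := by
  have hle : cpl π K g ≤ (cpl π K g).comap (MulAut.conj k).toMonoidHom := by
    refine (Subgroup.closure_le _).2 ?_
    rintro x (hx | ⟨y, hy, rfl⟩)
    · exact derived_le_cpl (derived_conj hk hx)
    · show k * ⁅g, y⁆ * k⁻¹ ∈ cpl π K g
      obtain ⟨z, hz, e⟩ := C.diff (x := k * g * k⁻¹) (y := g)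
        (by rw [map_mul, map_mul, map_inv, ← hc.eq, mul_inv_cancel_right])
      rw [show k * ⁅g, y⁆ * k⁻¹ = ⁅k * g * k⁻¹, k * y * k⁻¹⁆ by simp only [commutatorElement_def]; group, e,
        show ⁅g * z, k * y * k⁻¹⁆ = g * (z * (k * y * k⁻¹)) * z⁻¹ * g⁻¹ * (k * y * k⁻¹)⁻¹ by
          simp only [commutatorElement_def]; group, ← (C.ker_comm hz (k * y * k⁻¹)).eq,
        show g * ((k * y * k⁻¹) * z) * z⁻¹ * g⁻¹ * (k * y * k⁻¹)⁻¹ = ⁅g, k * y * k⁻¹⁆ by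
          simp only [commutatorElement_def]; group]
      exact comm_mem_cpl (comap_conj hk hy)
  exact hle hx

/-- commuting elements cut out the same complement -/
theorem cpl_le_cpl {g g' : Γ} (hg' : ∀ a ∈ K, π g' * a * (π g')⁻¹ ∈ K) (hc : Commute (π g) (π g'))
    (hmap : (cpl π K g).map π = K) : cpl π K g' ≤ cpl π K g := by
  refine (Subgroup.closure_le _).2 ?_
  rintro x (hx | ⟨y, hy, rfl⟩)
  · exact derived_le_cpl hx
  · obtain ⟨m, hm, e⟩ : π y ∈ (cpl π K g).map π := hmap.symm ▸ hy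
    obtain ⟨z, hz, rfl⟩ := C.diff (x := y) (y := m) e.symm
    rw [show ⁅g', m * z⁆ = g' * m * (z * g'⁻¹) * z⁻¹ * m⁻¹ by simp only [commutatorElement_def]; group,
      ← (C.ker_comm hz g'⁻¹).eq, show g' * m * (g'⁻¹ * z) * z⁻¹ * m⁻¹ = g' * m * g'⁻¹ * m⁻¹ by group]
    exact mul_mem (cpl_conj C hg' hc hm) (inv_mem hm)

end CfsgLib.Known.UnitMult
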