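import Cfsg.Agent.Lib.Known.SympMult.Tools
import Cfsg.Prelude.Def_KGroupFacts

/-!
# Subgroups over which a central extension has no stem part

For a central extension `σ : Γ →* G` with kernel an `l`-group, a subgroup `K` is good when the kernel meets the
derived subgroup of the preimage of `K` trivially.
-/

set_option autoImplicit false
set_option linter.unusedSectionVars false

namespace CfsgLib.Known.UnitMult

open CfsgLib.Known.SympMult
open scoped commutatorElement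

variable {G Γ : Type*} [Group G] [Group Γ] (σ : Γ →* G)

/-- the kernel meets the derived subgroup of the preimage trivially -/
def Good (K : Subgroup G) : Prop := ∀ z ∈ ⁅K.comap σ, K.comap σ⁆, σ z = 1 → z = 1

/-- a subgroup generated by `p`-elements -/
def Gen (p : ℕ) (K : Subgroup G) : Prop := K ≤ Subgroup.closure {g | g ∈ K ∧ ∃ e : ℕ, g ^ p ^ e = 1}

theorem Gen.sup {p : ℕ} {K K' : Subgroup G} (h : Gen p K) (h' : Gen p K') : Gen p (K ⊔ K') :=
  sup_le (h.trans (Subgroup.closure_mono fun _ hg => ⟨Subgroup.mem_sup_left hg.1, hg.2⟩))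
    (h'.trans (Subgroup.closure_mono fun _ hg => ⟨Subgroup.mem_sup_right hg.1, hg.2⟩))

theorem gen_bot (p : ℕ) : Gen p (⊥ : Subgroup G) := bot_le

variable {σ}

theorem Good.mono {K K' : Subgroup G} (h : K ≤ K') (hK : Good σ K') : Good σ K := fun z hz =>
  hK z (Subgroup.commutator_mono (Subgroup.comap_mono h) (Subgroup.comap_mono h) hz)

theorem exists_mul_of_commute {A B : Subgroup Γ} (h : ∀ a ∈ A, ∀ b ∈ B, Commute a b) {x : Γ} (hx : x ∈ A ⊔ B) :
    ∃ a ∈ A, ∃ b ∈ B, x = a * b := by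
  have hc : ∀ (a : A) (b : B), Commute (A.subtype a) (B.subtype b) := fun a b => h a a.2 b b.2
  have hr : (MonoidHom.noncommCoprod A.subtype B.subtype hc).range = A ⊔ B := by
    rw [MonoidHom.noncommCoprod_range, Subgroup.range_subtype, Subgroup.range_subtype]
  rw [← hr] at hx
  obtain ⟨⟨a, b⟩, rfl⟩ := hx
  exact ⟨a, a.2, b, b.2, rfl⟩

/-- commutators in a group generated by an abelian normal subgroup and one element -/
theorem comm_range {X : Type*} [Group X] (A : Subgroup X) [A.Normal] (hA : ∀ a ∈ A, ∀ b ∈ A, Commute a b) (c : X)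
    (hgen : A ⊔ Subgroup.zpowers c = ⊤) {z : X} (hz : z ∈ commutator X) : ∃ a ∈ A, z = ⁅a, c⁆ := by
  have hmem : ∀ a ∈ A, ⁅a, c⁆ ∈ A := fun a ha => by
    rw [commutatorElement_def, show a * c * a⁻¹ * c⁻¹ = a * (c * a⁻¹ * c⁻¹) by group]
    exact mul_mem ha (Subgroup.Normal.conj_mem inferInstance _ (inv_mem ha) c)
  let ψ : A →* X := MonoidHom.mk' (fun a => ⁅(a : X), c⁆) fun a b => by
    rw [Subgroup.coe_mul, show ⁅(a : X) * b, c⁆ = a * ⁅(b : X), c⁆ * (a : X)⁻¹ * ⁅(a : X), c⁆ by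
      simp only [commutatorElement_def]; group, (hA _ a.2 _ (hmem _ b.2)).eq, mul_inv_cancel_right,
      (hA _ (hmem _ b.2) _ (hmem _ a.2)).eq]
  have hψ : ∀ g, g ∈ ψ.range ↔ ∃ a ∈ A, g = ⁅a, c⁆ := fun g =>
    ⟨fun ⟨a, ha⟩ => ⟨a, a.2, ha.symm⟩, fun ⟨a, ha, e⟩ => ⟨⟨a, ha⟩, e.symm⟩⟩
  have hDA : ∀ g ∈ ψ.range, g ∈ A := fun g hg => by
    obtain ⟨a, ha, rfl⟩ := (hψ g).1 hg; exact hmem a ha
  have hN : ψ.range.Normal := by
    refine ⟨fun g hg x => ?_⟩
    have hx : x ∈ A ⊔ Subgroup.zpowers c := hgen ▸ Subgroup.mem_top x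
    obtain ⟨a, ha, k, hk, rfl⟩ := Subgroup.mem_sup_of_normal_left.1 hx
    obtain ⟨n, rfl⟩ := Subgroup.mem_zpowers_iff.1 hk
    obtain ⟨b, hb, rfl⟩ := (hψ g).1 hg
    have h1 : c ^ n * ⁅b, c⁆ * (c ^ n)⁻¹ = ⁅c ^ n * b * (c ^ n)⁻¹, c⁆ := by
      simp only [commutatorElement_def]
      group
    have h3 : c ^ n * b * (c ^ n)⁻¹ ∈ A := Subgroup.Normal.conj_mem inferInstance b hb _
    rw [show a * c ^ n * ⁅b, c⁆ * (a * c ^ n)⁻¹ = a * (c ^ n * ⁅b, c⁆ * (c ^ n)⁻¹) * a⁻¹ by group, h1,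
      (hA a ha _ (hmem _ h3)).eq, mul_inv_cancel_right]
    exact (hψ _).2 ⟨_, h3, rfl⟩
  obtain ⟨π, hπ⟩ : ∃ π, π = QuotientGroup.mk' ψ.range := ⟨_, rfl⟩
  have hcomm : ∀ a ∈ A, Commute (π a) (π c) := fun a ha => by
    rw [← commutatorElement_eq_one_iff_commute, ← map_commutatorElement, hπ, ← MonoidHom.mem_ker,
      QuotientGroup.ker_mk']
    exact (hψ _).2 ⟨a, ha, rfl⟩
  have hab : IsMulCommutative (Subgroup.closure (π '' A ∪ {π c})) := by
    refine Subgroup.isMulCommutative_closure fun u hu v hv => ?_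
    rcases hu with ⟨a, ha, rfl⟩ | rfl <;> rcases hv with ⟨b, hb, rfl⟩ | rfl
    · exact ((hA a ha b hb).map π).eq
    · exact (hcomm a ha).eq
    · exact (hcomm b hb).symm.eq
    · rfl
  have htop : ∀ x, π x ∈ Subgroup.closure (π '' A ∪ {π c}) := fun x => by
    have hx : x ∈ A ⊔ Subgroup.zpowers c := hgen ▸ Subgroup.mem_top x
    obtain ⟨a, ha, k, hk, rfl⟩ := Subgroup.mem_sup_of_normal_left.1 hx
    obtain ⟨n, rfl⟩ := Subgroup.mem_zpowers_iff.1 hk
    have h1 : π a ∈ Subgroup.closure (π '' A ∪ {π c}) :=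
      Subgroup.subset_closure (Set.mem_union_left _ (Set.mem_image_of_mem π ha))
    have h2 : π c ∈ Subgroup.closure (π '' A ∪ {π c}) :=
      Subgroup.subset_closure (Set.mem_union_right _ (Set.mem_singleton (π c)))
    rw [map_mul, map_zpow]
    exact Subgroup.mul_mem _ h1 (Subgroup.zpow_mem _ h2 n)
  have hle : commutator X ≤ ψ.range := by
    rw [commutator_def, Subgroup.commutator_le]
    intro x _ y _
    rw [← QuotientGroup.ker_mk' ψ.range, ← hπ, MonoidHom.mem_ker, map_commutatorElement,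
      commutatorElement_eq_one_iff_commute]
    exact congrArg Subtype.val (hab.is_comm.comm ⟨π x, htop x⟩ ⟨π y, htop y⟩)
  exact (hψ z).1 (hle hz)

/-- commutators in a subgroup generated by a subgroup abelian modulo `M` and one element -/
theorem comm_decomp {A M : Subgroup Γ} {c : Γ} (hcA : ∀ a ∈ A, c * a * c⁻¹ ∈ A) (hcA' : ∀ a ∈ A, c⁻¹ * a * c ∈ A)
    (hMA : M ≤ A) (hM : ∀ g ∈ A ⊔ Subgroup.zpowers c, ∀ m ∈ M, g * m * g⁻¹ ∈ M) (hAA : ⁅A, A⁆ ≤ M) {z : Γ}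
    (hz : z ∈ ⁅A ⊔ Subgroup.zpowers c, A ⊔ Subgroup.zpowers c⁆) : ∃ a ∈ A, ∃ m ∈ M, z = ⁅a, c⁆ * m := by
  obtain ⟨H, hH⟩ : ∃ H, H = A ⊔ Subgroup.zpowers c := ⟨_, rfl⟩
  rw [← hH] at hz hM
  have hcH : c ∈ H := hH ▸ Subgroup.mem_sup_right (Subgroup.mem_zpowers c)
  have hAH : A ≤ H := hH ▸ le_sup_left
  have : (M.subgroupOf H).Normal := ⟨fun m hm g => hM g g.2 m hm⟩
  obtain ⟨π, hπ⟩ : ∃ π, π = QuotientGroup.mk' (M.subgroupOf H) := ⟨_, rfl⟩
  obtain ⟨A', hA'⟩ : ∃ A', A' = (A.subgroupOf H).map π := ⟨_, rfl⟩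
  have hπs : Function.Surjective π := hπ ▸ QuotientGroup.mk'_surjective _
  have hnc : ∀ x : H, ∀ a ∈ A, (x : Γ) * a * (x : Γ)⁻¹ ∈ A := by
    have hle : H ≤ Subgroup.normalizer (A : Set Γ) := by
      rw [hH]
      refine sup_le A.le_normalizer (Subgroup.zpowers_le.2 ?_)
      rw [Subgroup.mem_normalizer_iff]
      intro a
      refine ⟨fun ha => hcA a ha, fun ha => ?_⟩
      have := hcA' _ ha
      rwa [show c⁻¹ * (c * a * c⁻¹) * c = a by group] at this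
    exact fun x a ha => (Subgroup.mem_normalizer_iff.1 (hle x.2) a).1 ha
  have : (A.subgroupOf H).Normal := ⟨fun a ha g => hnc g a ha⟩
  have : A'.Normal := hA' ▸ Subgroup.Normal.map inferInstance π hπs
  have hAc : ∀ a ∈ A', ∀ b ∈ A', Commute a b := by
    rw [hA']
    rintro _ ⟨a, ha, rfl⟩ _ ⟨b, hb, rfl⟩
    rw [← commutatorElement_eq_one_iff_commute, ← map_commutatorElement, hπ, ← MonoidHom.mem_ker,
      QuotientGroup.ker_mk', Subgroup.mem_subgroupOf]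
    exact hAA (Subgroup.commutator_mem_commutator ha hb)
  have hgen : A' ⊔ Subgroup.zpowers (π ⟨c, hcH⟩) = ⊤ := by
    rw [hA', ← MonoidHom.map_zpowers, ← Subgroup.map_sup, show A.subgroupOf H ⊔ Subgroup.zpowers ⟨c, hcH⟩ = ⊤ from ?_,
      Subgroup.map_top_of_surjective π hπs]
    refine Subgroup.map_injective H.subtype_injective ?_
    rw [Subgroup.map_sup, MonoidHom.map_zpowers, Subgroup.map_subgroupOf_eq_of_le hAH, ← MonoidHom.range_eq_map,
      Subgroup.range_subtype]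
    exact hH.symm
  rw [← Subgroup.map_subtype_commutator] at hz
  obtain ⟨z', hz', rfl⟩ := hz
  have hzπ : π z' ∈ commutator (H ⧸ M.subgroupOf H) := by
    have h3 : (commutator H).map π ≤ commutator (H ⧸ M.subgroupOf H) := by
      rw [commutator_def, commutator_def, Subgroup.map_commutator]
      exact Subgroup.commutator_mono le_top le_top
    exact h3 ⟨z', hz', rfl⟩
  obtain ⟨_, ha', e⟩ := comm_range A' hAc _ hgen hzπ
  rw [hA'] at ha'
  obtain ⟨a, ha, rfl⟩ := ha'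
  rw [← map_commutatorElement, hπ, QuotientGroup.mk'_apply, QuotientGroup.mk'_apply, eq_comm, QuotientGroup.eq] at e
  refine ⟨a, ha, _, Subgroup.mem_subgroupOf.1 e, ?_⟩
  show (z' : Γ) = _
  push_cast [Subgroup.coe_mul, Subgroup.coe_inv]
  simp [commutatorElement_def, mul_assoc]

variable (C : CExt σ)
include C

/-- the kernel is abelian, so the lifts of a cyclic group commute -/
theorem commute_of_powers {g : G} {x y : Γ} (hx : σ x ∈ Subgroup.zpowers g) (hy : σ y ∈ Subgroup.zpowers g) :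
    Commute x y := by
  obtain ⟨m, hm⟩ := Subgroup.mem_zpowers_iff.1 hx
  obtain ⟨n, hn⟩ := Subgroup.mem_zpowers_iff.1 hy
  obtain ⟨u, rfl⟩ := C.surj g
  obtain ⟨z, hz, rfl⟩ := C.diff (x := x) (y := u ^ m) (by rw [map_zpow, hm])
  obtain ⟨w, hw, rfl⟩ := C.diff (x := y) (y := u ^ n) (by rw [map_zpow, hn])
  exact Commute.mul_left
    (Commute.mul_right ((Commute.refl u).zpow_zpow m n) (C.ker_comm hw _))
    (Commute.mul_right (C.ker_comm hz _).symm (C.ker_comm hw _))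

variable [Finite Γ] {l : ℕ} [hl : Fact l.Prime] (hZ : IsPGroup l σ.ker)
include hZ

theorem eq_one_of_pow {N : ℕ} (hN : ¬ l ∣ N) {z : Γ} (hz : σ z = 1) (h : z ^ N = 1) : z = 1 := by
  obtain ⟨e, he⟩ := hZ ⟨z, hz⟩
  have he' : z ^ l ^ e = 1 := congrArg Subtype.val he
  have h1 : orderOf z ∣ Nat.gcd (l ^ e) N :=
    Nat.dvd_gcd (orderOf_dvd_of_pow_eq_one he') (orderOf_dvd_of_pow_eq_one h)
  rw [((hl.out.coprime_iff_not_dvd.2 hN).pow_left e).gcd_eq_one, Nat.dvd_one, orderOf_eq_one_iff] at h1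
  exact h1

/-- transfer to a subgroup of index prime to `l` -/
theorem good_of_transfer {P K : Subgroup G} (hPK : P ≤ K) (hP : Good σ P) (hidx : ¬ l ∣ P.relIndex K) :
    Good σ K := by
  intro z hz hz1
  obtain ⟨Kh, hKh⟩ : ∃ Kh, Kh = K.comap σ := ⟨_, rfl⟩
  rw [← hKh] at hz
  obtain ⟨Ph, hPh⟩ : ∃ Ph, Ph = (P.comap σ).subgroupOf Kh := ⟨_, rfl⟩
  rw [← Subgroup.map_subtype_commutator] at hz
  obtain ⟨z', hz', rfl⟩ := hz
  obtain ⟨φ, hφ⟩ : ∃ φ : Ph →* Abelianization Ph, φ = Abelianization.of := ⟨_, rfl⟩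
  have hzc : ∀ g : Kh, g * z' = z' * g := fun g => Subtype.ext (Subgroup.mem_center_iff.1 (C.central hz1) _)
  have hkey : ∀ (k : ℕ) (g₀ : Kh), g₀⁻¹ * z' ^ k * g₀ ∈ Ph → g₀⁻¹ * z' ^ k * g₀ = z' ^ k := fun k g₀ _ => by
    rw [mul_assoc, ← (Commute.pow_right (hzc g₀) k).eq, inv_mul_cancel_left]
  have h1 := MonoidHom.transfer_eq_pow φ z' hkey
  rw [MonoidHom.mem_ker.1 (Abelianization.commutator_subset_ker _ hz')] at h1
  have hidx' : Ph.index = P.relIndex K := by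
    rw [hPh, hKh, ← Subgroup.relIndex, Subgroup.relIndex_comap, Subgroup.map_comap_eq_self_of_surjective C.surj]
  have hmem : (⟨z' ^ Ph.index, MonoidHom.transfer_eq_pow_aux z' hkey⟩ : Ph) ∈ commutator Ph := by
    rw [← Abelianization.ker_of, MonoidHom.mem_ker, ← hφ]
    exact h1.symm
  have h2 : ((z' : Γ)) ^ Ph.index ∈ ⁅P.comap σ, P.comap σ⁆ := by
    have h3 : (z' : Γ) ^ Ph.index ∈ ((commutator Ph).map Ph.subtype).map Kh.subtype :=
      ⟨_, ⟨_, hmem, rfl⟩, rfl⟩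
    rw [Subgroup.map_subtype_commutator, Subgroup.map_commutator] at h3
    have h4 : Ph.map Kh.subtype ≤ P.comap σ := by
      rw [hPh, Subgroup.subgroupOf_map_subtype]; exact inf_le_left
    exact Subgroup.commutator_mono h4 h4 h3
  refine eq_one_of_pow C hZ hidx hz1 ?_
  rw [← hidx']
  exact hP _ h2 (by rw [map_pow]; erw [hz1]; rw [one_pow])

/-- it is enough that the `l`-subgroups are good -/
theorem good_of_sylow {K : Subgroup G} (h : ∀ P ≤ K, IsPGroup l P → Good σ P) : Good σ K := by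
  have : Finite G := Finite.of_surjective σ C.surj
  obtain ⟨P⟩ : Nonempty (Sylow l K) := inferInstance
  refine good_of_transfer C hZ (P := (P : Subgroup K).map K.subtype) (Subgroup.map_subtype_le _)
    (h _ (Subgroup.map_subtype_le _) (P.isPGroup'.map _)) ?_
  rw [Subgroup.relIndex, Subgroup.subgroupOf,
    Subgroup.comap_map_eq_self_of_injective K.subtype_injective]
  exact P.not_dvd_index

variable {p : ℕ} (hlp : ¬ l ∣ p)
include hlp

theorem exists_pelt_lift {g : G} {e : ℕ} (hg : g ^ p ^ e = 1) : ∃ y, σ y = g ∧ y ^ p ^ e = 1 := by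
  obtain ⟨y, rfl⟩ := C.surj g
  have hcop : (Nat.card σ.ker).Coprime (p ^ e) := by
    obtain ⟨k, hk⟩ := IsPGroup.iff_card.1 hZ
    rw [hk]
    exact Nat.Coprime.pow k e (hl.out.coprime_iff_not_dvd.2 hlp)
  obtain ⟨w, hw⟩ := (powCoprime hcop).surjective ⟨y ^ p ^ e, by rw [MonoidHom.mem_ker, map_pow, hg]⟩
  have hw' : (w : Γ) ^ p ^ e = y ^ p ^ e := congrArg Subtype.val hw
  refine ⟨y * (w : Γ)⁻¹, by rw [map_mul, map_inv, MonoidHom.mem_ker.1 w.2, inv_one, mul_one], ?_⟩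
  rw [((C.ker_comm w.2 y).inv_right).mul_pow, inv_pow, hw', mul_inv_cancel]

/-- lifts of a group generated by `p`-elements commute with lifts of its centralisers -/
theorem pairing {K : Subgroup G} (hK : Gen p K) {y : Γ} (hy : ∀ k ∈ K, Commute k (σ y)) {x : Γ} (hx : σ x ∈ K) :
    Commute x y := by
  let S : Subgroup G :=
    { carrier := {k | Commute k (σ y) ∧ ∀ u, σ u = k → Commute u y}
      one_mem' := ⟨Commute.one_left _, fun u hu => (C.ker_comm hu y).symm⟩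
      mul_mem' := fun {a b} ha hb => ⟨ha.1.mul_left hb.1, fun u hu => by
        obtain ⟨v, rfl⟩ := C.surj a
        obtain ⟨w, rfl⟩ := C.surj b
        obtain ⟨z, hz, rfl⟩ := C.diff (x := u) (y := v * w) (by rw [hu, map_mul])
        exact ((ha.2 v rfl).mul_left (hb.2 w rfl)).mul_left (C.ker_comm hz y).symm⟩
      inv_mem' := fun {a} ha => ⟨ha.1.inv_left, fun u hu => by
        have := (ha.2 u⁻¹ (by rw [map_inv, hu, inv_inv])).inv_left
        rwa [inv_inv] at this⟩ }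
  have hle : K ≤ S := hK.trans ((Subgroup.closure_le _).2 fun k hk => by
    obtain ⟨hkK, e, he⟩ := hk
    refine ⟨hy k hkK, fun u hu => ?_⟩
    obtain ⟨c, hc⟩ : ∃ c, c = ⁅u, y⁆ := ⟨_, rfl⟩
    have hc1 : σ c = 1 := by
      rw [hc, map_commutatorElement, hu, commutatorElement_eq_one_iff_commute.2 (hy k hkK)]
    have hstep : ∀ n : ℕ, u ^ n * y = c ^ n * y * u ^ n := fun n => by
      induction n with
      | zero => simp
      | succ n ih =>
        have h1 : u * y = c * y * u := by rw [hc, commutatorElement_def]; group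
        calc u ^ (n + 1) * y = u ^ n * (u * y) := by rw [pow_succ, mul_assoc]
          _ = u ^ n * c * (y * u) := by rw [h1]; group
          _ = c * (u ^ n * y) * u := by rw [((C.ker_comm hc1 u).pow_left n).eq]; group
          _ = c ^ (n + 1) * y * u ^ (n + 1) := by rw [ih, pow_succ' c, pow_succ u]; group
    have h2 : σ (u ^ p ^ e) = 1 := by rw [map_pow, hu, he]
    have h3 := hstep (p ^ e)
    rw [mul_assoc, ← (C.ker_comm h2 y).eq, ← mul_assoc] at h3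
    have h4 : c ^ p ^ e = 1 := by
      have h5 := mul_right_cancel h3
      exact mul_eq_right.1 h5.symm
    have hpe : ¬ l ∣ p ^ e := fun h => hlp (hl.out.dvd_of_dvd_pow h)
    rw [← commutatorElement_eq_one_iff_commute, ← hc]
    exact eq_one_of_pow C hZ hpe hc1 h4)
  exact (hle hx).2 x rfl

/-- products of commuting good subgroups are good -/
theorem Good.sup {K₁ K₂ : Subgroup G} (hd : K₁ ⊓ K₂ = ⊥) (hc : ∀ a ∈ K₁, ∀ b ∈ K₂, Commute a b) (hg : Gen p K₁)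
    (h₁ : Good σ K₁) (h₂ : Good σ K₂) : Good σ (K₁ ⊔ K₂) := by
  have hcom : ∀ a ∈ K₁.comap σ, ∀ b ∈ K₂.comap σ, Commute a b := fun a ha b hb =>
    pairing C hZ hlp hg (y := b) (fun k hk => hc k hk _ hb) ha
  intro z hz hz1
  rw [← Subgroup.comap_sup_eq _ _ _ C.surj] at hz
  have hle : ⁅K₁.comap σ ⊔ K₂.comap σ, K₁.comap σ ⊔ K₂.comap σ⁆ ≤
      ⁅K₁.comap σ, K₁.comap σ⁆ ⊔ ⁅K₂.comap σ, K₂.comap σ⁆ := by
    rw [Subgroup.commutator_le]
    intro x hx y hy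
    obtain ⟨a, ha, b, hb, rfl⟩ := exists_mul_of_commute hcom hx
    obtain ⟨a', ha', b', hb', rfl⟩ := exists_mul_of_commute hcom hy
    have e : ⁅a * b, a' * b'⁆ = ⁅a, a'⁆ * ⁅b, b'⁆ := by
      have c1 := hcom a' ha' b hb
      have c2 := hcom a⁻¹ (inv_mem ha) b' hb'
      have c3 := hcom a'⁻¹ (inv_mem ha') b⁻¹ (inv_mem hb)
      simp only [commutatorElement_def, mul_inv_rev]
      calc a * b * (a' * b') * (b⁻¹ * a⁻¹) * (b'⁻¹ * a'⁻¹)
          = a * (b * a') * (b' * b⁻¹) * (a⁻¹ * b'⁻¹) * a'⁻¹ := by group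
        _ = a * (a' * b) * (b' * b⁻¹) * (b'⁻¹ * a⁻¹) * a'⁻¹ := by
          rw [c1.eq, (hcom a⁻¹ (inv_mem ha) b'⁻¹ (inv_mem hb')).eq]
        _ = a * a' * ((b * b' * b⁻¹ * b'⁻¹) * a⁻¹) * a'⁻¹ := by group
        _ = a * a' * (a⁻¹ * (b * b' * b⁻¹ * b'⁻¹)) * a'⁻¹ := by
          rw [(hcom a⁻¹ (inv_mem ha) _ (mul_mem (mul_mem (mul_mem hb hb') (inv_mem hb)) (inv_mem hb'))).eq]
        _ = a * a' * a⁻¹ * ((b * b' * b⁻¹ * b'⁻¹) * a'⁻¹) := by group
        _ = _ := by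
          rw [← (hcom a'⁻¹ (inv_mem ha') _
            (mul_mem (mul_mem (mul_mem hb hb') (inv_mem hb)) (inv_mem hb'))).eq]; group
    rw [e]
    exact Subgroup.mul_mem_sup (Subgroup.commutator_mem_commutator ha ha')
      (Subgroup.commutator_mem_commutator hb hb')
  have hA : ⁅K₁.comap σ, K₁.comap σ⁆ ≤ K₁.comap σ := Subgroup.commutator_le_self _
  have hB : ⁅K₂.comap σ, K₂.comap σ⁆ ≤ K₂.comap σ := Subgroup.commutator_le_self _
  obtain ⟨a, ha, b, hb, rfl⟩ := exists_mul_of_commute (fun a ha b hb => hcom a (hA ha) b (hB hb)) (hle hz)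
  rw [map_mul] at hz1
  have ha1 : σ a = 1 := by
    rw [← Subgroup.mem_bot, ← hd]
    exact Subgroup.mem_inf.2 ⟨hA ha, by rw [eq_inv_of_mul_eq_one_left hz1]; exact inv_mem (show σ b ∈ K₂ from hB hb)⟩
  rw [ha1, one_mul] at hz1
  rw [h₁ a ha ha1, h₂ b hb hz1, one_mul]

/-- the subgroup generated by the `p`-elements over a good subgroup is a complement of the kernel -/
theorem exists_star {L : Subgroup G} (hg : Gen p L) (hL : Good σ L) :
    ∃ M : Subgroup Γ, M.map σ = L ∧ (∀ x ∈ M, σ x = 1 → x = 1) ∧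
      ∀ g : Γ, (∀ k ∈ L, σ g * k * (σ g)⁻¹ ∈ L) → ∀ m ∈ M, g * m * g⁻¹ ∈ M := by
  refine ⟨Subgroup.closure {y | σ y ∈ L ∧ ∃ e : ℕ, y ^ p ^ e = 1}, ?_, ?_, fun g hgL => ?_⟩
  · refine le_antisymm ?_ (hg.trans ((Subgroup.closure_le _).2 ?_))
    · rw [MonoidHom.map_closure, Subgroup.closure_le]
      rintro _ ⟨y, hy, rfl⟩
      exact hy.1
    · rintro k ⟨hk, e, he⟩
      obtain ⟨y, hy, hy'⟩ := exists_pelt_lift C hZ hlp he
      exact ⟨y, Subgroup.subset_closure ⟨hy ▸ hk, e, hy'⟩, hy⟩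
  · intro x hx hx1
    obtain ⟨Lh, hLh⟩ : ∃ Lh, Lh = L.comap σ := ⟨_, rfl⟩
    let S : Subgroup Γ :=
      { carrier := {y | ∃ hy : y ∈ Lh, ∃ e : ℕ, Abelianization.of (⟨y, hy⟩ : Lh) ^ p ^ e = 1}
        one_mem' := ⟨one_mem _, 0, by
          rw [pow_zero, pow_one]; exact map_one _⟩
        mul_mem' := by
          rintro a b ⟨ha, e, he⟩ ⟨hb, e', he'⟩
          refine ⟨mul_mem ha hb, e + e', ?_⟩
          rw [show (⟨a * b, mul_mem ha hb⟩ : Lh) = ⟨a, ha⟩ * ⟨b, hb⟩ from rfl, map_mul, mul_pow, pow_add,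
            pow_mul, he, one_pow, one_mul, mul_comm, pow_mul, he', one_pow]
        inv_mem' := by
          rintro a ⟨ha, e, he⟩
          refine ⟨inv_mem ha, e, ?_⟩
          rw [show (⟨a⁻¹, inv_mem ha⟩ : Lh) = ⟨a, ha⟩⁻¹ from rfl, map_inv, inv_pow, he, inv_one] }
    have hxS : x ∈ S := by
      refine (Subgroup.closure_le S).2 ?_ hx
      rintro y ⟨hy, e, he⟩
      refine ⟨hLh ▸ hy, e, ?_⟩
      rw [← map_pow, show (⟨y, hLh ▸ hy⟩ : Lh) ^ p ^ e = 1 from Subtype.ext he, map_one]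
    obtain ⟨hxL, e, he⟩ := hxS
    obtain ⟨k, hk⟩ := hZ ⟨x, hx1⟩
    have hk' : Abelianization.of (⟨x, hxL⟩ : Lh) ^ l ^ k = 1 := by
      rw [← map_pow, show (⟨x, hxL⟩ : Lh) ^ l ^ k = 1 from Subtype.ext (congrArg Subtype.val hk :), map_one]
    have h1 : Abelianization.of (⟨x, hxL⟩ : Lh) = 1 := by
      have h2 := Nat.dvd_gcd (orderOf_dvd_of_pow_eq_one hk') (orderOf_dvd_of_pow_eq_one he)
      rw [(Nat.Coprime.pow k e (hl.out.coprime_iff_not_dvd.2 hlp)).gcd_eq_one, Nat.dvd_one,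
        orderOf_eq_one_iff] at h2
      exact h2
    rw [← MonoidHom.mem_ker, Abelianization.ker_of] at h1
    refine hL x ?_ hx1
    rw [← hLh, ← Subgroup.map_subtype_commutator]
    exact ⟨_, h1, rfl⟩
  · intro m hm
    have hm' : m ∈ (Subgroup.closure {y | σ y ∈ L ∧ ∃ e : ℕ, y ^ p ^ e = 1}).comap (MulAut.conj g).toMonoidHom := by
      refine (Subgroup.closure_le _).2 ?_ hm
      rintro y ⟨hy, e, he⟩
      refine Subgroup.subset_closure ⟨?_, e, ?_⟩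
      · show σ (g * y * g⁻¹) ∈ L
        rw [map_mul, map_mul, map_inv]; exact hgL _ hy
      · show (g * y * g⁻¹) ^ p ^ e = 1
        rw [conj_pow, he, mul_one, mul_inv_cancel]
    exact hm'

omit hZ hlp

/-- a subgroup generated by `A` and one element is good when the commutators with it are small -/
theorem good_of_gen {L A H : Subgroup G} {M : Subgroup Γ} (hML : M.map σ = L) (hMZ : ∀ x ∈ M, σ x = 1 → x = 1)
    (hMn : ∀ g : Γ, (∀ k ∈ L, σ g * k * (σ g)⁻¹ ∈ L) → ∀ m ∈ M, g * m * g⁻¹ ∈ M)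
    (hLA : L ≤ A) {c : Γ} (hH : H ≤ A ⊔ Subgroup.zpowers (σ c))
    (hcA : ∀ a, σ c * a * (σ c)⁻¹ ∈ A ↔ a ∈ A) (hnL : ∀ g ∈ A ⊔ Subgroup.zpowers (σ c), ∀ k ∈ L, g * k * g⁻¹ ∈ L)
    (hAA : ∀ x y, σ x ∈ A → σ y ∈ A → ⁅x, y⁆ ∈ M)
    (hfix : ∀ x, σ x ∈ A → ⁅σ x, σ c⁆ ∈ L → ⁅x, c⁆ ∈ M) : Good σ H := by
  intro z hz hz1
  have hle : H.comap σ ≤ A.comap σ ⊔ Subgroup.zpowers c := by
    refine (Subgroup.comap_mono hH).trans ?_
    rw [← MonoidHom.map_zpowers]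
    conv_lhs => rw [← Subgroup.map_comap_eq_self_of_surjective C.surj A, ← Subgroup.map_sup, Subgroup.comap_map_eq]
    exact sup_le le_rfl ((Subgroup.ker_le_comap σ A).trans le_sup_left)
  have hz' := Subgroup.commutator_mono hle hle hz
  have hgA : ∀ g ∈ A.comap σ ⊔ Subgroup.zpowers c, σ g ∈ A ⊔ Subgroup.zpowers (σ c) := fun g hg => by
    have h1 : σ g ∈ (A.comap σ ⊔ Subgroup.zpowers c).map σ := ⟨g, hg, rfl⟩
    rwa [Subgroup.map_sup, MonoidHom.map_zpowers, Subgroup.map_comap_eq_self_of_surjective C.surj] at h1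
  have hMA : M ≤ A.comap σ := fun m hm => hLA (hML ▸ ⟨m, hm, rfl⟩)
  obtain ⟨a, ha, m, hm, rfl⟩ := comm_decomp (A := A.comap σ) (M := M) (c := c)
    (fun a ha => show σ (c * a * c⁻¹) ∈ A by rw [map_mul, map_mul, map_inv]; exact (hcA _).2 ha)
    (fun a ha => show σ (c⁻¹ * a * c) ∈ A by
      refine (hcA _).1 ?_
      have : σ c * σ (c⁻¹ * a * c) * (σ c)⁻¹ = σ a := by simp [mul_assoc]
      rw [this]; exact ha)
    hMA (fun g hg => hMn g (hnL _ (hgA g hg)))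
    (Subgroup.commutator_le.2 fun x hx y hy => hAA x y hx hy) hz'
  rw [map_mul] at hz1
  have h1 : ⁅σ a, σ c⁆ ∈ L := by
    rw [← map_commutatorElement, eq_inv_of_mul_eq_one_left hz1]
    exact inv_mem (hML ▸ ⟨m, hm, rfl⟩)
  refine hMZ _ (mul_mem (hfix a ha h1) hm) ?_
  rw [map_mul, hz1]

/-- semidirect products with a complement of the kernel -/
theorem good_of_complement {X Y : Subgroup G} {M : Subgroup Γ} (hMZ : ∀ x ∈ M, σ x = 1 → x = 1)
    (hMn : ∀ g, σ g ∈ Y → ∀ m ∈ M, g * m * g⁻¹ ∈ M) (hd : M.map σ ⊓ Y = ⊥) (hY : Good σ Y)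
    (hX : ∀ x ∈ X, ∃ m ∈ M, ∃ y ∈ Y, x = σ m * y) : Good σ X := by
  obtain ⟨D, hD⟩ : ∃ D, D = ⁅Y.comap σ, Y.comap σ⁆ := ⟨_, rfl⟩
  have hDY : D ≤ Y.comap σ := hD ▸ Subgroup.commutator_le_self _
  let S : Subgroup Γ :=
    { carrier := {g | ∃ m ∈ M, ∃ d ∈ D, g = m * d}
      one_mem' := ⟨1, one_mem _, 1, one_mem _, (one_mul 1).symm⟩
      mul_mem' := by
        rintro _ _ ⟨m, hm, d, hd, rfl⟩ ⟨m', hm', d', hd', rfl⟩
        exact ⟨m * (d * m' * d⁻¹), mul_mem hm (hMn d (hDY hd) m' hm'), d * d', mul_mem hd hd', by group⟩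
      inv_mem' := by
        rintro _ ⟨m, hm, d, hd, rfl⟩
        exact ⟨d⁻¹ * m⁻¹ * d⁻¹⁻¹, hMn _ (hDY (inv_mem hd)) _ (inv_mem hm), d⁻¹, inv_mem hd, by group⟩ }
  intro z hz hz1
  have hle : ⁅X.comap σ, X.comap σ⁆ ≤ S := by
    rw [Subgroup.commutator_le]
    intro x hx y hy
    obtain ⟨m, hm, u, hu, ex⟩ := hX _ hx
    obtain ⟨m', hm', v, hv, ey⟩ := hX _ hy
    obtain ⟨a, rfl⟩ : ∃ a, x = m * a := ⟨m⁻¹ * x, by group⟩
    obtain ⟨b, rfl⟩ : ∃ b, y = m' * b := ⟨m'⁻¹ * y, by group⟩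
    rw [map_mul, mul_right_inj] at ex ey
    have ha : σ a ∈ Y := ex ▸ hu
    have hb : σ b ∈ Y := ey ▸ hv
    refine ⟨m * (a * m' * a⁻¹) * ((⁅a, b⁆ * b) * m⁻¹ * (⁅a, b⁆ * b)⁻¹) * (⁅a, b⁆ * m'⁻¹ * ⁅a, b⁆⁻¹), ?_, ⁅a, b⁆,
      hD ▸ Subgroup.commutator_mem_commutator ha hb, by simp only [commutatorElement_def]; group⟩
    have hab : σ ⁅a, b⁆ ∈ Y := by
      rw [map_commutatorElement, commutatorElement_def]
      exact mul_mem (mul_mem (mul_mem ha hb) (inv_mem ha)) (inv_mem hb)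
    exact mul_mem (mul_mem (mul_mem hm (hMn a ha m' hm'))
      (hMn _ (by rw [map_mul]; exact mul_mem hab hb) _ (inv_mem hm))) (hMn _ hab _ (inv_mem hm'))
  obtain ⟨m, hm, d, hd', rfl⟩ := hle hz
  rw [map_mul] at hz1
  have hm1 : σ m = 1 := by
    rw [← Subgroup.mem_bot, ← hd]
    exact Subgroup.mem_inf.2 ⟨⟨m, hm, rfl⟩, by rw [eq_inv_of_mul_eq_one_left hz1]; exact inv_mem (show σ d ∈ Y from hDY hd')⟩
  rw [hm1, one_mul] at hz1
  rw [hMZ m hm hm1, one_mul]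
  exact hY d (hD ▸ hd') hz1

end CfsgLib.Known.UnitMult
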