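import Cfsg.Agent.Lib.Known.UnitMult.Radical
import Cfsg.Agent.Lib.Known.UnitMult.Ext

/-!
# The special unitary groups of subspaces are generated by elements of `p`-power order
-/

set_option autoImplicit false
set_option linter.unusedSectionVars false

namespace CfsgLib.Known.UnitMult

open CfsgLib.Classical CfsgLib.Classical.Herm
open CfsgLib.Classical.Herm.IsHerm (restrict restrict_apply)

variable {F : Type*} [Field F] {V : Type*} [AddCommGroup V] [Module F V] {σ : F →+* F}
  {B : V →ₛₗ[σ] V →ₗ[F] F} [Finite F] [FiniteDimensional F V] (h : IsHerm B)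
include h

theorem SW_inf {U W : Submodule F V} (hU : ND B U) (hW : ND B W) (hle : U ≤ W) {g : HSU B} (hg : g ∈ SW h W)
    (hfix : ∀ x ∈ U, ap g x = x) : g ∈ SW h (W ⊓ h.orth U) := by
  intro y hy
  obtain ⟨w, r, rfl⟩ := CfsgLib.Classical.exists_decomp (h.isCompl_orth hW) y
  obtain ⟨hnd, hsup⟩ := nd_inf h hU hW hle
  obtain ⟨u, hu, u', hu', e⟩ := Submodule.mem_sup.1 (hsup.symm ▸ w.2 : (w : V) ∈ U ⊔ (W ⊓ h.orth U))
  have h0 : u' = 0 := hnd u' hu' fun x hx => by
    have h1 := h.eq_zero_symm (h.mem_orth.1 hy x hx)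
    rw [← e, add_left, add_left, h.mem_orth.1 hx.2 u hu, mem_orth_symm h hx.1 r.2, zero_add, add_zero] at h1
    exact h1
  rw [h0, add_zero] at e
  rw [map_add, hg r r.2, ← e, hfix u hu]

/-- a transvection as a special isometry -/
noncomputable def trS {u : V} (hu : B u u = 0) {c : F} (hc : c + σ c = 0) : HSU B :=
  ⟨h.tr hu hc, h.det_tr hu hc⟩

theorem trS_apply {u : V} (hu : B u u = 0) {c : F} (hc : c + σ c = 0) (y : V) :
    ap (trS h hu hc) y = y + (c * B u y) • u := h.tr_apply hu hc y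

theorem trS_mem {W : Submodule F V} {u : V} (huW : u ∈ W) (hu : B u u = 0) {c : F} (hc : c + σ c = 0) :
    trS h hu hc ∈ SW h W := fun y hy => by
  rw [trS_apply, h.mem_orth.1 hy u huW, mul_zero, zero_smul, add_zero]

theorem trS_pow {p : ℕ} [CharP F p] {u : V} (hu : B u u = 0) {c : F} (hc : c + σ c = 0) :
    trS h hu hc ^ p ^ 1 = 1 := by
  have key : ∀ (n : ℕ) (y : V), ap (trS h hu hc ^ n) y = y + ((n : F) * c * B u y) • u := by
    intro n
    induction n with
    | zero => intro y; simp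
    | succ n ih =>
      intro y
      rw [pow_succ, ap_mul, trS_apply, ih, map_add, smul_right, hu]
      push_cast
      module
  exact ap_ext fun y => by simp [key]

variable {a f : V} (P : Pair B a f)
include P

theorem rx_pow_exists {v : V} (hv : v ∈ perpP h a f) {t : F} (ht : t + σ t = -B v v) :
    ∀ n : ℕ, ∃ (hv' : (n : F) • v ∈ perpP h a f) (t' : F) (ht' : t' + σ t' = -B ((n : F) • v) ((n : F) • v)),
      rx h P v hv t ht ^ n = rx h P _ hv' t' ht' := by
  intro n
  induction n with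
  | zero =>
    refine ⟨Submodule.smul_mem _ _ hv, 0, by simp, ?_⟩
    rw [pow_zero, ← rx_zero h P (hv := zero_mem _) (ht := by simp)]
    exact rx_congr h P (by simp) rfl
  | succ n ih =>
    obtain ⟨hv', t', ht', e⟩ := ih
    refine ⟨Submodule.smul_mem _ _ hv, t' + t - B ((n : F) • v) v, ?_, ?_⟩
    · rw [rx_trace h P hv' hv ht' ht]
      congr 1
      push_cast
      rw [add_smul, one_smul]
    · rw [pow_succ, e, rx_mul]
      exact rx_congr h P (by push_cast; rw [add_smul, one_smul]) rfl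

theorem rx_pelt {p : ℕ} [CharP F p] {v : V} (hv : v ∈ perpP h a f) {t : F} (ht : t + σ t = -B v v) :
    rx h P v hv t ht ^ p ^ 2 = 1 := by
  obtain ⟨hv', t', ht', e⟩ := rx_pow_exists h P hv ht p
  rw [pow_two, pow_mul, e]
  have e0 : rx h P ((p : F) • v) hv' t' ht' = trS h P.aa (c := t') (by simpa using ht') := ap_ext fun y => by
    rw [rx_apply, trS_apply]
    simp
  rw [e0]
  simpa using trS_pow h (p := p) P.aa (c := t') (by simpa using ht')

omit P

variable {p : ℕ} [CharP F p]

theorem gen_SW {W : Submodule F V} (hW : ND B W) : Gen p (SW h W) := by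
  induction hk : Module.finrank F W using Nat.strong_induction_on generalizing W with
  | _ k ih =>
  subst hk
  obtain ⟨S, hS⟩ : ∃ S : Subgroup (HSU B), S = Subgroup.closure {g | g ∈ SW h W ∧ ∃ e : ℕ, g ^ p ^ e = 1} :=
    ⟨_, rfl⟩
  show SW h W ≤ _
  rw [← hS]
  rcases Nat.lt_or_ge (Module.finrank F W) 2 with h1 | h2
  · rw [SW_eq_bot h hW (by omega)]; exact bot_le
  have hH := h.restrict_herm hW
  have htr : ∀ b : HSU (restrict B W), (b : HU (restrict B W)) ∈ hH.trGroup → inclS h hW b ∈ S := by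
    intro b hb
    suffices incl h hW (b : HU (restrict B W)) ∈ S.map (HSU B).subtype by
      obtain ⟨g, hg, e⟩ := this
      rwa [show inclS h hW b = g from Subtype.ext e.symm]
    generalize (b : HU (restrict B W)) = y at hb ⊢
    induction hb using Subgroup.closure_induction with
    | mem y hy =>
      obtain ⟨u, hu, c, hc, rfl⟩ := hy
      have hu' : B (u : V) (u : V) = 0 := hu
      refine ⟨trS h hu' hc, hS ▸ Subgroup.subset_closure ⟨trS_mem h u.2 hu' hc, 1, trS_pow h hu' hc⟩, ?_⟩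
      refine Subtype.ext (LinearEquiv.ext fun y => ?_)
      obtain ⟨w, v, rfl⟩ := CfsgLib.Classical.exists_decomp (h.isCompl_orth hW) y
      show ap (trS h hu' hc) ((w : V) + v) = _
      rw [trS_apply, incl_apply, hH.tr_apply, map_add, h.mem_orth.1 v.2 u u.2, add_zero, restrict_apply]
      push_cast
      abel
    | one => simp
    | mul y z _ _ hy hz => rw [map_mul]; exact mul_mem hy hz
    | inv y _ hy => rw [map_inv]; exact inv_mem hy
  rcases eq_or_lt_of_le h2 with h2' | h3
  · intro g hg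
    obtain ⟨b, rfl⟩ := exists_inclS_eq h hW hg
    exact htr b (hH.plane_generated h2'.symm b.2)
  intro g hg
  obtain ⟨u, hu0, huu⟩ := hH.exists_isotropic h2
  obtain ⟨f, huf, hff⟩ := hH.exists_isotropic_partner hu0 huu
  have P : Pair B (u : V) (f : V) := ⟨huu, hff, huf⟩
  obtain ⟨b, rfl⟩ := exists_inclS_eq h hW hg
  obtain ⟨t, ht, e⟩ := hH.transitive_isotropic (u := ap b u) (u' := u) h3 (by simpa using hu0) hu0
    ((ap_form b u u).trans huu) huu
  obtain ⟨c, hc⟩ : ∃ c : HSU (restrict B W), (c : HU (restrict B W)) = t := ⟨⟨t, hH.trGroup_le ht⟩, rfl⟩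
  have hct : inclS h hW c ∈ S := htr c (hc ▸ ht)
  have hfix : ap (inclS h hW (c * b)) (u : V) = u := by
    rw [inclS_apply_left h hW _ u, ap_mul]
    exact congrArg Subtype.val (show ap c (ap b u) = u by show (c : HU (restrict B W)).1 (ap b u) = u; rw [hc]; exact e)
  obtain ⟨v, hv, r, hr, k, hk, ek, hvW⟩ := stab_decomp h P hfix
  have hle : Submodule.span F ({(u : V), (f : V)} : Set V) ≤ W :=
    Submodule.span_le.2 (Set.insert_subset_iff.2 ⟨u.2, Set.singleton_subset_iff.2 f.2⟩)
  have hvW' := hvW W u.2 f.2 (inclS_mem h hW _) hW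
  have hrx : rx h P v hv r hr ∈ SW h W := rx_mem_SW h P u.2 hvW'
  have hrS : rx h P v hv r hr ∈ S := hS ▸ Subgroup.subset_closure ⟨hrx, 2, rx_pelt h P hv hr⟩
  have hkW : k ∈ SW h W := by
    have := mul_mem (inv_mem hrx) (inclS_mem h hW (c * b))
    rwa [ek, inv_mul_cancel_left] at this
  obtain ⟨W', hW'⟩ : ∃ W', W' = W ⊓ perpP h (u : V) (f : V) := ⟨_, rfl⟩
  have hk' : k ∈ SW h W' := by
    rw [hW']
    refine SW_inf h (nd_pair h P) hW hle hkW fun x hx => ?_
    obtain ⟨r, s, rfl⟩ := Submodule.mem_span_pair.1 hx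
    simp only [map_add, LinearEquiv.map_smul, ((mem_SW_perpP h P).1 hk).1, ((mem_SW_perpP h P).1 hk).2]
  have hW'nd : ND B W' := hW' ▸ (nd_inf h (nd_pair h P) hW hle).1
  have hlt : Module.finrank F W' < Module.finrank F W := by
    have := finrank_inf h (nd_pair h P) hW hle
    rw [h.pair_finrank (h.hyperbolic_disc P.aa P.af)] at this
    rw [hW', perpP]
    omega
  have hkS : k ∈ S := by
    rw [hS]
    exact Subgroup.closure_mono
      (fun x (hx : x ∈ SW h W' ∧ ∃ e : ℕ, x ^ p ^ e = 1) =>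
        (⟨SW_mono h (hW' ▸ inf_le_left) hx.1, hx.2⟩ : x ∈ SW h W ∧ ∃ e : ℕ, x ^ p ^ e = 1))
      (ih _ hlt hW'nd rfl hk')
  have hcb : inclS h hW c * inclS h hW b ∈ S := by
    rw [← map_mul, ek]; exact mul_mem hrS hkS
  simpa using mul_mem (inv_mem hct) hcb

end CfsgLib.Known.UnitMult
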