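import Cfsg.Agent.Lib.Known.UnitMult.Space

/-!
# Monomial isometries for an orthonormal basis
-/

set_option autoImplicit false
set_option linter.unusedSectionVars false

namespace CfsgLib.Known.UnitMult

open CfsgLib.Classical CfsgLib.Classical.Herm

variable {F : Type*} [Field F] {V : Type*} [AddCommGroup V] [Module F V] {σ : F →+* F}
  {B : V →ₛₗ[σ] V →ₗ[F] F} [Finite F] [FiniteDimensional F V] (h : IsHerm B)
  {ι : Type*} [Fintype ι] [DecidableEq ι] {b : Module.Basis ι F V}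
  (hb : ∀ i j, B (b i) (b j) = if i = j then 1 else 0)

/-- the group of norm one scalars -/
def normOne (σ : F →+* F) : Subgroup Fˣ where
  carrier := {x | (x : F) * σ (x : F) = 1}
  one_mem' := by simp
  mul_mem' := fun {x y} (hx : (x : F) * σ (x : F) = 1) (hy : (y : F) * σ (y : F) = 1) => by
    show ((x * y : Fˣ) : F) * σ ((x * y : Fˣ) : F) = 1
    rw [Units.val_mul, map_mul]
    linear_combination (y : F) * σ (y : F) * hx + hy
  inv_mem' := fun {x} (hx : (x : F) * σ (x : F) = 1) => by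
    show ((x⁻¹ : Fˣ) : F) * σ ((x⁻¹ : Fˣ) : F) = 1
    rw [Units.val_inv_eq_inv_val, map_inv₀, ← mul_inv, hx, inv_one]

theorem mem_normOne {x : Fˣ} : x ∈ normOne σ ↔ (x : F) * σ (x : F) = 1 := Iff.rfl

theorem sum_form {m : ι → V} (hm : ∀ i j, B (m i) (m j) = if i = j then (1 : F) else 0) (f : V →ₗ[F] V)
    (hf : ∀ i, f (b i) = m i) (u v : V) : B (f u) (f v) = ∑ i, σ (b.repr u i) * b.repr v i := by
  have e : ∀ w, f w = ∑ i, b.repr w i • m i := fun w => by
    conv_lhs => rw [← b.sum_repr w]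
    simp only [map_sum, map_smul, hf]
  rw [e, e, map_sum B, LinearMap.sum_apply]
  refine Finset.sum_congr rfl fun i _ => ?_
  rw [smul_left, map_sum, Finset.sum_eq_single i]
  · rw [smul_right, hm, if_pos rfl, mul_one]
  · intro j _ hj
    rw [smul_right, hm, if_neg (Ne.symm hj), mul_zero]
  · simp

include h hb

theorem mon_preserves (π : Equiv.Perm ι) {d : ι → Fˣ} (hd : ∀ i, d i ∈ normOne σ) (u v : V) :
    B (b.constr F (fun i => (d i : F) • b (π i)) u) (b.constr F (fun i => (d i : F) • b (π i)) v) = B u v := by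
  rw [sum_form (m := fun i => (d i : F) • b (π i)) (fun i j => ?_) _ (fun i => Module.Basis.constr_basis b F _ i),
    ← sum_form (b := b) hb LinearMap.id (fun i => rfl)]
  · rfl
  · simp only [smul_left, smul_right, hb, EmbeddingLike.apply_eq_iff_eq]
    by_cases hij : i = j
    · subst hij
      simp only [↓reduceIte, mul_one]
      exact hd i
    · simp [hij]

/-- a monomial isometry -/
noncomputable def monU (π : Equiv.Perm ι) (d : ι → Fˣ) (hd : ∀ i, d i ∈ normOne σ) : HU B :=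
  h.ofPreserves _ (mon_preserves h hb π hd)

theorem monU_apply (π : Equiv.Perm ι) (d : ι → Fˣ) (hd : ∀ i, d i ∈ normOne σ) (i : ι) :
    (monU h hb π d hd : V ≃ₗ[F] V) (b i) = (d i : F) • b (π i) := by
  rw [monU, IsHerm.ofPreserves_apply, Module.Basis.constr_basis]

theorem hu_ext {g g' : HU B} (e : ∀ i, (g : V ≃ₗ[F] V) (b i) = (g' : V ≃ₗ[F] V) (b i)) : g = g' :=
  Subtype.ext (b.ext' e)

theorem hsu_ext {g g' : HSU B} (e : ∀ i, ap g (b i) = ap g' (b i)) : g = g' :=
  Subtype.ext (hu_ext h hb e)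

theorem det_diag (d : ι → Fˣ) (hd : ∀ i, d i ∈ normOne σ) : HU.det B (monU h hb 1 d hd) = ∏ i, d i := by
  ext
  show ((LinearEquiv.det (monU h hb 1 d hd : V ≃ₗ[F] V) : Fˣ) : F) = _
  rw [LinearEquiv.coe_det, monU, IsHerm.coe_ofPreserves, Units.coe_prod, ← LinearMap.det_toMatrix b]
  rw [← Matrix.det_diagonal]
  congr 1
  ext i j
  rw [LinearMap.toMatrix_apply, Module.Basis.constr_basis, Equiv.Perm.one_apply, map_smul, Finsupp.smul_apply,
    b.repr_self, Finsupp.single_apply, Matrix.diagonal_apply]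
  by_cases hij : i = j
  · subst hij; simp
  · simp [hij, Ne.symm hij]

/-- diagonal special isometries -/
noncomputable def dgS (d : ι → Fˣ) (hd : ∀ i, d i ∈ normOne σ) (h1 : ∏ i, d i = 1) : HSU B :=
  ⟨monU h hb 1 d hd, by rw [MonoidHom.mem_ker, det_diag, h1]⟩

theorem dgS_apply (d : ι → Fˣ) (hd : ∀ i, d i ∈ normOne σ) (h1 : ∏ i, d i = 1) (i : ι) :
    ap (dgS h hb d hd h1) (b i) = (d i : F) • b i := by
  show (monU h hb 1 d hd : V ≃ₗ[F] V) (b i) = _
  rw [monU_apply, Equiv.Perm.one_apply]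

/-- a permutation of the basis corrected at one vector -/
theorem exists_permS (π : Equiv.Perm ι) (i₀ : ι) :
    ∃ (g : HSU B) (d : ι → Fˣ), (∀ i, ap g (b i) = (d i : F) • b (π i)) ∧ (∀ i, i ≠ i₀ → d i = 1) ∧
      (π = 1 → g = 1) := by
  obtain ⟨ε, hε⟩ : ∃ ε, ε = HU.det B (monU h hb π (fun _ => 1) fun _ => one_mem _) := ⟨_, rfl⟩
  have hεn : ε⁻¹ ∈ normOne σ := by
    rw [hε]; exact inv_mem (mem_normOne.2 (h.det_norm_one _))
  obtain ⟨d, hd⟩ : ∃ d : ι → Fˣ, d = fun i => if i = i₀ then ε⁻¹ else 1 := ⟨_, rfl⟩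
  have hdn : ∀ i, d i ∈ normOne σ := fun i => by rw [hd]; dsimp only; split_ifs <;> [exact hεn; exact one_mem _]
  have hmem : monU h hb π (fun _ => 1) (fun _ => one_mem _) * monU h hb 1 d hdn ∈ HSU B := by
    rw [MonoidHom.mem_ker, map_mul, det_diag, ← hε, hd]
    simp
  refine ⟨⟨_, hmem⟩, d, fun i => ?_, fun i hi => by simp [hd, hi], fun h1 => ?_⟩
  · show (monU h hb π (fun _ => 1) (fun _ => one_mem _) : V ≃ₗ[F] V) ((monU h hb 1 d hdn : V ≃ₗ[F] V) (b i)) = _
    rw [monU_apply, Equiv.Perm.one_apply, LinearEquiv.map_smul, monU_apply, Units.val_one, one_smul]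
  · subst h1
    refine hsu_ext h hb fun i => ?_
    have hε1 : ε = 1 := by rw [hε, det_diag, Finset.prod_const_one]
    show (monU h hb 1 (fun _ => 1) (fun _ => one_mem _) : V ≃ₗ[F] V) ((monU h hb 1 d hdn : V ≃ₗ[F] V) (b i)) = _
    rw [monU_apply, Equiv.Perm.one_apply, LinearEquiv.map_smul, monU_apply, ap_one]
    simp [hd, hε1]

/-- conjugating a diagonal isometry by a monomial one -/
theorem conj_dgS {g : HSU B} {π : Equiv.Perm ι} {e : ι → Fˣ} (hg : ∀ i, ap g (b i) = (e i : F) • b (π i))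
    (d : ι → Fˣ) (hd : ∀ i, d i ∈ normOne σ) (h1 : ∏ i, d i = 1) (d' : ι → Fˣ) (hd' : ∀ i, d' i ∈ normOne σ)
    (h1' : ∏ i, d' i = 1) (hdd : ∀ i, d' (π i) = d i) :
    g * dgS h hb d hd h1 * g⁻¹ = dgS h hb d' hd' h1' := by
  rw [mul_inv_eq_iff_eq_mul]
  refine hsu_ext h hb fun i => ?_
  rw [ap_mul, ap_mul, dgS_apply, LinearEquiv.map_smul, hg, LinearEquiv.map_smul, dgS_apply, hdd, smul_smul,
    smul_smul, mul_comm]

theorem dgS_mul (d d' : ι → Fˣ) (hd : ∀ i, d i ∈ normOne σ) (h1 : ∏ i, d i = 1) (hd' : ∀ i, d' i ∈ normOne σ)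
    (h1' : ∏ i, d' i = 1) (hd'' : ∀ i, (d * d') i ∈ normOne σ) (h1'' : ∏ i, (d * d') i = 1) :
    dgS h hb d hd h1 * dgS h hb d' hd' h1' = dgS h hb (d * d') hd'' h1'' := by
  refine hsu_ext h hb fun i => ?_
  rw [ap_mul, dgS_apply, LinearEquiv.map_smul, dgS_apply, dgS_apply, smul_smul, Pi.mul_apply, Units.val_mul,
    mul_comm]

/-- an isometry fixing the basis vectors outside a set is supported on their span -/
theorem mem_SW_span (s : Set ι) {g : HSU B} (hg : ∀ i, i ∉ s → ap g (b i) = b i) :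
    g ∈ SW h (Submodule.span F (b '' s)) := by
  intro u hu
  have h0 : ∀ i ∈ s, b.repr u i = 0 := fun i hi => by
    have h1 := h.mem_orth.1 hu (b i) (Submodule.subset_span ⟨i, hi, rfl⟩)
    rw [← b.sum_repr u, map_sum, Finset.sum_eq_single i] at h1
    · rwa [smul_right, hb, if_pos rfl, mul_one] at h1
    · intro j _ hj
      rw [smul_right, hb, if_neg (Ne.symm hj), mul_zero]
    · simp
  conv_lhs => rw [← b.sum_repr u]
  rw [map_sum]
  conv_rhs => rw [← b.sum_repr u]
  refine Finset.sum_congr rfl fun i _ => ?_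
  by_cases hi : i ∈ s
  · rw [h0 i hi, zero_smul, map_zero]
  · rw [LinearEquiv.map_smul, hg i hi]

theorem nd_span (s : Set ι) : ND B (Submodule.span F (b '' s)) := by
  intro x hx hrad
  refine h.nondeg x fun y => ?_
  rw [← b.sum_repr y, map_sum]
  refine Finset.sum_eq_zero fun i _ => ?_
  rw [smul_right]
  by_cases hi : i ∈ s
  · rw [hrad _ (Submodule.subset_span ⟨i, hi, rfl⟩), mul_zero]
  · suffices B (b i) x = 0 by rw [h.eq_zero_symm this, mul_zero]
    refine (Submodule.span_le (p := LinearMap.ker (B (b i)))).2 ?_ hx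
    rintro _ ⟨j, hj, rfl⟩
    rw [SetLike.mem_coe, LinearMap.mem_ker, hb, if_neg]
    exact fun e => hi (e ▸ hj)

theorem span_compl (s : Set ι) : Submodule.span F (b '' sᶜ) ≤ h.orth (Submodule.span F (b '' s)) := by
  rw [Submodule.span_le]
  rintro _ ⟨j, hj, rfl⟩
  rw [SetLike.mem_coe, h.mem_orth]
  intro w hw
  refine (Submodule.span_le (p := LinearMap.ker (B (b j)))).2 ?_ hw |> fun e => h.eq_zero_symm e
  rintro _ ⟨i, hi, rfl⟩
  rw [SetLike.mem_coe, LinearMap.mem_ker, hb, if_neg]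
  exact fun e => hj (e ▸ hi)

end CfsgLib.Known.UnitMult
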