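import Cfsg.Agent.Lib.Known.UnitMult.LSplit
import Cfsg.Agent.Lib.Known.UnitMult.Mon

/-!
# Groups permuting `l` orthogonal parts cyclically
-/

set_option autoImplicit false
set_option linter.unusedSectionVars false

namespace CfsgLib.Known.UnitMult

open CfsgLib.Classical CfsgLib.Classical.Herm CfsgLib.Known.SympMult
open CfsgLib.Classical.Herm.IsHerm (restrict restrict_apply)
open scoped commutatorElement

section Ext

variable {G Γ : Type*} [Group G] [Group Γ] {π : Γ →* G} (C : CExt π)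
include C

/-- pairwise small commutators of generators give small commutators -/
theorem comm_closure {S : Set G} {M : Subgroup Γ}
    (hn : ∀ g, π g ∈ Subgroup.closure S → ∀ m ∈ M, g * m * g⁻¹ ∈ M)
    (hS : ∀ x y, π x ∈ S → π y ∈ S → ⁅x, y⁆ ∈ M) {x y : Γ} (hx : π x ∈ Subgroup.closure S)
    (hy : π y ∈ Subgroup.closure S) : ⁅x, y⁆ ∈ M := by
  have key : ∀ y : Γ, π y ∈ Subgroup.closure S → (∀ x, π x ∈ S → ⁅x, y⁆ ∈ M) →
      ∀ x, π x ∈ Subgroup.closure S → ⁅x, y⁆ ∈ M := by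
    intro y hy hgen x hx
    obtain ⟨g, hg⟩ : ∃ g, g = π x := ⟨_, rfl⟩
    rw [← hg] at hx
    induction hx using Subgroup.closure_induction generalizing x with
    | mem g hgS => exact hgen x (hg ▸ hgS)
    | one =>
      rw [commutatorElement_eq_one_iff_commute.2 (C.ker_comm hg.symm y).symm]
      exact one_mem M
    | mul g g' hgC _ ih ih' =>
      obtain ⟨a, rfl⟩ := C.surj g
      obtain ⟨b, hb⟩ := C.surj g'
      obtain ⟨z, hz, rfl⟩ := C.diff (x := x) (y := a * b) (by rw [map_mul, hb, ← hg])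
      rw [show ⁅a * b * z, y⁆ = ⁅a * b, y⁆ by
        rw [commutatorElement_def, commutatorElement_def, mul_inv_rev _ z,
          show a * b * z * y * (z⁻¹ * (a * b)⁻¹) * y⁻¹ = a * b * (z * y) * z⁻¹ * (a * b)⁻¹ * y⁻¹ by group,
          ← (C.ker_comm hz y).eq]
        group]
      rw [show ⁅a * b, y⁆ = a * ⁅b, y⁆ * a⁻¹ * ⁅a, y⁆ by simp only [commutatorElement_def]; group]
      exact mul_mem (hn a hgC _ (ih' b hb.symm)) (ih a rfl)
    | inv g hgC ih =>
      have h1 := ih x⁻¹ (by rw [map_inv, ← hg, inv_inv])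
      rw [show ⁅x, y⁆ = x * ⁅x⁻¹, y⁆⁻¹ * x⁻¹ by simp only [commutatorElement_def]; group]
      exact hn x (hg ▸ inv_mem hgC) _ (inv_mem h1)
  refine key y hy (fun x hxS => ?_) x hx
  rw [← commutatorElement_inv]
  exact inv_mem (key x (Subgroup.subset_closure hxS) (fun u hu => hS u x hu hxS) y hy)

end Ext

variable {F : Type*} [Field F] {V : Type*} [AddCommGroup V] [Module F V] {σ : F →+* F}
  {B : V →ₛₗ[σ] V →ₗ[F] F} [Finite F] [FiniteDimensional F V] (h : IsHerm B)
include h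

theorem isCyclic_normOne : IsCyclic (normOne σ : Subgroup Fˣ) := inferInstance

theorem dl_congr {U U' : Submodule F V} {g : HSU B} (hU : g ∈ stab U) (e : U = U') (hU' : g ∈ stab U') :
    dl U ⟨g, hU⟩ = dl U' ⟨g, hU'⟩ := by
  subst e; rfl

theorem dl_conj {U U' : Submodule F V} {g c : HSU B} (hg : g ∈ stab U) (hc : U.map (ap c : V →ₗ[F] V) = U')
    (hg' : c * g * c⁻¹ ∈ stab U') : dl U' ⟨c * g * c⁻¹, hg'⟩ = dl U ⟨g, hg⟩ := by
  obtain ⟨e, he⟩ : ∃ e : U ≃ₗ[F] U', ∀ x : U, (e x : V) = ap c x :=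
    ⟨(ap c).ofSubmodules U U' hc, fun x => rfl⟩
  ext
  show ((LinearEquiv.det (restrictEquiv (ap (c * g * c⁻¹)) U' hg') : Fˣ) : F) =
    ((LinearEquiv.det (restrictEquiv (ap g) U hg) : Fˣ) : F)
  rw [LinearEquiv.coe_det, LinearEquiv.coe_det]
  have hE : ((restrictEquiv (ap (c * g * c⁻¹)) U' hg' : U' ≃ₗ[F] U') : U' →ₗ[F] U') =
      (e : U →ₗ[F] U') ∘ₗ ((restrictEquiv (ap g) U hg : U ≃ₗ[F] U) : U →ₗ[F] U) ∘ₗ (e.symm : U' →ₗ[F] U) := by
    refine LinearMap.ext fun x => Subtype.ext ?_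
    obtain ⟨y, rfl⟩ := e.surjective x
    simp only [LinearMap.comp_apply, LinearEquiv.coe_coe, LinearEquiv.symm_apply_apply]
    show ap (c * g * c⁻¹) (e y : V) = _
    rw [he, he, ap_mul, ap_mul, ap_inv_ap]
    rfl
  rw [hE, LinearMap.det_conj]

variable {p : ℕ} [CharP F p] {Γ : Type*} [Group Γ] [Finite Γ] {π : Γ →* HSU B} (C : CExt π) {l : ℕ}
  [hlF : Fact l.Prime] [NeZero l] (hZ : IsPGroup l π.ker) (hlp : ¬ l ∣ p)
include C hZ hlp

theorem good_imprim {W W0 : Submodule F V} (hW : ND B W) (hW0 : ND B W0) (hne : W0 ≠ ⊥) {s : HSU B}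
    (pt : Fin l → Submodule F V) (hpt : ∀ i, pt i = W0.map (ap (s ^ (i : ℕ)) : V →ₗ[F] V))
    (ho : ∀ i j, i ≠ j → pt j ≤ h.orth (pt i)) (hsup : ⨆ i, pt i = W) (hIH : ∀ i, Good π (SW h (pt i)))
    {X : Subgroup (HSU B)} (hXW : X ≤ SW h W)
    (hX : ∀ g ∈ X, ∃ r : Fin l, ∀ i, (pt i).map (ap g : V →ₗ[F] V) = pt (i + r)) : Good π X := by
  classical
  have hl : l.Prime := hlF.out
  obtain ⟨b0, hb0⟩ := (h.restrict_herm hW0).exists_orthonormal_basis rfl
  obtain ⟨b1, hb1⟩ := (h.restrict_herm (nd_orth h hW)).exists_orthonormal_basis rfl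
  obtain ⟨e, he⟩ : ∃ e : (Fin l × Fin (Module.finrank F W0)) ⊕ Fin (Module.finrank F (h.orth W)) → V,
      e = Sum.elim (fun t => ap (s ^ (t.1 : ℕ)) (b0 t.2 : V)) (fun j => (b1 j : V)) := ⟨_, rfl⟩
  have hmem : ∀ i x, e (Sum.inl (i, x)) ∈ pt i := fun i x => by
    rw [he, hpt]; exact ⟨_, (b0 x).2, rfl⟩
  have hptW : ∀ i, pt i ≤ W := fun i => hsup ▸ le_iSup pt i
  have hon : ∀ t t', B (e t) (e t') = if t = t' then 1 else 0 := by
    rintro (⟨i, x⟩ | j) (⟨i', x'⟩ | j')
    · by_cases hi : i = i'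
      · subst hi
        rw [he]
        simp only [Sum.elim_inl, Sum.inl.injEq, Prod.mk.injEq, true_and]
        rw [ap_form]
        simpa using hb0 x x'
      · rw [if_neg (by simp [hi])]
        exact h.mem_orth.1 (ho i i' hi (hmem i' x')) _ (hmem i x)
    · rw [if_neg (by simp)]
      rw [show e (Sum.inr j') = (b1 j' : V) by rw [he]; rfl]
      exact h.mem_orth.1 (b1 j').2 _ (hptW _ (hmem i x))
    · rw [if_neg (by simp), show e (Sum.inr j) = (b1 j : V) by rw [he]; rfl]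
      exact mem_orth_symm h (hptW _ (hmem i' x')) (b1 j).2
    · rw [he]
      simp only [Sum.elim_inr, Sum.inr.injEq]
      simpa using hb1 j j'
  have hli : LinearIndependent F e := by
    rw [Fintype.linearIndependent_iff]
    intro c hc i
    have h2 := congrArg (B (e i)) hc
    rw [map_sum, Finset.sum_eq_single i (fun j _ hj => by rw [smul_right, hon, if_neg (Ne.symm hj), mul_zero])
      (by simp), smul_right, hon, if_pos rfl, mul_one, map_zero] at h2
    exact h2
  have hspan0 : ∀ i, pt i = Submodule.span F (e '' {t | ∃ x, t = Sum.inl (i, x)}) := by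
    intro i
    refine le_antisymm ?_ (Submodule.span_le.2 ?_)
    · rw [hpt]
      rintro _ ⟨w, hw, rfl⟩
      have hw' : (w : V) = ∑ x, b0.repr ⟨w, hw⟩ x • (b0 x : V) := by
        have h2 := congrArg Subtype.val (b0.sum_repr ⟨w, hw⟩)
        rw [Submodule.coe_sum] at h2
        exact h2.symm
      rw [hw', map_sum]
      refine Submodule.sum_mem _ fun x _ => ?_
      rw [map_smul]
      refine Submodule.smul_mem _ _ (Submodule.subset_span ⟨Sum.inl (i, x), ⟨x, rfl⟩, ?_⟩)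
      rw [he]; rfl
    · rintro _ ⟨_, ⟨x, rfl⟩, rfl⟩; exact hmem i x
  have hWspan : W = Submodule.span F (e '' Set.range Sum.inl) := by
    refine le_antisymm (le_of_eq_of_le hsup.symm (iSup_le fun i => ?_)) (Submodule.span_le.2 ?_)
    · rw [hspan0]
      exact Submodule.span_mono (Set.image_mono fun t ⟨x, hx⟩ => ⟨(i, x), hx.symm⟩)
    · rintro _ ⟨_, ⟨⟨i, x⟩, rfl⟩, rfl⟩; exact hptW i (hmem i x)
  have htop : ⊤ ≤ Submodule.span F (Set.range e) := by
    rw [← sup_orth h hW]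
    refine sup_le (hWspan.le.trans (Submodule.span_mono (Set.image_subset_range _ _))) fun w hw => ?_
    have hw' : w = ∑ j, b1.repr ⟨w, hw⟩ j • (b1 j : V) := by
      have h2 := congrArg Subtype.val (b1.sum_repr ⟨w, hw⟩)
      rw [Submodule.coe_sum] at h2
      exact h2.symm
    rw [hw']
    refine Submodule.sum_mem _ fun j _ => Submodule.smul_mem _ _ (Submodule.subset_span ⟨Sum.inr j, ?_⟩)
    rw [he]; rfl
  let b : Module.Basis ((Fin l × Fin (Module.finrank F W0)) ⊕ Fin (Module.finrank F (h.orth W))) F V :=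
    Module.Basis.mk hli htop
  have hbe : ∀ t, b t = e t := fun t => Module.Basis.mk_apply hli htop t
  have hb : ∀ t t', B (b t) (b t') = if t = t' then 1 else 0 := fun t t' => by rw [hbe, hbe, hon]
  have hbe' : ⇑b = e := funext hbe
  rw [← hbe'] at hspan0 hWspan
  have hndpt : ∀ i, ND B (pt i) := fun i => hspan0 i ▸ nd_span h hb _
  have hx0 : 0 < Module.finrank F W0 := Nat.pos_of_ne_zero fun e0 => hne (Submodule.finrank_eq_zero.1 e0)
  obtain ⟨x0, -⟩ : ∃ x0 : Fin (Module.finrank F W0), x0 = ⟨0, hx0⟩ := ⟨_, rfl⟩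
  -- the subgroup fixing every part
  obtain ⟨H0, hH0⟩ : ∃ H0 : Subgroup (HSU B), H0 = SW h W ⊓ ⨅ i, stab (pt i) := ⟨_, rfl⟩
  have memH0 : ∀ g, g ∈ H0 ↔ g ∈ SW h W ∧ ∀ i, g ∈ stab (pt i) := fun g => by
    rw [hH0, Subgroup.mem_inf, Subgroup.mem_iInf]
  obtain ⟨L, hL⟩ : ∃ L : Subgroup (HSU B), L = ⨆ i, SW h (pt i) := ⟨_, rfl⟩
  have hLS : ∀ S : Finset (Fin l),
      Good π (⨆ i ∈ S, SW h (pt i)) ∧ Gen p (⨆ i ∈ S, SW h (pt i)) := by
    intro S
    induction S using Finset.induction_on with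
    | empty =>
      refine ⟨?_, ?_⟩
      · simp only [Finset.notMem_empty, iSup_false, iSup_bot]
        intro z hz hz1
        have hab : ⁅(⊥ : Subgroup (HSU B)).comap π, (⊥ : Subgroup (HSU B)).comap π⁆ = ⊥ := by
          rw [eq_bot_iff, Subgroup.commutator_le]
          intro x hx y _
          rw [Subgroup.mem_bot, commutatorElement_eq_one_iff_commute]
          exact (C.ker_comm (Subgroup.mem_bot.1 hx) y).symm
        rwa [hab, Subgroup.mem_bot] at hz
      · simp only [Finset.notMem_empty, iSup_false, iSup_bot]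
        exact gen_bot p
    | insert j S hj ih =>
      rw [Finset.iSup_insert]
      have hle : (⨆ i ∈ S, SW h (pt i)) ≤ SW h (h.orth (pt j)) :=
        iSup₂_le fun i hi => SW_mono h (ho j i (fun e => hj (e ▸ hi)))
      refine ⟨Good.sup C hZ hlp ?_ (fun a ha c hc => commute_of_orth h (hndpt j) le_rfl ha (hle hc))
        (gen_SW h (hndpt j)) (hIH j) ih.1, (gen_SW h (hndpt j)).sup ih.2⟩
      exact eq_bot_iff.2 ((inf_le_inf_left _ hle).trans (disjoint_SW h (hndpt j) le_rfl).le)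
  have hLu : L = ⨆ i ∈ (Finset.univ : Finset (Fin l)), SW h (pt i) := by rw [hL]; simp
  obtain ⟨M, hML, hMZ, hMn⟩ := exists_star C hZ hlp (hLu ▸ (hLS Finset.univ).2) (hLu ▸ (hLS Finset.univ).1)
  have hLH0 : L ≤ H0 := by
    rw [hL]
    refine iSup_le fun i g hg => (memH0 g).2 ⟨SW_mono h (hptW i) hg, fun j => ?_⟩
    by_cases hij : j = i
    · subst hij; exact SW_le_stab h (hndpt j) hg
    · exact mem_stab_of_le fun x hx => by rwa [hg x (ho i j (Ne.symm hij) hx)]
  -- the part of kernels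
  have hkerS : ∀ S : Finset (Fin l), ∀ g ∈ H0, (∀ i ∈ S, ∀ hi : g ∈ stab (pt i), dl (pt i) ⟨g, hi⟩ = 1) →
      ∃ k ∈ L, k⁻¹ * g ∈ H0 ∧ (∀ i ∈ S, ∀ x ∈ pt i, ap (k⁻¹ * g) x = x) ∧
        ∀ i, i ∉ S → ∀ x ∈ pt i, ap k x = x := by
    intro S
    induction S using Finset.induction_on with
    | empty =>
      exact fun g hg _ => ⟨1, one_mem _, by rwa [inv_one, one_mul], by simp, fun i _ x _ => ap_one x⟩
    | insert j S hj ih =>
      intro g hg hd
      obtain ⟨k, hk, hk1, hk2, hk3⟩ := ih g hg fun i hi => hd i (Finset.mem_insert_of_mem hi)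
      obtain ⟨k', hk', hk'e⟩ := exists_part h (hndpt j) (((memH0 g).1 hg).2 j)
        (hd j (Finset.mem_insert_self _ _) _)
      have hk'L : k' ∈ L := hL ▸ Subgroup.mem_iSup_of_mem j hk'
      have hk'i : ∀ i, i ≠ j → ∀ x ∈ pt i, ap k' x = x := fun i hi x hx => hk' x (ho j i (Ne.symm hi) hx)
      refine ⟨k * k', mul_mem hk hk'L, ?_, ?_, fun i hi x hx => ?_⟩
      · rw [mul_inv_rev, mul_assoc]
        exact mul_mem (hLH0 (inv_mem hk'L)) hk1
      · intro i hi x hx
        rw [mul_inv_rev, mul_assoc, ap_mul]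
        rcases Finset.mem_insert.1 hi with rfl | hi
        · have hkg : ap g x ∈ pt i := (((memH0 g).1 hg).2 i x).1 hx
          rw [ap_mul]
          conv_lhs => arg 2; arg 2; rw [← hk'e x hx]
          have hfix : ap k⁻¹ (ap k' x) = ap k' x := by
            conv_lhs => arg 2; rw [← hk3 i hj (ap k' x) (hk'e x hx ▸ hkg)]
            rw [ap_inv_ap]
          rw [hfix, ap_inv_ap]
        · rw [hk2 i hi x hx]
          conv_lhs => arg 2; rw [← hk'i i (fun e => hj (e ▸ hi)) x hx]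
          rw [ap_inv_ap]
      · rw [Finset.mem_insert, not_or] at hi
        rw [ap_mul, hk'i i hi.1 x hx, hk3 i hi.2 x hx]
  have hker : ∀ g ∈ H0, (∀ i, i ≠ 0 → ∀ hi : g ∈ stab (pt i), dl (pt i) ⟨g, hi⟩ = 1) → g ∈ L := by
    intro g hg hd
    obtain ⟨k, hk, hk1, hk2, -⟩ := hkerS (Finset.univ.erase 0) g hg fun i hi => hd i (Finset.mem_erase.1 hi).1
    have h0 : k⁻¹ * g ∈ SW h (pt 0) := by
      intro y hy
      obtain ⟨w, r, rfl⟩ := CfsgLib.Classical.exists_decomp (h.isCompl_orth hW) y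
      rw [map_add, ((memH0 _).1 hk1).1 r r.2]
      have hr : (r : V) ∈ h.orth (pt 0) := orth_anti h (hptW 0) r.2
      have hw : (w : V) ∈ h.orth (pt 0) := (Submodule.add_mem_iff_left _ hr).1 hy
      congr 1
      have hw2 : (w : V) ∈ pt 0 ⊔ ⨆ i ∈ Finset.univ.erase (0 : Fin l), pt i := by
        refine (hsup ▸ iSup_le fun i => ?_ : W ≤ _) w.2
        by_cases hi : i = 0
        · exact hi ▸ le_sup_left
        · exact le_sup_of_le_right (le_iSup₂_of_le i (Finset.mem_erase.2 ⟨hi, Finset.mem_univ i⟩) le_rfl)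
      obtain ⟨u, hu, u', hu', euu⟩ := Submodule.mem_sup.1 hw2
      have hu'o : u' ∈ h.orth (pt 0) :=
        (iSup₂_le fun i hi => ho 0 i (Ne.symm (Finset.mem_erase.1 hi).1) : _ ≤ h.orth (pt 0)) hu'
      have hu0 : u = 0 := by
        refine hndpt 0 u hu fun z hz => ?_
        have h3 : u ∈ h.orth (pt 0) := (Submodule.add_mem_iff_left _ hu'o).1 (euu ▸ hw)
        exact mem_orth_symm h hz h3
      rw [hu0, zero_add] at euu
      have hfixsub : (⨆ i ∈ Finset.univ.erase (0 : Fin l), pt i) ≤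
          LinearMap.eqLocus (ap (k⁻¹ * g) : V →ₗ[F] V) LinearMap.id :=
        iSup₂_le fun i hi x hx => hk2 i hi x hx
      rw [← euu]
      exact hfixsub hu'
    rw [show g = k * (k⁻¹ * g) by group]
    exact mul_mem hk (hL ▸ Subgroup.mem_iSup_of_mem 0 h0)
  -- diagonal elements
  obtain ⟨dv, hdv⟩ : ∃ dv : (Fin l → Fˣ) → (Fin l × Fin (Module.finrank F W0)) ⊕ Fin (Module.finrank F (h.orth W)) → Fˣ,
      dv = fun a => Sum.elim (fun t => if t.2 = x0 then a t.1 else 1) 1 := ⟨_, rfl⟩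
  have hdvn : ∀ a : Fin l → Fˣ, (∀ i, a i ∈ normOne σ) → ∀ t, dv a t ∈ normOne σ := by
    intro a ha t
    rw [hdv]
    rcases t with ⟨i, x⟩ | j
    · simp only [Sum.elim_inl]; split_ifs <;> [exact ha i; exact one_mem _]
    · simp only [Sum.elim_inr]; exact one_mem _
  have hdvp : ∀ a : Fin l → Fˣ, ∏ t, dv a t = ∏ i, a i := by
    intro a
    rw [hdv, Fintype.prod_sum_type, Fintype.prod_prod_type]
    simp
  obtain ⟨tel, htel⟩ : ∃ tel : ∀ a : Fin l → Fˣ, (∀ i, a i ∈ normOne σ) → ∏ i, a i = 1 → HSU B,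
      ∀ a ha h1 t, ap (tel a ha h1) (b t) = (dv a t : F) • b t :=
    ⟨fun a ha h1 => dgS h hb (dv a) (hdvn a ha) ((hdvp a).trans h1), fun a ha h1 t => dgS_apply h hb _ _ _ t⟩
  have teleq : ∀ (d : _ → Fˣ) hd h1 a ha h1', d = dv a → dgS h hb d hd h1 = tel a ha h1' := by
    intro d hd h1 a ha h1' e
    subst e
    exact hsu_ext h hb fun t => by rw [dgS_apply, htel]
  have htelH0 : ∀ a ha h1, tel a ha h1 ∈ H0 := fun a ha h1 => by
    rw [memH0]
    refine ⟨?_, fun i => mem_stab_of_le fun x hx => ?_⟩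
    · rw [hWspan]
      refine mem_SW_span h hb _ fun t ht => ?_
      rw [htel]
      rcases t with t | j
      · exact absurd ⟨t, rfl⟩ ht
      · simp [hdv]
    · rw [hspan0] at hx ⊢
      refine (Submodule.span_le (p := (Submodule.span F _).comap (ap (tel a ha h1) : V →ₗ[F] V))).2 ?_ hx
      rintro _ ⟨t, ht, rfl⟩
      rw [SetLike.mem_coe, Submodule.mem_comap]
      show ap (tel a ha h1) (b t) ∈ _
      rw [htel]
      exact Submodule.smul_mem _ _ (Submodule.subset_span ⟨t, ht, rfl⟩)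
  have hteld : ∀ a ha h1 i (hi : tel a ha h1 ∈ stab (pt i)), dl (pt i) ⟨_, hi⟩ = a i := by
    intro a ha h1 i hi
    obtain ⟨bi, hbi⟩ : ∃ bi : Module.Basis (Fin (Module.finrank F W0)) F (pt i),
        ∀ x, (bi x : V) = b (Sum.inl (i, x)) :=
      ⟨b0.map ((ap (s ^ (i : ℕ))).ofSubmodules W0 (pt i) (hpt i).symm), fun x => by
        rw [hbe, he]; rfl⟩
    ext
    show ((LinearEquiv.det (restrictEquiv (ap (tel a ha h1)) (pt i) hi) : Fˣ) : F) = _
    rw [LinearEquiv.coe_det, ← LinearMap.det_toMatrix bi]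
    rw [show LinearMap.toMatrix bi bi ((restrictEquiv (ap (tel a ha h1)) (pt i) hi : _ ≃ₗ[F] _) : _ →ₗ[F] _) =
      Matrix.diagonal (fun x => (dv a (Sum.inl (i, x)) : F)) from ?_, Matrix.det_diagonal, hdv]
    · rw [Finset.prod_eq_single x0 (fun x _ hx => by simp [hx]) (fun hh => absurd (Finset.mem_univ _) hh)]
      simp
    ext x y
    rw [LinearMap.toMatrix_apply]
    have : (restrictEquiv (ap (tel a ha h1)) (pt i) hi) (bi y) = (dv a (Sum.inl (i, y)) : F) • bi y :=
      Subtype.ext (show ap (tel a ha h1) (bi y : V) = (((dv a (Sum.inl (i, y)) : F) • bi y : pt i) : V) by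
        rw [hbi, htel, Submodule.coe_smul, hbi])
    rw [LinearEquiv.coe_coe, this, map_smul, Finsupp.smul_apply, bi.repr_self, Finsupp.single_apply,
      Matrix.diagonal_apply]
    by_cases hxy : x = y
    · subst hxy; simp
    · simp [hxy, Ne.symm hxy]
  -- generators of the diagonal group
  obtain ⟨γ, hγ⟩ := (isCyclic_normOne h).exists_generator
  obtain ⟨av, hav⟩ : ∃ av : Fin l → Fin l → Fˣ,
      av = fun j i => if i = j then (γ : Fˣ) else if i = 0 then (γ : Fˣ)⁻¹ else 1 := ⟨_, rfl⟩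
  have hav_n : ∀ j i, av j i ∈ normOne σ := fun j i => by
    rw [hav]; dsimp only; split_ifs
    exacts [γ.2, inv_mem γ.2, one_mem _]
  have hav_p : ∀ j, j ≠ 0 → ∏ i, av j i = 1 := fun j hj => by
    rw [Fintype.prod_eq_mul j 0 hj (fun i hi => by simp [hav, hi.1, hi.2])]
    simp [hav, Ne.symm hj]
  obtain ⟨T, hT⟩ : ∃ T : Set (HSU B), T = {g | ∃ (j : Fin l) (hj : j ≠ 0), g = tel (av j) (hav_n j) (hav_p j hj)} :=
    ⟨_, rfl⟩
  obtain ⟨A, hA⟩ : ∃ A : Subgroup (HSU B), A = Subgroup.closure ((L : Set (HSU B)) ∪ T) := ⟨_, rfl⟩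
  have hLA : L ≤ A := fun g hg => hA ▸ Subgroup.subset_closure (Or.inl hg)
  have hAH0 : A ≤ H0 := by
    rw [hA, Subgroup.closure_le]
    rintro g (hg | hg)
    · exact hLH0 hg
    · rw [hT] at hg
      obtain ⟨j, hj, rfl⟩ := hg
      exact htelH0 _ _ _
  have htelA : ∀ S : Finset (Fin l), (0 : Fin l) ∉ S → ∀ a ha h1, (∀ i, i ∉ S → i ≠ 0 → a i = 1) →
      tel a ha h1 ∈ A := by
    intro S
    induction S using Finset.induction_on with
    | empty =>
      intro _ a ha h1 h2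
      have hone : tel a ha h1 = 1 := by
        refine hsu_ext h hb fun t => ?_
        rw [htel, ap_one]
        have h0 : a 0 = 1 := by
          rwa [Fintype.prod_eq_single 0 (fun i hi => h2 i (Finset.notMem_empty i) hi)] at h1
        rcases t with ⟨i, x⟩ | j
        · have : a i = 1 := if hi : i = 0 then hi ▸ h0 else h2 i (Finset.notMem_empty i) hi
          simp [hdv, this]
        · simp [hdv]
      rw [hone]; exact one_mem A
    | insert j S hj ih =>
      intro h0S a ha h1 h2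
      have hj0 : j ≠ 0 := fun e => h0S (Finset.mem_insert.2 (Or.inl e.symm))
      obtain ⟨n, hn⟩ := Subgroup.mem_zpowers_iff.1 (hγ ⟨a j, ha j⟩)
      have hn' : (γ : Fˣ) ^ n = a j := congrArg Subtype.val hn
      obtain ⟨a', ha'⟩ : ∃ a' : Fin l → Fˣ, a' = a * (av j ^ n)⁻¹ := ⟨_, rfl⟩
      have ha'n : ∀ i, a' i ∈ normOne σ := fun i => by
        rw [ha']; exact mul_mem (ha i) (inv_mem (zpow_mem (hav_n j i) n))
      have ha'p : ∏ i, a' i = 1 := by
        simp only [ha', Pi.mul_apply, Pi.inv_apply, Pi.pow_apply, Finset.prod_mul_distrib, h1, one_mul,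
          Finset.prod_inv_distrib, Finset.prod_zpow, hav_p j hj0, one_zpow, inv_one]
      have hmem := ih (fun e => h0S (Finset.mem_insert_of_mem e)) a' ha'n ha'p fun i hi hi0 => by
        rw [ha', Pi.mul_apply, Pi.inv_apply, Pi.pow_apply]
        by_cases hij : i = j
        · subst hij; simp [hav, hn']
        · rw [h2 i (by simp [hij, hi]) hi0]; simp [hav, hij, hi0]
      have hτ : tel (av j) (hav_n j) (hav_p j hj0) ∈ A :=
        hA ▸ Subgroup.subset_closure (Or.inr (hT ▸ ⟨j, hj0, rfl⟩))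
      have key : ∀ (m : ℤ) t,
          ap (tel (av j) (hav_n j) (hav_p j hj0) ^ m) (b t) = ((dv (av j) t ^ m : Fˣ) : F) • b t := by
        intro m t
        induction m using Int.induction_on with
        | zero => simp
        | succ k ihk =>
          rw [zpow_add_one, ap_mul, htel, LinearEquiv.map_smul, ihk, smul_smul, zpow_add_one, Units.val_mul,
            mul_comm]
        | pred k ihk =>
          have hinv : ap (tel (av j) (hav_n j) (hav_p j hj0))⁻¹ (b t) = ((dv (av j) t)⁻¹ : Fˣ).val • b t := by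
            have := ap_inv_ap (tel (av j) (hav_n j) (hav_p j hj0)) (b t)
            rw [htel, LinearEquiv.map_smul] at this
            conv_rhs => rw [← this, smul_smul, Units.inv_mul, one_smul]
          rw [zpow_sub_one, ap_mul, hinv, LinearEquiv.map_smul, ihk, smul_smul, zpow_sub_one, Units.val_mul,
            mul_comm]
      have heq : tel a ha h1 = tel a' ha'n ha'p * tel (av j) (hav_n j) (hav_p j hj0) ^ n := by
        refine hsu_ext h hb fun t => ?_
        rw [ap_mul, key n, LinearEquiv.map_smul, htel, htel, smul_smul, ← Units.val_mul]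
        congr 2
        rcases t with ⟨i, x⟩ | k
        · simp only [hdv, Sum.elim_inl]
          split_ifs
          · rw [ha', Pi.mul_apply, Pi.inv_apply, Pi.pow_apply, mul_comm, inv_mul_cancel_right]
          · simp
        · simp [hdv]
      rw [heq]
      exact mul_mem hmem (zpow_mem hτ n)
  have hH0A : H0 ≤ A := by
    intro g hg
    obtain ⟨af, haf⟩ : ∃ af : Fin l → Fˣ, ∀ i, af i = dl (pt i) ⟨g, ((memH0 g).1 hg).2 i⟩ := ⟨_, fun _ => rfl⟩
    obtain ⟨a, hadef⟩ : ∃ a : Fin l → Fˣ, a = fun i => if i = 0 then (∏ i ∈ Finset.univ.erase 0, af i)⁻¹ else af i :=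
      ⟨_, rfl⟩
    have hafn : ∀ i, af i ∈ normOne σ := fun i => by rw [haf]; exact mem_normOne.2 (dl_norm h (hndpt i) _)
    have han : ∀ i, a i ∈ normOne σ := fun i => by
      rw [hadef]; dsimp only; split_ifs
      exacts [inv_mem (Subgroup.prod_mem _ fun i _ => hafn i), hafn i]
    have hap : ∏ i, a i = 1 := by
      rw [← Finset.mul_prod_erase _ _ (Finset.mem_univ (0 : Fin l))]
      rw [Finset.prod_congr rfl fun i hi => show a i = af i by rw [hadef]; simp [(Finset.mem_erase.1 hi).1]]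
      simp [hadef]
    have htA := htelA (Finset.univ.erase 0) (by simp) a han hap fun i hi hi0 => absurd (by simp [hi0]) hi
    have hgL : g * (tel a han hap)⁻¹ ∈ L := by
      refine hker _ (mul_mem hg (inv_mem (htelH0 _ _ _))) fun i hi0 hi => ?_
      rw [show (⟨g * (tel a han hap)⁻¹, hi⟩ : stab (B := B) (pt i)) =
        ⟨g, ((memH0 g).1 hg).2 i⟩ * ⟨tel a han hap, ((memH0 _).1 (htelH0 a han hap)).2 i⟩⁻¹ from rfl,
        map_mul, map_inv, hteld, ← haf]
      simp [hadef, hi0]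
    rw [show g = g * (tel a han hap)⁻¹ * tel a han hap by group]
    exact mul_mem (hLA hgL) htA
  have hnL : ∀ g, g ∈ SW h W → (∀ i, ∃ j, (pt i).map (ap g : V →ₗ[F] V) = pt j) → ∀ k ∈ L, g * k * g⁻¹ ∈ L := by
    intro g hgW hperm k hk
    have hle : L ≤ L.comap (MulAut.conj g).toMonoidHom := by
      refine le_of_eq_of_le hL (iSup_le fun i x hx => ?_)
      obtain ⟨j, hj⟩ := hperm i
      show g * x * g⁻¹ ∈ L
      rw [hL]
      refine Subgroup.mem_iSup_of_mem j ?_
      intro u hu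
      show ap (g * x * g⁻¹) u = u
      have h1 : ap g⁻¹ u ∈ h.orth (pt i) := h.mem_orth.2 fun w hw => by
        rw [← ap_form g, ap_ap_inv]
        exact h.mem_orth.1 hu _ (hj ▸ ⟨w, hw, rfl⟩)
      rw [ap_mul, ap_mul, hx _ h1, ap_ap_inv]
    exact hle hk
  have hmapH0 : ∀ g ∈ H0, ∀ i, (pt i).map (ap g : V →ₗ[F] V) = pt i := fun g hg i => by
    refine le_antisymm ?_ fun x hx => ⟨ap g⁻¹ x, ((((memH0 g).1 hg).2 i) _).2 (by rwa [ap_ap_inv]), ap_ap_inv g x⟩
    rintro _ ⟨x, hx, rfl⟩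
    exact (((memH0 g).1 hg).2 i x).1 hx
  -- commutators of lifts of the diagonal generators
  have hTT : ∀ x y, π x ∈ T → π y ∈ T → ⁅x, y⁆ = 1 := by
    intro x y hx hy
    rw [hT] at hx hy
    obtain ⟨i, hi, ex⟩ := hx
    obtain ⟨j, hj, ey⟩ := hy
    by_cases hij : i = j
    · subst hij
      exact commutatorElement_eq_one_iff_commute.2 (commute_of_powers C (g := π x) (Subgroup.mem_zpowers _)
        (by rw [ey, ← ex]; exact Subgroup.mem_zpowers _))
    have hl2 : l ≠ 2 := fun e => by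
      subst e
      exact hij ((Fin.eq_one_of_ne_zero i hi).trans (Fin.eq_one_of_ne_zero j hj).symm)
    obtain ⟨w, ew, hw, -, -⟩ := exists_permS h hb (Equiv.swap (Sum.inl (i, x0)) (Sum.inl (j, x0))) (Sum.inl (0, x0))
    obtain ⟨u, hu⟩ : ∃ u, u = tel (av i) (hav_n i) (hav_p i hi) := ⟨_, rfl⟩
    obtain ⟨v, hv⟩ : ∃ v, v = tel (av j) (hav_n j) (hav_p j hj) := ⟨_, rfl⟩
    have hsw : ∀ (i j : Fin l) (hi : i ≠ 0) (hj : j ≠ 0) t, i ≠ j →
        dv (av j) (Equiv.swap (Sum.inl (i, x0)) (Sum.inl (j, x0)) t) = dv (av i) t := by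
      intro i j hi hj t hij
      rcases eq_or_ne t (Sum.inl (i, x0)) with rfl | h1
      · rw [Equiv.swap_apply_left]; simp [hdv, hav]
      rcases eq_or_ne t (Sum.inl (j, x0)) with rfl | h2
      · rw [Equiv.swap_apply_right]; simp [hdv, hav, hi, hj, hij, Ne.symm hij]
      rw [Equiv.swap_apply_of_ne_of_ne h1 h2]
      rcases t with ⟨k, x⟩ | k
      · by_cases hx : x = x0
        · subst hx
          have k1 : k ≠ i := fun e => h1 (by rw [e])
          have k2 : k ≠ j := fun e => h2 (by rw [e])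
          simp [hdv, hav, k1, k2]
        · simp [hdv, hx]
      · simp [hdv]
    have huv : w * u * w⁻¹ = v := by
      obtain ⟨du, hdu⟩ : ∃ du, du = dgS h hb (dv (av i)) (hdvn _ (hav_n i)) ((hdvp _).trans (hav_p i hi)) := ⟨_, rfl⟩
      rw [hu, ← teleq _ (hdvn _ (hav_n i)) ((hdvp _).trans (hav_p i hi)) (av i) (hav_n i) (hav_p i hi) rfl,
        conj_dgS h hb hw _ _ _ (dv (av j)) (hdvn _ (hav_n j)) ((hdvp _).trans (hav_p j hj))
          (fun t => hsw i j hi hj t hij), hv]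
      exact teleq _ _ _ (av j) (hav_n j) (hav_p j hj) rfl
    have hvu : w * v * w⁻¹ = u := by
      rw [hv, ← teleq _ (hdvn _ (hav_n j)) ((hdvp _).trans (hav_p j hj)) (av j) (hav_n j) (hav_p j hj) rfl,
        conj_dgS h hb hw _ _ _ (dv (av i)) (hdvn _ (hav_n i)) ((hdvp _).trans (hav_p i hi))
          (fun t => by rw [← hsw i j hi hj _ hij, Equiv.swap_apply_self]), hu]
      exact teleq _ _ _ (av i) (hav_n i) (hav_p i hi) rfl
    have hcom : Commute u v := by
      refine hsu_ext h hb fun t => ?_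
      rw [hu, hv, ap_mul, ap_mul, htel, htel, LinearEquiv.map_smul, LinearEquiv.map_smul, htel, htel, smul_comm]
    have h2 := C.cm_conj_eq hcom w
    rw [huv, hvu] at h2
    rw [C.comm_eq ex ey, ← hu, ← hv]
    have hsq : C.cm u v ^ 2 = 1 := by
      rw [pow_two]
      nth_rewrite 1 [← h2]
      rw [← C.cm_inv u v, inv_mul_cancel]
    exact eq_one_of_pow C hZ (fun hd => hl2 ((Nat.prime_dvd_prime_iff_eq hl Nat.prime_two).1 hd))
      (C.cm_central hcom) hsq
  have hAA : ∀ x y, π x ∈ A → π y ∈ A → ⁅x, y⁆ ∈ M := by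
    have hnA : ∀ g ∈ A, ∀ k ∈ L, g * k * g⁻¹ ∈ L := fun g hg =>
      hnL g ((memH0 g).1 (hAH0 hg)).1 fun i => ⟨i, hmapH0 g (hAH0 hg) i⟩
    intro x y hx hy
    rw [hA] at hx hy
    refine comm_closure C (fun g hg => hMn g (hnA _ (hA.symm ▸ hg))) ?_ hx hy
    intro x y hx hy
    rcases hx with hx | hx
    · exact comm_mem_star C hML hMn hx (hnA _ (hA.symm ▸ Subgroup.subset_closure hy))
    rcases hy with hy | hy
    · rw [← commutatorElement_inv]
      exact inv_mem (comm_mem_star C hML hMn hy (hnA _ (hA.symm ▸ Subgroup.subset_closure (Or.inr hx))))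
    · rw [hTT x y hx hy]; exact one_mem M
  -- the cyclic permutation
  let fA : Fin l × Fin (Module.finrank F W0) ≃ Fin l × Fin (Module.finrank F W0) :=
    { toFun := fun t => if t.2 = x0 then (t.1 + 1, t.2) else t
      invFun := fun t => if t.2 = x0 then (t.1 - 1, t.2) else t
      left_inv := fun t => by obtain ⟨i, x⟩ := t; by_cases ht : x = x0 <;> simp [ht]
      right_inv := fun t => by obtain ⟨i, x⟩ := t; by_cases ht : x = x0 <;> simp [ht] }
  let fR : Fin l × Fin (Module.finrank F W0) ≃ Fin l × Fin (Module.finrank F W0) :=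
    { toFun := fun t => if t.2 = x0 then t else (t.1 + 1, t.2)
      invFun := fun t => if t.2 = x0 then t else (t.1 - 1, t.2)
      left_inv := fun t => by obtain ⟨i, x⟩ := t; by_cases ht : x = x0 <;> simp [ht]
      right_inv := fun t => by obtain ⟨i, x⟩ := t; by_cases ht : x = x0 <;> simp [ht] }
  obtain ⟨cA, dA, hcA, hdA, -⟩ := exists_permS h hb (Equiv.sumCongr fA (Equiv.refl _)) (Sum.inl (0, x0))
  obtain ⟨cR, dR, hcR, hdR0⟩ : ∃ (cR : HSU B) (dR : _ → Fˣ),
      (∀ t, ap cR (b t) = (dR t : F) • b (Equiv.sumCongr fR (Equiv.refl _) t)) ∧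
        (∀ t, (∀ i x, x ≠ x0 → t ≠ Sum.inl (i, x)) → dR t = 1) := by
    by_cases hx1 : ∃ x1, x1 ≠ x0
    · obtain ⟨x1, hx1⟩ := hx1
      obtain ⟨cR, dR, hcR, hdR, -⟩ := exists_permS h hb (Equiv.sumCongr fR (Equiv.refl _)) (Sum.inl (0, x1))
      exact ⟨cR, dR, hcR, fun t ht => hdR t (fun e => ht 0 x1 hx1 e)⟩
    · push Not at hx1
      have hone : Equiv.sumCongr fR (Equiv.refl (Fin (Module.finrank F (h.orth W)))) = 1 := by
        refine Equiv.ext fun t => ?_
        rcases t with ⟨i, x⟩ | k <;> simp [fR, hx1]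
      refine ⟨1, fun _ => 1, fun t => ?_, fun _ _ => rfl⟩
      rw [hone]; simp
  obtain ⟨c, hcdef⟩ : ∃ c, c = cA * cR := ⟨_, rfl⟩
  have hc_shift : ∀ i x, ∃ d : Fˣ, ap c (b (Sum.inl (i, x))) = (d : F) • b (Sum.inl (i + 1, x)) := by
    intro i x
    refine ⟨dR (Sum.inl (i, x)) * dA (Equiv.sumCongr fR (Equiv.refl _) (Sum.inl (i, x))), ?_⟩
    rw [hcdef, ap_mul, hcR, LinearEquiv.map_smul, hcA, smul_smul, ← Units.val_mul]
    congr 2
    by_cases hx : x = x0 <;> simp [fA, fR, hx]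
  have hcW : c ∈ SW h W := by
    rw [hWspan]
    refine mem_SW_span h hb _ fun t ht => ?_
    rcases t with t | k
    · exact absurd ⟨t, rfl⟩ ht
    · rw [hcdef, ap_mul, hcR, LinearEquiv.map_smul, hcA, hdR0 _ (by simp),
        hdA (Equiv.sumCongr fR (Equiv.refl _) (Sum.inr k)) (by simp)]
      simp
  have hcpt : ∀ i, (pt i).map (ap c : V →ₗ[F] V) = pt (i + 1) := by
    intro i
    have hle : (pt i).map (ap c : V →ₗ[F] V) ≤ pt (i + 1) := by
      rw [hspan0, hspan0, Submodule.map_span, Submodule.span_le]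
      rintro _ ⟨_, ⟨_, ⟨x, rfl⟩, rfl⟩, rfl⟩
      obtain ⟨d, hd⟩ := hc_shift i x
      show ap c (b (Sum.inl (i, x))) ∈ _
      rw [hd]
      exact Submodule.smul_mem _ _ (Submodule.subset_span ⟨_, ⟨x, rfl⟩, rfl⟩)
    refine Submodule.eq_of_le_of_finrank_eq hle ?_
    rw [LinearEquiv.finrank_map_eq, hpt, hpt, LinearEquiv.finrank_map_eq, LinearEquiv.finrank_map_eq]
  have hcn : ∀ (n : ℕ) i, (pt i).map (ap (c ^ n) : V →ₗ[F] V) = pt ((· + 1)^[n] i) := by
    intro n
    induction n with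
    | zero =>
      intro i
      rw [pow_zero]
      exact Submodule.map_id _
    | succ n ih =>
      intro i
      rw [pow_succ', Function.iterate_succ_apply', ← hcpt, ← ih, ← Submodule.map_comp]
      congr 1
  have hiter : ∀ r i : Fin l, (· + 1)^[(r : ℕ)] i = i + r := by
    intro r i
    have : ∀ n : ℕ, ∀ hn : n < l, (· + 1)^[n] i = i + ⟨n, hn⟩ := by
      intro n
      induction n with
      | zero => intro hn; simp
      | succ n ihn =>
        intro hn
        rw [Function.iterate_succ_apply', ihn (by omega), add_assoc]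
        congr 1
        apply Fin.ext
        rw [Fin.val_add, Fin.val_one', Nat.add_mod_mod, Nat.mod_eq_of_lt hn]
    exact this r r.2
  have hcH0 : ∀ g, c * g * c⁻¹ ∈ H0 ↔ g ∈ H0 := by
    intro g
    rw [memH0, memH0]
    refine and_congr ⟨fun hg => ?_, fun hg => mul_mem (mul_mem hcW hg) (inv_mem hcW)⟩ ?_
    · have := mul_mem (mul_mem (inv_mem hcW) hg) hcW
      rwa [show c⁻¹ * (c * g * c⁻¹) * c = g by group] at this
    have hsub : ∀ i x, x ∈ pt i ↔ ap c x ∈ pt (i + 1) := fun i x => by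
      rw [← hcpt i]
      exact ⟨fun hx => ⟨x, hx, rfl⟩, fun ⟨y, hy, e⟩ => (ap c).injective e ▸ hy⟩
    refine ⟨fun hg i x => ?_, fun hg i x => ?_⟩
    · rw [hsub i x, hsub i (ap g x), hg (i + 1) (ap c x), ap_mul, ap_mul, ap_inv_ap]
    · obtain ⟨j, rfl⟩ : ∃ j, i = j + 1 := ⟨i - 1, by simp⟩
      obtain ⟨y, rfl⟩ := (ap c).surjective x
      rw [ap_mul, ap_mul, ap_inv_ap, ← hsub, ← hsub]
      exact hg j y
  obtain ⟨c', hc'⟩ := C.surj c
  refine good_of_gen C hML hMZ hMn hLA (c := c') ?_ ?_ ?_ hAA ?_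
  · intro g hg
    rw [hc']
    obtain ⟨r, hr⟩ := hX g hg
    have hgc : (c ^ (r : ℕ))⁻¹ * g ∈ H0 := by
      rw [memH0]
      refine ⟨mul_mem (inv_mem (pow_mem hcW _)) (hXW hg), fun i => mem_stab_of_le fun x hx => ?_⟩
      rw [ap_mul]
      have : ap g x ∈ (pt i).map (ap (c ^ (r : ℕ)) : V →ₗ[F] V) := by
        rw [hcn, hiter, ← hr i]; exact ⟨x, hx, rfl⟩
      obtain ⟨y, hy, e⟩ := this
      rw [← e]
      show ap (c ^ (r : ℕ))⁻¹ (ap (c ^ (r : ℕ)) y) ∈ pt i
      rwa [ap_inv_ap]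
    rw [show g = c ^ (r : ℕ) * ((c ^ (r : ℕ))⁻¹ * g) by group]
    exact mul_mem (Subgroup.mem_sup_right (pow_mem (Subgroup.mem_zpowers _) _)) (Subgroup.mem_sup_left (hH0A hgc))
  · intro g
    rw [hc']
    exact ⟨fun hg => hH0A ((hcH0 g).1 (hAH0 hg)), fun hg => hH0A ((hcH0 g).2 (hAH0 hg))⟩
  · rw [hc']
    intro g hg k hk
    have hle : A ⊔ Subgroup.zpowers c ≤ Subgroup.normalizer (L : Set (HSU B)) := by
      refine sup_le (fun a ha => ?_) (Subgroup.zpowers_le.2 ?_)
      · rw [Subgroup.mem_normalizer_iff]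
        have hperm : ∀ a ∈ A, ∀ k ∈ L, a * k * a⁻¹ ∈ L := fun a ha =>
          hnL a ((memH0 a).1 (hAH0 ha)).1 fun i => ⟨i, hmapH0 a (hAH0 ha) i⟩
        refine fun k => ⟨hperm a ha k, fun hk => ?_⟩
        have := hperm a⁻¹ (inv_mem ha) _ hk
        rwa [show a⁻¹ * (a * k * a⁻¹) * a⁻¹⁻¹ = k by group] at this
      · rw [Subgroup.mem_normalizer_iff]
        refine fun k => ⟨hnL c hcW (fun i => ⟨_, hcpt i⟩) k, fun hk => ?_⟩
        have := hnL c⁻¹ (inv_mem hcW) (fun i => ⟨i - 1, by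
          rw [show pt i = (pt (i - 1)).map (ap c : V →ₗ[F] V) by rw [hcpt, sub_add_cancel], ← Submodule.map_comp,
            show (ap c⁻¹ : V →ₗ[F] V) ∘ₗ (ap c : V →ₗ[F] V) = LinearMap.id from
              LinearMap.ext fun x => ap_inv_ap c x, Submodule.map_id]⟩) _ hk
        rwa [show c⁻¹ * (c * k * c⁻¹) * c⁻¹⁻¹ = k by group] at this
    exact (Subgroup.mem_normalizer_iff.1 (hle hg) k).1 hk
  · intro x hxA hfix
    rw [hc'] at hfix
    have hxH0 := hAH0 hxA
    obtain ⟨af, haf⟩ : ∃ af : Fin l → Fˣ, ∀ i, af i = dl (pt i) ⟨π x, ((memH0 _).1 hxH0).2 i⟩ := ⟨_, fun _ => rfl⟩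
    have hL1 : ∀ k ∈ L, ∀ i (hi : k ∈ stab (pt i)), dl (pt i) ⟨k, hi⟩ = 1 := by
      intro k hk i hi
      have hle : L ≤ (MonoidHom.ker (dl (B := B) (pt i))).map (stab (pt i)).subtype := by
        rw [hL]
        refine iSup_le fun j y hy => ?_
        have hys : y ∈ stab (pt i) := ((memH0 y).1 (hLH0 (hL ▸ Subgroup.mem_iSup_of_mem j hy))).2 i
        refine ⟨⟨y, hys⟩, ?_, rfl⟩
        by_cases hij : i = j
        · subst hij; exact dl_of_mem_SW h (hndpt i) hy
        · exact dl_eq_one_of_fix fun z hz => hy z (ho j i (Ne.symm hij) hz)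
      obtain ⟨⟨y, hy⟩, hy1, rfl⟩ := hle hk
      exact hy1
    have hconst : ∀ i, af (i + 1) = af i := by
      intro i
      have hcx : c * (π x)⁻¹ * c⁻¹ ∈ H0 := (hcH0 _).2 (inv_mem hxH0)
      have h3 : π x * (c * (π x)⁻¹ * c⁻¹) ∈ stab (pt (i + 1)) :=
        ((memH0 _).1 (mul_mem hxH0 hcx)).2 _
      have h4 : dl (pt (i + 1)) ⟨_, h3⟩ = 1 := hL1 _ (by
        rw [commutatorElement_def] at hfix
        simpa only [mul_assoc] using hfix) _ h3
      rw [show (⟨π x * (c * (π x)⁻¹ * c⁻¹), h3⟩ : stab (B := B) (pt (i + 1))) =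
        ⟨π x, ((memH0 _).1 hxH0).2 _⟩ * ⟨c * (π x)⁻¹ * c⁻¹, ((memH0 _).1 hcx).2 _⟩ from rfl, map_mul, ← haf,
        dl_conj h ((memH0 _).1 (inv_mem hxH0) |>.2 i) (hcpt i),
        show (⟨(π x)⁻¹, ((memH0 _).1 (inv_mem hxH0)).2 i⟩ : stab (B := B) (pt i)) =
          ⟨π x, ((memH0 _).1 hxH0).2 i⟩⁻¹ from rfl, map_inv, ← haf, mul_inv_eq_one] at h4
      exact h4
    have hall : ∀ i, af i = af 0 := fun i => by
      have hn : ∀ n : ℕ, af ((· + 1)^[n] 0) = af 0 := fun n => by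
        induction n with
        | zero => rfl
        | succ n ihn => rw [Function.iterate_succ_apply', hconst, ihn]
      have := hn (i : ℕ)
      rwa [hiter, zero_add] at this
    have hafn : ∀ i, af i ∈ normOne σ := fun i => by rw [haf]; exact mem_normOne.2 (dl_norm h (hndpt i) _)
    obtain ⟨a, hadef⟩ : ∃ a : Fin l → Fˣ, a = fun i => if i = 0 then (∏ i ∈ Finset.univ.erase 0, af i)⁻¹ else af i :=
      ⟨_, rfl⟩
    have han : ∀ i, a i ∈ normOne σ := fun i => by
      rw [hadef]; dsimp only; split_ifs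
      exacts [inv_mem (Subgroup.prod_mem _ fun i _ => hafn i), hafn i]
    have hap : ∏ i, a i = 1 := by
      rw [← Finset.mul_prod_erase _ _ (Finset.mem_univ (0 : Fin l))]
      rw [Finset.prod_congr rfl fun i hi => show a i = af i by rw [hadef]; simp [(Finset.mem_erase.1 hi).1]]
      simp [hadef]
    have hgL : π x * (tel a han hap)⁻¹ ∈ L := by
      refine hker _ (mul_mem hxH0 (inv_mem (htelH0 _ _ _))) fun i hi0 hi => ?_
      rw [show (⟨π x * (tel a han hap)⁻¹, hi⟩ : stab (B := B) (pt i)) =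
        ⟨π x, ((memH0 _).1 hxH0).2 i⟩ * ⟨tel a han hap, ((memH0 _).1 (htelH0 a han hap)).2 i⟩⁻¹ from rfl,
        map_mul, map_inv, hteld, ← haf]
      simp [hadef, hi0]
    have haall : ∀ i, a i = a 0 := by
      have h5 : af 0 = a 0 := by
        have h6 := hL1 _ hgL 0 ((((memH0 _).1 (hLH0 hgL))).2 0)
        rw [show (⟨π x * (tel a han hap)⁻¹, ((memH0 _).1 (hLH0 hgL)).2 0⟩ : stab (B := B) (pt 0)) =
          ⟨π x, ((memH0 _).1 hxH0).2 0⟩ * ⟨tel a han hap, ((memH0 _).1 (htelH0 a han hap)).2 0⟩⁻¹ from rfl,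
          map_mul, map_inv, hteld, ← haf, mul_inv_eq_one] at h6
        exact h6
      intro i
      by_cases hi : i = 0
      · rw [hi]
      · rw [← h5, ← hall i, hadef]; simp [hi]
    obtain ⟨tl, htl⟩ := C.surj (tel a han hap)
    obtain ⟨P0, hP0⟩ : ∃ P0, P0 = Submodule.span F (b '' {t | ∃ i, t = Sum.inl (i, x0)}) := ⟨_, rfl⟩
    have hndP0 : ND B P0 := hP0 ▸ nd_span h hb _
    have htelP0 : tel a han hap ∈ SW h P0 := by
      rw [hP0]
      refine mem_SW_span h hb _ fun t ht => ?_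
      rw [htel]
      rcases t with ⟨i, x⟩ | k
      · have hx : x ≠ x0 := fun e => ht ⟨i, by rw [e]⟩
        simp [hdv, hx]
      · simp [hdv]
    have hcAP0 : cA ∈ SW h P0 := by
      rw [hP0]
      refine mem_SW_span h hb _ fun t ht => ?_
      rcases t with ⟨i, x⟩ | k
      · have hx : x ≠ x0 := fun e => ht ⟨i, by rw [e]⟩
        rw [hcA, hdA _ (by simp [hx])]
        simp [fA, hx]
      · rw [hcA, hdA _ (by simp)]; simp
    have hcRP0 : cR ∈ SW h (h.orth P0) := by
      refine SW_mono h (hP0 ▸ span_compl h hb _) (mem_SW_span h hb _ fun t ht => ?_)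
      simp only [Set.mem_compl_iff, not_not] at ht
      obtain ⟨i, rfl⟩ := ht
      rw [hcR, hdR0 _ (fun i' x hx e => hx (congrArg Prod.snd (Sum.inl_injective e)).symm)]
      simp [fR]
    obtain ⟨cA', hcA'⟩ := C.surj cA
    obtain ⟨cR', hcR'⟩ := C.surj cR
    have h1A : Commute cA' tl := by
      refine pairing C hZ hlp (gen_SW h hndP0) (fun k hk => ?_) (hcA' ▸ hcAP0)
      rw [htl]
      have hsc : ∀ u ∈ P0, ap (tel a han hap) u = (a 0 : F) • u := by
        intro u hu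
        refine (Submodule.span_le (p := LinearMap.eqLocus (ap (tel a han hap) : V →ₗ[F] V)
          ((a 0 : F) • LinearMap.id))).2 ?_ (hP0 ▸ hu)
        rintro _ ⟨_, ⟨i, rfl⟩, rfl⟩
        show ap (tel a han hap) (b (Sum.inl (i, x0))) = (a 0 : F) • b (Sum.inl (i, x0))
        rw [htel]; simp [hdv, haall i]
      refine ap_ext fun u => ?_
      obtain ⟨w, r, rfl⟩ := CfsgLib.Classical.exists_decomp (h.isCompl_orth hndP0) u
      simp only [ap_mul, map_add]
      rw [htelP0 r r.2, hk r r.2, htelP0 r r.2, hsc w w.2, hsc _ (SW_map h hndP0 hk w.2), LinearEquiv.map_smul]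
    have h1R : Commute cR' tl := by
      refine pairing C hZ hlp (gen_SW h (nd_orth h hndP0)) (fun k hk => ?_) (hcR' ▸ hcRP0)
      rw [htl]
      exact (commute_of_orth h hndP0 le_rfl htelP0 hk).symm
    obtain ⟨z, hz, ec⟩ := C.diff (x := c') (y := cA' * cR') (by rw [map_mul, hcA', hcR', hc', hcdef])
    obtain ⟨y, ey⟩ : ∃ y, x = y * tl := ⟨x * tl⁻¹, by group⟩
    have hy : π y ∈ L := by
      have h7 : π y = π x * (tel a han hap)⁻¹ := by rw [ey, map_mul, htl, mul_inv_cancel_right]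
      rwa [h7]
    have hct : Commute tl c' := by
      rw [ec]
      exact ((h1A.symm.mul_right h1R.symm)).mul_right (C.ker_comm hz tl)
    rw [ey, show ⁅y * tl, c'⁆ = y * ⁅tl, c'⁆ * y⁻¹ * ⁅y, c'⁆ by simp only [commutatorElement_def]; group,
      commutatorElement_eq_one_iff_commute.2 hct, mul_one, mul_inv_cancel, one_mul]
    exact comm_mem_star C hML hMn hy (hc' ▸ hnL c hcW fun i => ⟨_, hcpt i⟩)

end CfsgLib.Known.UnitMult
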