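import Cfsg.Agent.Lib.Known.UnitMult.Imprim
import Cfsg.Agent.Lib.Recog.PGroupImprimitive

/-!
# No stem part of order prime to the characteristic
-/

set_option autoImplicit false
set_option linter.unusedSectionVars false

namespace CfsgLib.Known.UnitMult

open CfsgLib.Classical CfsgLib.Classical.Herm CfsgLib.Known.SympMult
open scoped commutatorElement

section Ext

variable {G Γ : Type*} [Group G] [Group Γ] {π : Γ →* G} (C : CExt π)
include C

theorem good_of_cyclic {P : Subgroup G} [IsCyclic P] : Good π P := by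
  obtain ⟨⟨g, hg⟩, hgen⟩ := IsCyclic.exists_generator (α := P)
  have hle : ∀ k ∈ P, k ∈ Subgroup.zpowers g := fun k hk => by
    obtain ⟨n, hn⟩ := Subgroup.mem_zpowers_iff.1 (hgen ⟨k, hk⟩)
    exact Subgroup.mem_zpowers_iff.2 ⟨n, by simpa using congrArg Subtype.val hn⟩
  intro z hz _
  have h1 : ⁅P.comap π, P.comap π⁆ = ⊥ := by
    rw [eq_bot_iff, Subgroup.commutator_le]
    intro x hx y hy
    rw [Subgroup.mem_bot, commutatorElement_eq_one_iff_commute]
    exact commute_of_powers C (hle _ hx) (hle _ hy)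
  rwa [h1, Subgroup.mem_bot] at hz

end Ext

variable {F : Type*} [Field F] {V : Type*} [AddCommGroup V] [Module F V] {σ : F →+* F}
  {B : V →ₛₗ[σ] V →ₗ[F] F}

/-- the vectors fixed by an element -/
def fx (g : HSU B) : Submodule F V := LinearMap.eqLocus (ap g : V →ₗ[F] V) LinearMap.id

theorem mem_fx {g : HSU B} {x : V} : x ∈ fx g ↔ ap g x = x := Iff.rfl

/-- the sum over the powers -/
noncomputable def orbSum (g : HSU B) (m : ℕ) (x : V) : V := ∑ j ∈ Finset.range m, ap (g ^ j) x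

theorem orbSum_mem {g : HSU B} {m : ℕ} (hg : g ^ m = 1) (x : V) : orbSum g m x ∈ fx g := by
  have h1 := Finset.sum_range_succ (fun j => ap (g ^ j) x) m
  have h2 := Finset.sum_range_succ' (fun j => ap (g ^ j) x) m
  rw [hg, ← pow_zero g] at h1
  have h4 := add_right_cancel (h1.symm.trans h2)
  rw [mem_fx, orbSum, map_sum]
  conv_rhs => rw [h4]
  exact Finset.sum_congr rfl fun j _ => by rw [← ap_mul, ← pow_succ']

variable [Finite F] [FiniteDimensional F V] (h : IsHerm B)

theorem orbSum_mem' {W : Submodule F V} {g : HSU B} (hg : g ∈ stab W) {m : ℕ} {x : V} (hx : x ∈ W) :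
    orbSum g m x ∈ W :=
  Submodule.sum_mem _ fun j _ => (((stab (B := B) W).pow_mem hg j) x).1 hx

theorem stab_fx {W : Submodule F V} {g k : HSU B} (hk : k ∈ stab W) (hc : Commute g k) :
    k ∈ stab (W ⊓ fx g) := mem_stab_of_le fun x hx =>
  ⟨(hk x).1 hx.1, mem_fx.2 (by rw [← ap_mul, hc.eq, ap_mul, mem_fx.1 hx.2])⟩

include h

theorem nd_fx {W : Submodule F V} (hW : ND B W) {g : HSU B} (hg : g ∈ stab W) {m : ℕ} (hm : (m : F) ≠ 0)
    (hgm : g ^ m = 1) : ND B (W ⊓ fx g) := by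
  intro x hx hrad
  refine hW x hx.1 fun y hy => ?_
  have h1 := hrad _ ⟨orbSum_mem' hg hy, orbSum_mem hgm y⟩
  rw [orbSum, map_sum] at h1
  have h2 : ∀ j ∈ Finset.range m, B x (ap (g ^ j) y) = B x y := fun j _ => by
    conv_lhs => rw [← ap_pow_fix (mem_fx.1 hx.2) j, ap_form]
  rw [Finset.sum_congr rfl h2, Finset.sum_const, Finset.card_range, nsmul_eq_mul, mul_eq_zero] at h1
  exact h1.resolve_left hm

variable {p : ℕ} [CharP F p] {Γ : Type*} [Group Γ] [Finite Γ] {π : Γ →* HSU B} (C : CExt π) {l : ℕ}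
  [hlF : Fact l.Prime] (hZ : IsPGroup l π.ker) (hlp : ¬ l ∣ p)
include C hZ hlp

omit h C hZ in
theorem natCast_ne : (l : F) ≠ 0 := by
  rw [Ne, CharP.cast_eq_zero_iff F p]
  intro hd
  rcases (Nat.dvd_prime hlF.out).1 hd with e | e
  · exact CharP.ringChar_ne_one (R := F) (ringChar.eq F p ▸ e)
  · exact hlp (e ▸ dvd_rfl)

/-- the hypothesis of the induction -/
def IH (W : Submodule F V) : Prop :=
  ∀ U : Submodule F V, ND B U → Module.finrank F U < Module.finrank F W → Good π (SW h U)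

variable {W : Submodule F V} (hW : ND B W) (ih : IH h (π := π) W)
include hW ih

/-- invariant subspaces -/
theorem good_invariant {U : Submodule F V} (hU : ND B U) (hle : U ≤ W) (h0 : U ≠ ⊥) (h1 : U ≠ W) :
    Good π (SW h W ⊓ stab U) := by
  have hlt : U < W := lt_of_le_of_ne hle h1
  refine good_split h C hZ hlp (p := p) hU hW hle (ih U hU (Submodule.finrank_lt_finrank_of_lt hlt))
    (ih _ (nd_inf h hU hW hle).1 ?_)
  have h2 := finrank_inf h hU hW hle
  have h3 : 0 < Module.finrank F U := Nat.pos_of_ne_zero fun e => h0 (Submodule.finrank_eq_zero.1 e)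
  omega

/-- lifts of an involution and an element commuting with it -/
theorem comm_invol {x c : Γ} (hx : π x ∈ SW h W) (hc : π c ∈ SW h W) (hcom : Commute (π x) (π c))
    (hy : π x ^ 2 = 1) : ⁅x, c⁆ = 1 := by
  obtain ⟨d, hd⟩ : ∃ d, d = ⁅x, c⁆ := ⟨_, rfl⟩
  rw [← hd]
  have hd1 : π d = 1 := by rw [hd, map_commutatorElement, commutatorElement_eq_one_iff_commute.2 hcom]
  by_cases hl2 : l = 2
  · subst hl2
    have h2 : ((2 : ℕ) : F) ≠ 0 := natCast_ne hlp
    by_cases hy1 : π x = 1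
    · rw [hd, commutatorElement_eq_one_iff_commute]
      exact (C.ker_comm hy1 c).symm
    obtain ⟨U, hU⟩ : ∃ U, U = W ⊓ fx (π x) := ⟨_, rfl⟩
    by_cases hU0 : U = ⊥
    · -- the involution is `-1`
      have hneg : ∀ w ∈ W, ap (π x) w = -w := fun w hw => by
        have hm : orbSum (π x) 2 w ∈ U := hU ▸ ⟨orbSum_mem' (SW_le_stab h hW hx) hw, orbSum_mem hy w⟩
        rw [hU0, Submodule.mem_bot, orbSum, Finset.sum_range_succ, Finset.sum_range_one, pow_zero, pow_one,
          ap_one, add_comm] at hm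
        exact eq_neg_of_add_eq_zero_left hm
      rw [hd, commutatorElement_eq_one_iff_commute]
      refine (pairing C hZ hlp (gen_SW h (p := p) hW) (fun k hk => ?_) hc).symm
      refine ap_ext fun u => ?_
      obtain ⟨w, r, rfl⟩ := CfsgLib.Classical.exists_decomp (h.isCompl_orth hW) u
      simp only [ap_mul, map_add]
      rw [hx r r.2, hk r r.2, hx r r.2, hneg w w.2, map_neg, hneg _ (SW_map h hW hk w.2)]
    · have hU1 : U ≠ W := fun e => hy1 (eq_one_of_fix h hW hx fun w hw => by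
        rw [← e, hU] at hw; exact mem_fx.1 hw.2)
      have hgood := good_invariant h C hZ hlp hW ih (U := U)
        (hU ▸ nd_fx h hW (SW_le_stab h hW hx) h2 hy) (hU ▸ inf_le_left) hU0 hU1
      refine hgood d ?_ hd1
      rw [hd]
      refine Subgroup.commutator_mem_commutator ⟨hx, ?_⟩ ⟨hc, ?_⟩
      · exact hU ▸ stab_fx (SW_le_stab h hW hx) (Commute.refl _)
      · exact hU ▸ stab_fx (SW_le_stab h hW hc) hcom
  · have hsq : Commute (x ^ 2) c := (C.ker_comm (show π (x ^ 2) = 1 by rw [map_pow, hy]) c).symm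
    have hdz : ∀ g : Γ, Commute d g := fun g => (C.ker_comm hd1 g).symm
    have h2 : d ^ 2 = 1 := by
      have e1 : x * c * x⁻¹ = d * c := by rw [hd, commutatorElement_def]; group
      have e2 : x ^ 2 * c * (x ^ 2)⁻¹ = d * (d * c) := by
        rw [show x ^ 2 * c * (x ^ 2)⁻¹ = x * (x * c * x⁻¹) * x⁻¹ by rw [pow_two]; group, e1,
          show x * (d * c) * x⁻¹ = x * d * x⁻¹ * (x * c * x⁻¹) by group, e1, ← (hdz x).eq, mul_inv_cancel_right]
      rw [hsq.eq, mul_inv_cancel_right] at e2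
      rw [pow_two]
      exact mul_eq_right.1 ((mul_assoc d d c).trans e2.symm)
    exact eq_one_of_pow C hZ (fun hd2 => hl2 ((Nat.prime_dvd_prime_iff_eq hlF.out Nat.prime_two).1 hd2)) hd1 h2

/-- cyclic by one element -/
theorem good_two_gen {P : Subgroup (HSU B)} {x s : HSU B} (hx : x ∈ SW h W) (hs : s ∈ SW h W)
    (hP : P ≤ Subgroup.zpowers x ⊔ Subgroup.zpowers s) (hn : s * x * s⁻¹ ∈ Subgroup.zpowers x)
    (hfix : ∀ y ∈ Subgroup.zpowers x, Commute y s → y ^ 2 = 1) : Good π P := by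
  have : Finite (HSU B) := Finite.of_surjective π C.surj
  have hA : (Subgroup.zpowers x).map (MulAut.conj s).toMonoidHom = Subgroup.zpowers x := by
    refine Subgroup.eq_of_le_of_card_ge ?_ (le_of_eq ?_)
    · rw [MonoidHom.map_zpowers, Subgroup.zpowers_le]
      exact hn
    · exact (Subgroup.card_map_of_injective (MulAut.conj s).injective).symm
  obtain ⟨c, hc⟩ := C.surj s
  refine good_of_gen C (L := ⊥) (A := Subgroup.zpowers x) (M := ⊥) (Subgroup.map_bot π)
    (fun m hm _ => Subgroup.mem_bot.1 hm) (fun g _ m hm => ?_) bot_le (c := c) ?_ ?_ ?_ ?_ ?_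
  · rw [Subgroup.mem_bot.1 hm]; simp
  · rw [hc]; exact hP
  · intro a
    rw [hc]
    refine ⟨fun ha => ?_, fun ha => hA ▸ ⟨a, ha, rfl⟩⟩
    rw [← hA] at ha
    obtain ⟨b, hb, e⟩ := ha
    rwa [show b = a from (MulAut.conj s).injective e] at hb
  · intro g _ k hk
    rw [Subgroup.mem_bot.1 hk]; simp
  · intro u v hu hv
    rw [Subgroup.mem_bot, commutatorElement_eq_one_iff_commute]
    exact commute_of_powers C hu hv
  · intro u hu hf
    rw [Subgroup.mem_bot, hc, commutatorElement_eq_one_iff_commute] at hf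
    rw [Subgroup.mem_bot]
    exact comm_invol h C hZ hlp hW ih ((Subgroup.zpowers_le.2 hx) hu) (hc ▸ hs) (hc ▸ hf) (hfix _ hu hf)

/-- groups that are quaternion, dihedral or quasidihedral -/
theorem good_of_model {P : Subgroup (HSU B)} (hPW : P ≤ SW h W) {x s : P}
    (hgen : ∀ g : P, g ∈ Subgroup.zpowers x ⊔ Subgroup.zpowers s)
    (hn : s * x * s⁻¹ ∈ Subgroup.zpowers x)
    (hfix : ∀ y ∈ Subgroup.zpowers x, Commute y s → y ^ 2 = 1) : Good π P := by
  refine good_two_gen h C hZ hlp hW ih (hPW x.2) (hPW s.2) (fun g hg => ?_) ?_ ?_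
  · have h1 : P.subtype ⟨g, hg⟩ ∈ (Subgroup.zpowers x ⊔ Subgroup.zpowers s).map P.subtype := ⟨_, hgen _, rfl⟩
    rwa [Subgroup.map_sup, MonoidHom.map_zpowers, MonoidHom.map_zpowers] at h1
  · obtain ⟨n, hn⟩ := Subgroup.mem_zpowers_iff.1 hn
    exact Subgroup.mem_zpowers_iff.2 ⟨n, by simpa using congrArg Subtype.val hn⟩
  · intro y hy hys
    obtain ⟨n, rfl⟩ := Subgroup.mem_zpowers_iff.1 hy
    have h1 := hfix (x ^ n) (Subgroup.zpow_mem _ (Subgroup.mem_zpowers x) n) (Subtype.ext (by simpa using hys.eq))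
    simpa using congrArg Subtype.val h1

omit h C hZ hlp hW ih in
theorem of_inv {G : Type*} [Group G] {x s : G} (hc : s * x * s⁻¹ = x⁻¹) :
    s * x * s⁻¹ ∈ Subgroup.zpowers x ∧ ∀ y ∈ Subgroup.zpowers x, Commute y s → y ^ 2 = 1 := by
  refine ⟨hc ▸ inv_mem (Subgroup.mem_zpowers x), fun y hy hys => ?_⟩
  obtain ⟨n, rfl⟩ := Subgroup.mem_zpowers_iff.1 hy
  have h1 : s * x ^ n * s⁻¹ = x ^ n := by rw [← hys.eq, mul_inv_cancel_right]
  rw [← conj_zpow, hc, inv_zpow] at h1
  rw [pow_two]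
  nth_rewrite 1 [← h1]
  exact inv_mul_cancel _

theorem good_dihedral {P : Subgroup (HSU B)} (hPW : P ≤ SW h W) {n : ℕ} (φ : P ≃* DihedralGroup n) :
    Good π P := by
  obtain ⟨h1, h2⟩ := of_inv (x := φ.symm (DihedralGroup.r 1)) (s := φ.symm (DihedralGroup.sr 0))
    (by rw [← map_inv, ← map_mul, ← map_inv, ← map_mul]; exact congrArg φ.symm (by simp))
  refine good_of_model h C hZ hlp hW ih hPW (fun g => ?_) h1 h2
  obtain ⟨g, rfl⟩ := φ.symm.surjective g
  have hr : ∀ i, φ.symm (DihedralGroup.r i) ∈ Subgroup.zpowers (φ.symm (DihedralGroup.r 1)) := fun i => by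
    refine Subgroup.mem_zpowers_iff.2 ⟨(i.cast : ℤ), ?_⟩
    rw [← map_zpow]; simp
  rcases g with i | i
  · exact Subgroup.mem_sup_left (hr i)
  · rw [show DihedralGroup.sr i = DihedralGroup.sr 0 * DihedralGroup.r i by simp, map_mul]
    exact mul_mem (Subgroup.mem_sup_right (Subgroup.mem_zpowers _)) (Subgroup.mem_sup_left (hr i))

theorem good_quaternion {P : Subgroup (HSU B)} (hPW : P ≤ SW h W) {n : ℕ} (φ : P ≃* QuaternionGroup n) :
    Good π P := by
  rcases Nat.eq_zero_or_pos n with rfl | hn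
  · have : Finite (HSU B) := Finite.of_surjective π C.surj
    have : Finite (QuaternionGroup 0) := Finite.of_equiv _ φ.toEquiv
    have : Infinite (QuaternionGroup 0) := Infinite.of_injective (fun i : ℤ => QuaternionGroup.a (n := 0) (i : ZMod (2 * 0)))
      (fun i j e => by
        injection e with e')
    exact (not_finite (QuaternionGroup 0)).elim
  have : NeZero n := ⟨hn.ne'⟩
  obtain ⟨h1, h2⟩ := of_inv (x := φ.symm (QuaternionGroup.a 1)) (s := φ.symm (QuaternionGroup.xa 0))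
    (by rw [mul_inv_eq_iff_eq_mul, ← map_inv, ← map_mul, ← map_mul]; exact congrArg φ.symm (by
      rw [show (QuaternionGroup.a (1 : ZMod (2 * n)))⁻¹ = QuaternionGroup.a (-1) from rfl]; simp))
  refine good_of_model h C hZ hlp hW ih hPW (fun g => ?_) h1 h2
  obtain ⟨g, rfl⟩ := φ.symm.surjective g
  have hr : ∀ i, φ.symm (QuaternionGroup.a i) ∈ Subgroup.zpowers (φ.symm (QuaternionGroup.a 1)) := fun i => by
    refine Subgroup.mem_zpowers_iff.2 ⟨(i.val : ℤ), ?_⟩
    rw [zpow_natCast, ← map_pow, QuaternionGroup.a_one_pow]; simp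
  rcases g with i | i
  · exact Subgroup.mem_sup_left (hr i)
  · rw [show QuaternionGroup.xa i = QuaternionGroup.xa 0 * QuaternionGroup.a i by simp, map_mul]
    exact mul_mem (Subgroup.mem_sup_right (Subgroup.mem_zpowers _)) (Subgroup.mem_sup_left (hr i))

theorem good_quasiDihedral {P : Subgroup (HSU B)} (hPW : P ≤ SW h W) (hqd : Cfsg.IsQuasiDihedral P) :
    Good π P := by
  have : Finite (HSU B) := Finite.of_surjective π C.surj
  obtain ⟨n, hn, hcard, x, s, hx, hs, hc⟩ := hqd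
  have hpow : ∀ y ∈ Subgroup.zpowers x, Commute y s → y ^ 2 = 1 := by
    intro y hy hys
    obtain ⟨i, rfl⟩ := Subgroup.mem_zpowers_iff.1 hy
    have h0 : (x ^ i) ^ (2 ^ (n - 1) - 1) = x ^ i := by
      have h1 : s * x ^ i * s⁻¹ = x ^ i := by rw [← hys.eq, mul_inv_cancel_right]
      rw [← conj_zpow, hc] at h1
      conv_rhs => rw [← h1]
      rw [← zpow_natCast, ← zpow_natCast, ← zpow_mul, ← zpow_mul, mul_comm]
    have hN : (x ^ i) ^ 2 ^ n = 1 := by
      rw [← zpow_natCast, ← zpow_mul, mul_comm, zpow_mul, zpow_natCast, ← hx, pow_orderOf_eq_one, one_zpow]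
    obtain ⟨k, rfl⟩ : ∃ k, n = k + 3 := ⟨n - 3, by omega⟩
    generalize x ^ i = y at h0 hN ⊢
    have e : 2 ^ (k + 3 - 1) = 4 * 2 ^ k := by rw [show k + 3 - 1 = k + 2 from rfl]; ring
    have hk : 0 < 2 ^ k := Nat.two_pow_pos k
    rw [e] at h0
    have h3 : y ^ (4 * 2 ^ k - 2) = 1 := by
      rw [show 4 * 2 ^ k - 1 = 4 * 2 ^ k - 2 + 1 by omega, pow_succ] at h0
      exact mul_eq_right.1 h0
    have h4 : y ^ 4 = 1 := by
      have h5 : y ^ ((4 * 2 ^ k - 2) * 2 + 4) = 1 := by
        rw [show (4 * 2 ^ k - 2) * 2 + 4 = 2 ^ (k + 3) by rw [show 2 ^ (k + 3) = 8 * 2 ^ k by ring]; omega]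
        exact hN
      rwa [pow_add, pow_mul, h3, one_pow, one_mul] at h5
    have h6 : y ^ (4 * 2 ^ k - 2 + 2) = 1 := by
      rw [show 4 * 2 ^ k - 2 + 2 = 4 * 2 ^ k by omega, pow_mul, h4, one_pow]
    rwa [pow_add, h3, one_mul] at h6
  refine good_of_model h C hZ hlp hW ih hPW (x := x) (s := s) (fun g => ?_) ?_ hpow
  · have hidx : (Subgroup.zpowers x).index = 2 := by
      have h1 := Subgroup.card_mul_index (Subgroup.zpowers x)
      rw [Nat.card_zpowers, hx, hcard, pow_succ] at h1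
      exact Nat.eq_of_mul_eq_mul_left (by positivity) h1
    have hsx : s ∉ Subgroup.zpowers x := fun hm => by
      have hcm : Commute x s := by
        obtain ⟨i, rfl⟩ := Subgroup.mem_zpowers_iff.1 hm
        exact Commute.self_zpow x i
      have h2 := hpow x (Subgroup.mem_zpowers x) hcm
      have h3 := orderOf_dvd_of_pow_eq_one h2
      rw [hx] at h3
      have := Nat.le_of_dvd two_pos h3
      have : 2 ^ 3 ≤ 2 ^ n := Nat.pow_le_pow_right two_pos hn
      omega
    by_cases hg : g ∈ Subgroup.zpowers x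
    · exact Subgroup.mem_sup_left hg
    · rw [show g = g * s * s⁻¹ by group]
      refine mul_mem (Subgroup.mem_sup_left ?_) (Subgroup.mem_sup_right (inv_mem (Subgroup.mem_zpowers s)))
      rw [Subgroup.mul_mem_iff_of_index_two hidx]
      tauto
  · rw [hc]; exact Subgroup.pow_mem _ (Subgroup.mem_zpowers x) _

/-- a normal elementary abelian subgroup of rank two splits the space -/
theorem good_of_pair {P : Subgroup (HSU B)} (hPW : P ≤ SW h W) {z e : HSU B} (hz : z ∈ P) (he : e ∈ P)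
    (hzc : ∀ g ∈ P, Commute g z) (hzo : orderOf z = l) (hel : e ^ l = 1) (hez : e ∉ Subgroup.zpowers z)
    (hconj : ∀ g ∈ P, ∃ c : ℕ, g * e * g⁻¹ = e * z ^ c) : Good π P := by
  have : NeZero l := ⟨hlF.out.ne_zero⟩
  have : Finite (HSU B) := Finite.of_surjective π C.surj
  have hzl : z ^ l = 1 := hzo ▸ pow_orderOf_eq_one z
  have hlne : (l : F) ≠ 0 := natCast_ne hlp
  have hzs := SW_le_stab h hW (hPW hz)
  have hz1 : z ≠ 1 := fun e => by rw [e, orderOf_one] at hzo; exact hlF.out.ne_one hzo.symm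
  have hcez : Commute e z := hzc e he
  by_cases hzfix : W ⊓ fx z ≠ ⊥
  · have hg := good_invariant h C hZ hlp hW ih (nd_fx h hW hzs hlne hzl) inf_le_left hzfix fun e =>
      hz1 (eq_one_of_fix h hW (hPW hz) fun w hw => by rw [← e] at hw; exact mem_fx.1 hw.2)
    refine Good.mono ?_ hg
    exact fun g hg => Subgroup.mem_inf.2 ⟨hPW hg, stab_fx (SW_le_stab h hW (hPW hg)) (hzc g hg).symm⟩
  rw [not_not] at hzfix
  have hz0 : ∀ x ∈ W, ap z x = x → x = 0 := fun x hx hx' =>
    (Submodule.mem_bot F).1 (hzfix ▸ ⟨hx, mem_fx.2 hx'⟩)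
  obtain ⟨u, hu⟩ : ∃ u : ℕ → HSU B, u = fun m => e * z ^ m := ⟨_, rfl⟩
  have hul : ∀ m, u m ^ l = 1 := fun m => by
    rw [hu, (hcez.pow_right m).mul_pow, hel, ← pow_mul, mul_comm, pow_mul, hzl, one_pow, one_mul]
  have hus : ∀ m, u m ∈ stab W := fun m =>
    SW_le_stab h hW (hPW (by rw [hu]; exact mul_mem he (pow_mem hz m)))
  obtain ⟨pt', hpt'⟩ : ∃ pt' : ℕ → Submodule F V, pt' = fun m => W ⊓ fx (u m) := ⟨_, rfl⟩
  have hmod : ∀ m, pt' m = pt' (m % l) := fun m => by
    rw [hpt', hu]; dsimp only; rw [← hzo, pow_mod_orderOf]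
  have hnd : ∀ m, ND B (pt' m) := fun m => hpt' ▸ nd_fx h hW (hus m) hlne (hul m)
  have hptW : ∀ m, pt' m ≤ W := fun m => hpt' ▸ inf_le_left
  have hptne : ∀ m, pt' m ≠ W := fun m hm => hez (by
    have h1 : u m = 1 := eq_one_of_fix h hW (hPW (by rw [hu]; exact mul_mem he (pow_mem hz m))) fun w hw => by
      rw [← hm, hpt'] at hw
      exact mem_fx.1 hw.2
    rw [hu] at h1
    rw [eq_inv_of_mul_eq_one_left h1]
    exact inv_mem (pow_mem (Subgroup.mem_zpowers z) m))
  -- the parts span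
  have hsum : ∀ x ∈ W, x ∈ ⨆ i : Fin l, pt' i := by
    intro x hx
    suffices (l : F) • x ∈ ⨆ i : Fin l, pt' i from (Submodule.smul_mem_iff _ hlne).1 this
    have key : ∑ i ∈ Finset.range l, orbSum (u i) l x = (l : F) • x := by
      simp only [orbSum]
      rw [Finset.sum_comm, Finset.sum_eq_single 0]
      · simp [Nat.cast_smul_eq_nsmul]
      · intro j hj hj0
        rw [Finset.mem_range] at hj
        calc ∑ i ∈ Finset.range l, ap (u i ^ j) x = ap (e ^ j) (orbSum (z ^ j) l x) := by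
              rw [orbSum, map_sum]
              refine Finset.sum_congr rfl fun i _ => ?_
              rw [hu, (hcez.pow_right i).mul_pow, ap_mul, ← pow_mul, ← pow_mul, mul_comm i j]
          _ = 0 := by
            rw [hz0 (orbSum (z ^ j) l x) (orbSum_mem' ((stab (B := B) W).pow_mem hzs j) hx) ?_, map_zero]
            have hfix := mem_fx.1 (orbSum_mem (show (z ^ j) ^ l = 1 by rw [← pow_mul, mul_comm, pow_mul, hzl, one_pow]) x)
            have hcop : j.Coprime (orderOf z) := by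
              rw [hzo]
              exact ((hlF.out.coprime_iff_not_dvd).2 fun hd => absurd (Nat.le_of_dvd (Nat.pos_of_ne_zero hj0) hd)
                (by omega)).symm
            obtain ⟨k, hk⟩ := exists_pow_eq_self_of_coprime hcop
            conv_lhs => arg 1; rw [← hk]
            exact ap_pow_fix hfix k
      · intro h0; exact absurd (Finset.mem_range.2 hlF.out.pos) h0
    rw [← key, ← Fin.sum_univ_eq_sum_range]
    exact Submodule.sum_mem _ fun i _ => le_iSup (fun i : Fin l => pt' i) i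
      (by rw [hpt']; exact ⟨orbSum_mem' (hus _) hx, orbSum_mem (hul _) x⟩)
  -- the parts are orthogonal
  have horth : ∀ a b : Fin l, a ≠ b → pt' b ≤ h.orth (pt' a) := by
    intro a b hab y hy
    rw [h.mem_orth]
    intro x hx
    rw [hpt'] at hx hy
    obtain ⟨d, hd⟩ : ∃ d : ℕ, d = a.val + (l - b.val) := ⟨_, rfl⟩
    have hdl : ¬ l ∣ d := by
      rintro ⟨k, hk⟩
      have := a.isLt; have := b.isLt; have := Fin.val_ne_of_ne hab
      have hk2 : k < 2 := by
        by_contra hh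
        have := Nat.mul_le_mul_left l (show 2 ≤ k by omega)
        omega
      interval_cases k <;> omega
    have huu : ∀ j : ℕ, u a ^ j = (z ^ d) ^ j * u b ^ j := by
      intro j
      have hc2 : Commute (z ^ d) (u b) := by
        rw [hu]; exact ((hcez.symm).pow_left d).mul_right ((Commute.refl z).pow_pow d _)
      rw [← hc2.mul_pow]
      congr 1
      rw [hu]
      dsimp only
      rw [← mul_assoc, ((hcez.symm).pow_left d).eq, mul_assoc, ← pow_add, hd,
        show a.val + (l - b.val) + b.val = a.val + l by have := b.isLt; omega, pow_add, hzl, mul_one]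
    have h1 : ∀ j ∈ Finset.range l, B x (ap ((z ^ d) ^ j) y) = B x y := fun j _ => by
      have e1 : ap (u a ^ j) x = x := ap_pow_fix (mem_fx.1 hx.2) j
      have e2 : ap (u a ^ j) y = ap ((z ^ d) ^ j) y := by rw [huu, ap_mul, ap_pow_fix (mem_fx.1 hy.2)]
      rw [← e2]
      conv_lhs => rw [← e1]
      rw [ap_form]
    have h2 : B x (orbSum (z ^ d) l y) = (l : F) * B x y := by
      rw [orbSum, map_sum, Finset.sum_congr rfl h1, Finset.sum_const, Finset.card_range, nsmul_eq_mul]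
    rw [hz0 (orbSum (z ^ d) l y) (orbSum_mem' ((stab (B := B) W).pow_mem hzs d) hy.1) ?_, map_zero] at h2
    · exact (mul_eq_zero.1 h2.symm).resolve_left hlne
    · have hfix := mem_fx.1 (orbSum_mem (show (z ^ d) ^ l = 1 by rw [← pow_mul, mul_comm, pow_mul, hzl, one_pow]) y)
      obtain ⟨k, hk⟩ := exists_pow_eq_self_of_coprime (x := z) (n := d)
        (hzo.symm ▸ ((hlF.out.coprime_iff_not_dvd).2 hdl).symm)
      conv_lhs => arg 1; rw [← hk]
      exact ap_pow_fix hfix k
  -- the group permutes the parts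
  have hmove : ∀ g ∈ P, ∀ c : ℕ, g * e * g⁻¹ = e * z ^ c → ∀ m,
      (pt' m).map (ap g : V →ₗ[F] V) = pt' (m + c) := by
    intro g hg c hc m
    have hgs := SW_le_stab h hW (hPW hg)
    have key : u (m + c) * g = g * u m := by
      rw [hu]; dsimp only
      rw [add_comm m, pow_add, ← mul_assoc e, ← hc, mul_assoc, ← ((hzc g hg).pow_right m).eq]
      group
    rw [hpt']
    refine le_antisymm ?_ fun x hx => ?_
    · rintro _ ⟨x, hx, rfl⟩
      exact ⟨(hgs x).1 hx.1, mem_fx.2 (by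
        show ap (u (m + c)) (ap g x) = ap g x
        rw [← ap_mul, key, ap_mul, mem_fx.1 hx.2])⟩
    · refine ⟨ap g⁻¹ x, ⟨((stab (B := B) W).inv_mem hgs x).1 hx.1, mem_fx.2 ?_⟩, ap_ap_inv g x⟩
      apply (ap g).injective
      rw [← ap_mul, ← key, ap_mul, ap_ap_inv, mem_fx.1 hx.2]
  choose cf hcf using hconj
  by_cases hall : ∀ g hg, cf g hg % l = 0
  · obtain ⟨i, hi⟩ : ∃ i : Fin l, pt' i ≠ ⊥ := by
      by_contra hh
      push Not at hh
      refine hz1 (eq_one_of_fix h hW (hPW hz) fun w hw => ?_)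
      have := hsum w hw
      rw [show (⨆ i : Fin l, pt' i) = ⊥ by simp [hh], Submodule.mem_bot] at this
      rw [this, map_zero]
    refine Good.mono ?_ (good_invariant h C hZ hlp hW ih (hnd i) (hptW i) hi (hptne i))
    refine fun g hg => Subgroup.mem_inf.2 ⟨hPW hg, mem_stab_of_le fun x hx => ?_⟩
    have h1 := hmove g hg _ (hcf g hg) i
    rw [hmod (i + cf g hg), Nat.add_mod, hall g hg, add_zero, Nat.mod_mod, ← hmod] at h1
    rw [← h1]
    exact ⟨x, hx, rfl⟩
  push Not at hall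
  obtain ⟨g, hg, hgc⟩ := hall
  obtain ⟨k, hk⟩ : ∃ k : ℕ, cf g hg * k % l = 1 := by
    obtain ⟨k, -, hk⟩ := Nat.exists_mul_mod_eq_one_of_coprime
      (((hlF.out.coprime_iff_not_dvd).2 fun hd => hgc (Nat.mod_eq_zero_of_dvd hd)).symm) hlF.out.one_lt
    exact ⟨k, hk⟩
  have hmove' : ∀ n m : ℕ, (pt' m).map (ap (g ^ n) : V →ₗ[F] V) = pt' (m + n * cf g hg) := by
    intro n
    induction n with
    | zero => intro m; rw [pow_zero, zero_mul, add_zero]; exact Submodule.map_id _
    | succ n ihn =>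
      intro m
      rw [pow_succ', add_mul, one_mul, ← add_assoc, ← hmove g hg _ (hcf g hg), ← ihn, ← Submodule.map_comp]
      rfl
  have hptk : ∀ i : Fin l, pt' i = (pt' 0).map (ap ((g ^ k) ^ (i : ℕ)) : V →ₗ[F] V) := fun i => by
    rw [← pow_mul, hmove', zero_add, hmod (k * i * cf g hg),
      show k * i * cf g hg = cf g hg * k * i by ring, Nat.mul_mod, hk, one_mul, Nat.mod_mod, ← hmod]
  have hsup : ⨆ i : Fin l, pt' i = W := le_antisymm (iSup_le fun i => hptW i) hsum
  refine good_imprim h C hZ hlp (p := p) hW (hnd 0) ?_ (fun i : Fin l => pt' i) hptk horth hsup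
    (fun i => ih _ (hnd i) (Submodule.finrank_lt_finrank_of_lt (lt_of_le_of_ne (hptW i) (hptne i)))) hPW
    fun g' hg' => ⟨⟨cf g' hg' % l, Nat.mod_lt _ hlF.out.pos⟩, fun i => ?_⟩
  · intro h0
    refine hz1 (eq_one_of_fix h hW (hPW hz) fun w hw => ?_)
    have := hsum w hw
    rw [show (⨆ i : Fin l, pt' i) = ⊥ by simp [hptk, h0], Submodule.mem_bot] at this
    rw [this, map_zero]
  · show (pt' i).map (ap g' : V →ₗ[F] V) = pt' (i + (⟨cf g' hg' % l, _⟩ : Fin l) : Fin l)
    rw [hmove g' hg' _ (hcf g' hg'), hmod (i + cf g' hg'), Fin.val_add, ← hmod, Nat.add_mod_mod]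
    rw [← hmod]

omit hW ih in
/-- special unitary groups of subspaces are good -/
theorem good_SW_of_ne : ∀ W : Submodule F V, ND B W → Good π (SW h W) := by
  intro W
  induction hk : Module.finrank F W using Nat.strong_induction_on generalizing W with
  | _ k ihk =>
  subst hk
  intro hW
  have ih : IH h (π := π) W := fun U hU hlt => ihk _ hlt U rfl hU
  have : Finite (HSU B) := Finite.of_surjective π C.surj
  refine good_of_sylow C hZ fun P hPW hP => ?_
  by_cases hc : IsCyclic P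
  · exact good_of_cyclic C
  by_cases hq : ∃ n : ℕ, Nonempty (P ≃* QuaternionGroup n)
  · obtain ⟨n, ⟨φ⟩⟩ := hq
    exact good_quaternion h C hZ hlp hW ih hPW φ
  by_cases hd : ∃ n : ℕ, Nonempty (P ≃* DihedralGroup n)
  · obtain ⟨n, ⟨φ⟩⟩ := hd
    exact good_dihedral h C hZ hlp hW ih hPW φ
  by_cases hsd : Cfsg.IsQuasiDihedral P
  · exact good_quasiDihedral h C hZ hlp hW ih hPW hsd
  obtain ⟨A, hAn, hA, hAc⟩ := CfsgLib.Recog.PGroupImprimitive.exists_noncyclic_normal hP hc
    (fun n hn => hq ⟨n, hn⟩) (fun n hn => hd ⟨n, hn⟩) hsd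
  obtain ⟨z, e, hzc, hzo, hel, hez, -, hconj⟩ :=
    CfsgLib.Recog.PGroupImprimitive.exists_pair hP hAn hA hAc
  refine good_of_pair h C hZ hlp hW ih hPW z.2 e.2
    (fun g hg => congrArg Subtype.val (Subgroup.mem_center_iff.1 hzc ⟨g, hg⟩))
    ((Subgroup.orderOf_coe z).trans hzo) (congrArg Subtype.val hel) (fun hm => hez ?_) fun g hg => ?_
  · obtain ⟨n, hn⟩ := Subgroup.mem_zpowers_iff.1 hm
    exact Subgroup.mem_zpowers_iff.2 ⟨n, Subtype.ext (by simpa using hn)⟩
  · obtain ⟨m, hm : z ^ m = ⁅(⟨g, hg⟩ : P), e⁆⟩ :=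
      (IsOfFinOrder.mem_powers_iff_mem_zpowers (isOfFinOrder_of_finite z)).2 (hconj ⟨g, hg⟩)
    refine ⟨m, ?_⟩
    have h1 : (⟨g, hg⟩ : P) * e * (⟨g, hg⟩ : P)⁻¹ = e * z ^ m := by
      rw [← (Subgroup.mem_center_iff.1 (pow_mem hzc m) e).symm, hm, commutatorElement_def]
      group
    simpa using congrArg Subtype.val h1

end CfsgLib.Known.UnitMult
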