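import Cfsg.Agent.Lib.Known.UnitMult.GenP

/-!
# Stabilisers of nondegenerate subspaces
-/

set_option autoImplicit false
set_option linter.unusedSectionVars false

namespace CfsgLib.Known.UnitMult

open CfsgLib.Classical CfsgLib.Classical.Herm CfsgLib.Known.SympMult
open scoped commutatorElement

theorem exists_cyclic_gen {H A : Type*} [Group H] [Group A] [IsCyclic A] (δ : H →* A) :
    ∃ c : H, ∀ g, ∃ n : ℤ, δ g = δ c ^ n := by
  obtain ⟨⟨a, c, rfl⟩, hc⟩ := IsCyclic.exists_generator (α := δ.range)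
  refine ⟨c, fun g => ?_⟩
  obtain ⟨n, hn⟩ := Subgroup.mem_zpowers_iff.1 (hc ⟨δ g, g, rfl⟩)
  exact ⟨n, (congrArg Subtype.val hn).symm.trans (by simp)⟩

section Ext

variable {G Γ : Type*} [Group G] [Group Γ] {π : Γ →* G} (C : CExt π)
include C

/-- commutators of lifts over a complemented subgroup -/
theorem comm_mem_star {L : Subgroup G} {M : Subgroup Γ} (hML : M.map π = L)
    (hMn : ∀ g : Γ, (∀ k ∈ L, π g * k * (π g)⁻¹ ∈ L) → ∀ m ∈ M, g * m * g⁻¹ ∈ M) {x c : Γ} (hx : π x ∈ L)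
    (hc : ∀ k ∈ L, π c * k * (π c)⁻¹ ∈ L) : ⁅x, c⁆ ∈ M := by
  obtain ⟨m, hm, e⟩ := hML.symm ▸ hx
  obtain ⟨z, hz, rfl⟩ := C.diff (x := x) (y := m) e.symm
  have e1 : ⁅m * z, c⁆ = m * (c * m⁻¹ * c⁻¹) := by
    rw [commutatorElement_def, mul_inv_rev, show m * z * c * (z⁻¹ * m⁻¹) * c⁻¹ =
      m * (z * c) * z⁻¹ * m⁻¹ * c⁻¹ by group, ← (C.ker_comm hz c).eq]
    group
  rw [e1]
  exact mul_mem hm (hMn c hc _ (inv_mem hm))

end Ext

variable {F : Type*} [Field F] {V : Type*} [AddCommGroup V] [Module F V] {σ : F →+* F}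
  {B : V →ₛₗ[σ] V →ₗ[F] F} [Finite F] [FiniteDimensional F V] (h : IsHerm B)
include h

theorem SW_conj {U : Submodule F V} {g k : HSU B} (hg : g ∈ stab U) (hk : k ∈ SW h U) : g * k * g⁻¹ ∈ SW h U :=
  fun u hu => by
    have h1 : ap g⁻¹ u ∈ h.orth U := ((stab (h.orth U)).inv_mem (stab_orth h hg) u).1 hu
    rw [ap_mul, ap_mul, hk _ h1, ap_ap_inv]

theorem stab_of_SW {U W : Submodule F V} (hU : ND B U) (hle : U ≤ W) {k : HSU B} (hk : k ∈ SW h U) :
    k ∈ stab W := by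
  refine mem_stab_of_le fun x hx => ?_
  obtain ⟨u, r, rfl⟩ := CfsgLib.Classical.exists_decomp (h.isCompl_orth hU) x
  have hr : (r : V) ∈ W := (Submodule.add_mem_iff_right W (hle u.2)).1 hx
  rw [map_add, hk r r.2]
  exact add_mem (hle (SW_map h hU hk u.2)) hr

variable {p : ℕ} [CharP F p] {Γ : Type*} [Group Γ] [Finite Γ] {π : Γ →* HSU B} (C : CExt π) {l : ℕ}
  [Fact l.Prime] (hZ : IsPGroup l π.ker) (hlp : ¬ l ∣ p)
include C hZ hlp

theorem good_split {U W : Submodule F V} (hU : ND B U) (hW : ND B W) (hle : U ≤ W) (h1 : Good π (SW h U))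
    (h2 : Good π (SW h (W ⊓ h.orth U))) : Good π (SW h W ⊓ stab U) := by
  obtain ⟨hU2, hsup⟩ := nd_inf h hU hW hle
  obtain ⟨L, hL⟩ : ∃ L, L = SW h U ⊔ SW h (W ⊓ h.orth U) := ⟨_, rfl⟩
  have ho : W ⊓ h.orth U ≤ h.orth U := inf_le_right
  have hgen : Gen p L := hL ▸ (gen_SW h hU).sup (gen_SW h hU2)
  have hgood : Good π L := hL ▸ Good.sup C hZ hlp (disjoint_SW h hU ho)
    (fun a ha b hb => commute_of_orth h hU ho ha hb) (gen_SW h hU) h1 h2
  obtain ⟨M, hML, hMZ, hMn⟩ := exists_star C hZ hlp hgen hgood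
  obtain ⟨H, hH⟩ : ∃ H, H = SW h W ⊓ stab (B := B) U := ⟨_, rfl⟩
  rw [← hH]
  have hLH : L ≤ H := by
    rw [hL, hH]
    refine sup_le (le_inf (SW_mono h hle) (SW_le_stab h hU)) (le_inf (SW_mono h inf_le_left) fun g hg => ?_)
    exact mem_stab_of_le fun x hx => by
      rwa [hg x (orth_anti h ho (le_orth_orth h U hx))]
  have hn : ∀ g ∈ H, ∀ k ∈ L, g * k * g⁻¹ ∈ L := by
    intro g hg k hk
    rw [hH, Subgroup.mem_inf] at hg
    rw [hL] at hk ⊢
    have hle' : SW h U ⊔ SW h (W ⊓ h.orth U) ≤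
        (SW h U ⊔ SW h (W ⊓ h.orth U)).comap (MulAut.conj g).toMonoidHom := by
      refine sup_le (fun x hx => ?_) (fun x hx => ?_)
      · exact Subgroup.mem_sup_left (SW_conj h hg.2 hx)
      · exact Subgroup.mem_sup_right (SW_conj h (stab_inf h (stab_orth h hg.2) (SW_le_stab h hW hg.1)) hx)
    have hk' := hle' hk
    exact hk'
  let δ : H →* Fˣ := (dl U).comp (Subgroup.inclusion (show H ≤ stab U from hH ▸ inf_le_right))
  obtain ⟨c, hc⟩ := exists_cyclic_gen δ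
  obtain ⟨c', hc'⟩ := C.surj (c : HSU B)
  have hker : ∀ g : H, δ g = 1 → (g : HSU B) ∈ L := by
    intro g hg
    have hg2 : (g : HSU B) ∈ SW h W ⊓ stab U := by rw [← hH]; exact g.2
    have hgW : (g : HSU B) ∈ SW h W := (Subgroup.mem_inf.1 hg2).1
    obtain ⟨g1, hg1, e⟩ := exists_part h hU (g := (g : HSU B)) (Subgroup.mem_inf.1 hg2).2 hg
    have h2 : g1⁻¹ * g ∈ SW h (W ⊓ h.orth U) :=
      SW_inf h hU hW hle (mul_mem (inv_mem (SW_mono h hle hg1)) hgW) fun x hx => by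
        rw [ap_mul, ← e x hx, ap_inv_ap]
    rw [hL, show (g : HSU B) = g1 * (g1⁻¹ * g) by group]
    exact Subgroup.mul_mem_sup hg1 h2
  refine good_of_gen C hML hMZ hMn (le_refl L) (c := c') ?_ ?_ ?_ ?_ ?_
  · intro g hg
    rw [hc']
    obtain ⟨n, hn⟩ := hc ⟨g, hg⟩
    have h3 : g * ((c : HSU B) ^ n)⁻¹ ∈ L := by
      have := hker (⟨g, hg⟩ * (c ^ n)⁻¹) (by rw [map_mul, map_inv, map_zpow, hn, mul_inv_cancel])
      simpa using this
    rw [show g = g * ((c : HSU B) ^ n)⁻¹ * (c : HSU B) ^ n by group]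
    exact Subgroup.mul_mem_sup h3 (zpow_mem (Subgroup.mem_zpowers _) n)
  · intro a
    rw [hc']
    refine ⟨fun ha => ?_, hn _ c.2 a⟩
    have := hn _ (inv_mem c.2) _ ha
    rwa [show (c : HSU B)⁻¹ * ((c : HSU B) * a * (c : HSU B)⁻¹) * ((c : HSU B)⁻¹)⁻¹ = a by group] at this
  · intro g hg
    refine hn g ?_
    exact (sup_le hLH (Subgroup.zpowers_le.2 (hc' ▸ c.2))) hg
  · intro x y hx hy
    exact comm_mem_star C hML hMn hx fun k hk => mul_mem (mul_mem hy hk) (inv_mem hy)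
  · intro x hx _
    exact comm_mem_star C hML hMn hx fun k hk => hn _ (hc' ▸ c.2) k hk

end CfsgLib.Known.UnitMult
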