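import Cfsg.Agent.Lib.Known.UnitMult.Tor
import Cfsg.Agent.Lib.Known.UnitMult.Ext

/-!
# Lifts of the centre of the radical are central over the radical
-/

set_option autoImplicit false
set_option linter.unusedSectionVars false

namespace CfsgLib.Known.UnitMult

open CfsgLib.Classical CfsgLib.Classical.Herm CfsgLib.Known.SympMult
open CfsgLib.Classical.Herm.IsHerm (restrict restrict_apply)
open scoped commutatorElement

variable {F : Type*} [Field F] {σ : F →+* F}

theorem exists_normOne_pow_ne [Finite F] (hσ : IsInvol σ) {k : ℕ} (hk0 : 0 < k)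
    (hk : k < Nat.card (fixedSub σ) + 1) : ∃ x : Fˣ, x ∈ normOne σ ∧ x ^ k ≠ 1 := by
  classical
  have : Fintype F := Fintype.ofFinite F
  by_contra hh
  push Not at hh
  have hc := hσ.card_norm_fibre (μ := 1) one_ne_zero (map_one σ)
  rw [Nat.card_eq_fintype_card, Fintype.card_subtype] at hc
  have hle : (Finset.univ.filter fun x : F => x * σ x = 1) ⊆ (Polynomial.nthRoots k (1 : F)).toFinset := by
    intro x hx
    rw [Finset.mem_filter] at hx
    rw [Multiset.mem_toFinset, Polynomial.mem_nthRoots hk0]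
    have hx0 : x ≠ 0 := fun e => by rw [e, zero_mul] at hx; exact zero_ne_one hx.2
    exact congrArg Units.val (hh (Units.mk0 x hx0) (mem_normOne.2 hx.2))
  have := (Finset.card_le_card hle).trans ((Multiset.toFinset_card_le _).trans (Polynomial.card_nthRoots k 1))
  omega

variable {V : Type*} [AddCommGroup V] [Module F V] {B : V →ₛₗ[σ] V →ₗ[F] F} [Finite F] [FiniteDimensional F V]
  (h : IsHerm B) {a f : V} (P : Pair B a f)

/-- the centre of the radical -/
noncomputable def cen : Subgroup (HSU B) where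
  carrier := {g | ∃ (t : F) (ht : t + σ t = -B (0 : V) 0), g = rx h P 0 (zero_mem _) t ht}
  one_mem' := ⟨0, by simp, (rx_zero h P).symm⟩
  mul_mem' := by
    rintro _ _ ⟨t, ht, rfl⟩ ⟨s, hs, rfl⟩
    exact ⟨t + s, by simp at ht hs ⊢; linear_combination ht + hs,
      (rx_mul h P).trans (rx_congr h P (add_zero 0) (by simp))⟩
  inv_mem' := by
    rintro _ ⟨t, ht, rfl⟩
    exact ⟨σ t, by rw [h.invol.invol, add_comm, ht], (rx_inv h P).trans (rx_congr h P neg_zero rfl)⟩

include h P

theorem cen_le : cen h P ≤ radical h P := by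
  rintro _ ⟨t, ht, rfl⟩
  exact rx_mem h P

theorem cen_commute {z x : HSU B} (hz : z ∈ cen h P) (hx : x ∈ radical h P) : Commute z x := by
  obtain ⟨t, ht, rfl⟩ := hz
  obtain ⟨v, hv, s, hs, rfl⟩ := hx
  exact (rx_zero_left_comm h P ht).symm

theorem exists_tv (v : perpP h a f) : ∃ t : F, t + σ t = -B (v : V) v :=
  h.invol.exists_trace_eq (by rw [map_neg, h.self_fixed])

/-- a chosen element over a vector -/
noncomputable def xr (v : perpP h a f) : HSU B :=
  rx h P v v.2 (exists_tv h P v).choose (exists_tv h P v).choose_spec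

theorem xr_mem (v : perpP h a f) : xr h P v ∈ radical h P := rx_mem h P

theorem rx_split (v : perpP h a f) {hv : (v : V) ∈ perpP h a f} {t : F} (ht : t + σ t = -B (v : V) v) :
    ∃ z ∈ cen h P, rx h P v hv t ht = xr h P v * z := by
  have hs : (t - (exists_tv h P v).choose) + σ (t - (exists_tv h P v).choose) = -B (0 : V) 0 := by
    rw [map_sub, zero_left]
    linear_combination ht - (exists_tv h P v).choose_spec
  refine ⟨_, ⟨_, hs, rfl⟩, ?_⟩
  rw [xr, rx_mul]
  exact rx_congr h P (add_zero _).symm (by simp)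

theorem exists_split {x : HSU B} (hx : x ∈ radical h P) : ∃ v, ∃ z ∈ cen h P, x = xr h P v * z := by
  obtain ⟨v, hv, t, ht, rfl⟩ := hx
  exact ⟨⟨v, hv⟩, rx_split h P ⟨v, hv⟩ ht⟩

theorem xr_mul (v w : perpP h a f) : ∃ z ∈ cen h P, xr h P v * xr h P w = xr h P (v + w) * z := by
  rw [xr, xr, rx_mul]
  exact rx_split h P (v + w) _

theorem xr_comm_mem (v w : perpP h a f) : ⁅xr h P v, xr h P w⁆ ∈ cen h P := by
  rw [xr, xr, rx_comm]
  exact ⟨_, _, rfl⟩

theorem xr_conj {g : HSU B} {l : F} (hg : IsTor a f g l) {v v' : perpP h a f}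
    (e : (v' : V) = σ l • ap g v) : ∃ z ∈ cen h P, g * xr h P v * g⁻¹ = xr h P v' * z := by
  obtain ⟨hv', ht', e'⟩ := rx_conj h P hg.1 hg.2.1 hg.2.2 (v := (v : V)) (hv := v.2)
    (ht := (exists_tv h P v).choose_spec)
  obtain ⟨z, hz, ez⟩ := rx_split h P v' (hv := v'.2) (t := l * σ l * (exists_tv h P v).choose)
    (by rw [e]; exact ht')
  exact ⟨z, hz, e'.trans ((rx_congr h P e.symm rfl).trans ez)⟩

theorem cen_conj {g : HSU B} {l : F} (hg : IsTor a f g l) {t : F} (ht : t + σ t = -B (0 : V) 0) :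
    ∃ hs, g * rx h P 0 (zero_mem _) t ht * g⁻¹ = rx h P 0 (zero_mem _) (l * σ l * t) hs := by
  obtain ⟨hv', ht', e'⟩ := rx_conj h P hg.1 hg.2.1 hg.2.2 (v := (0 : V)) (hv := zero_mem _) (ht := ht)
  exact ⟨by simpa using ht', e'.trans (rx_congr h P (by simp) rfl)⟩

theorem cen_fix {g : HSU B} {l : F} (hg : IsTor a f g l) (hN : l * σ l = 1) {z : HSU B} (hz : z ∈ cen h P) :
    g * z * g⁻¹ = z := by
  obtain ⟨t, ht, rfl⟩ := hz
  obtain ⟨hs, e⟩ := cen_conj h P hg ht
  rw [e]
  exact rx_congr h P rfl (by rw [hN, one_mul])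

variable {ι : Type*} [Fintype ι] [DecidableEq ι] {b : Module.Basis ι F (perpP h a f)}
  (hb : ∀ i j, restrict B (perpP h a f) (b i) (b j) = if i = j then 1 else 0)
include hb

theorem exists_comm {z : HSU B} (hz : z ∈ cen h P) (i : ι) :
    ∃ v w, z = ⁅xr h P v, xr h P w⁆ := by
  obtain ⟨t, ht, rfl⟩ := hz
  rw [zero_left, neg_zero] at ht
  obtain ⟨r, hr⟩ := h.invol.exists_trace_eq (μ := (-1 : F)) (by simp)
  refine ⟨b i, (t * r) • b i, ?_⟩
  rw [xr, xr, rx_comm]
  refine rx_congr h P rfl ?_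
  have hbi : B (b i : V) (b i) = 1 := by simpa using hb i i
  rw [Submodule.coe_smul, smul_left, smul_right, hbi, mul_one, mul_one, map_mul]
  linear_combination t * hr - σ r * ht

variable {Γ : Type*} [Group Γ] {π : Γ →* HSU B} (C : CExt π)
include C

/-- lifts of the centre commute with each other -/
theorem lift_cen_cen (i : ι) {x y : Γ} (hx : π x ∈ cen h P) (hy : π y ∈ cen h P) : Commute x y := by
  obtain ⟨v, w, e⟩ := exists_comm h P hb hy i
  obtain ⟨z, hz, rfl⟩ := C.diff (x := y) (y := ⁅C.lf (xr h P v), C.lf (xr h P w)⁆)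
    (by rw [map_commutatorElement, C.σ_lf, C.σ_lf, e])
  refine Commute.mul_right ?_ (C.ker_comm hz x)
  have key : ∀ u : Γ, π u ∈ radical h P → ∃ c, π c = 1 ∧ x * u * x⁻¹ = u * c := fun u hu =>
    C.diff (x := x * u * x⁻¹) (y := u)
      (by rw [map_mul, map_mul, map_inv, (cen_commute h P hx hu).eq, mul_inv_cancel_right])
  obtain ⟨c, hc, ec⟩ := key (C.lf (xr h P v)) (by rw [C.σ_lf]; exact xr_mem h P v)
  obtain ⟨d, hd, ed⟩ := key (C.lf (xr h P w)) (by rw [C.σ_lf]; exact xr_mem h P w)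
  rw [commute_iff_eq, ← mul_inv_eq_iff_eq_mul,
    show x * ⁅C.lf (xr h P v), C.lf (xr h P w)⁆ * x⁻¹ = ⁅x * C.lf (xr h P v) * x⁻¹, x * C.lf (xr h P w) * x⁻¹⁆ by
      simp only [commutatorElement_def]; group, ec, ed]
  generalize C.lf (xr h P v) = u, C.lf (xr h P w) = u'
  rw [show ⁅u * c, u' * d⁆ = u * (c * (u' * d)) * c⁻¹ * u⁻¹ * (d⁻¹ * u'⁻¹) by
    simp only [commutatorElement_def]; group, ← (C.ker_comm hc (u' * d)).eq,
    show u * (u' * d * c) * c⁻¹ * u⁻¹ * (d⁻¹ * u'⁻¹) = u * u' * (d * u⁻¹) * d⁻¹ * u'⁻¹ by group,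
    ← (C.ker_comm hd u⁻¹).eq]
  simp only [commutatorElement_def]
  group

/-- the pairing between the centre and the radical -/
theorem cm_cen_add (i : ι) {z : HSU B} (hz : z ∈ cen h P) (v w : perpP h a f) :
    C.cm z (xr h P (v + w)) = C.cm z (xr h P v) * C.cm z (xr h P w) := by
  obtain ⟨c, hc, e⟩ := xr_mul h P v w
  rw [← C.cm_add_right (cen_commute h P hz (xr_mem h P w)), e, C.cm_add_right (cen_commute h P hz (cen_le h P hc))]
  rw [show C.cm z c = 1 from ?_, mul_one]
  rw [← C.comm_eq (C.σ_lf z) (C.σ_lf c), commutatorElement_eq_one_iff_commute]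
  exact lift_cen_cen h P hb C i (by rw [C.σ_lf]; exact hz) (by rw [C.σ_lf]; exact hc)

theorem cm_cen_scale (i : ι) {z : HSU B} (hz : z ∈ cen h P) {g : HSU B} {l : F} (hg : IsTor a f g l)
    (hN : l * σ l = 1) {v v' : perpP h a f} (e : (v' : V) = σ l • ap g v) :
    C.cm z (xr h P v') = C.cm z (xr h P v) := by
  obtain ⟨c, hc, ec⟩ := xr_conj h P hg e
  have h1 := C.cm_conj_eq (cen_commute h P hz (xr_mem h P v)) g
  rw [cen_fix h P hg hN hz, ec, C.cm_add_right (cen_commute h P hz (cen_le h P hc))] at h1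
  rw [← h1]
  rw [show C.cm z c = 1 from ?_, mul_one]
  rw [← C.comm_eq (C.σ_lf z) (C.σ_lf c), commutatorElement_eq_one_iff_commute]
  exact lift_cen_cen h P hb C i (by rw [C.σ_lf]; exact hz) (by rw [C.σ_lf]; exact hc)

/-- the lifts of the centre are central over the radical -/
theorem lift_cen_radical [Nonempty ι] (hex : Fintype.card ι = 1 → 3 ≤ Nat.card (fixedSub σ)) {x y : Γ}
    (hx : π x ∈ cen h P) (hy : π y ∈ radical h P) : Commute x y := by
  obtain ⟨i0⟩ := ‹Nonempty ι›
  obtain ⟨z, hzx⟩ : ∃ z, z = π x := ⟨_, rfl⟩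
  have hz : z ∈ cen h P := hzx ▸ hx
  have hmove : ∀ i, ∃ κ : F, κ ≠ 1 ∧ ∀ r : F,
      C.cm z (xr h P ((κ * r) • b i)) = C.cm z (xr h P (r • b i)) := by
    intro i
    by_cases h1 : ∃ j, j ≠ i
    · obtain ⟨j, hj⟩ := h1
      obtain ⟨μ, hμ1, hμ⟩ := h.exists_norm_one_ne_one
      have hd : ∀ k, (Function.update (Function.update (1 : ι → Fˣ) i μ) j μ⁻¹) k ∈ normOne σ := fun k => by
        rcases eq_or_ne k j with rfl | hkj
        · rw [Function.update_self]; exact inv_mem (mem_normOne.2 hμ)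
        rw [Function.update_of_ne hkj]
        rcases eq_or_ne k i with rfl | hki
        · rw [Function.update_self]; exact mem_normOne.2 hμ
        · rw [Function.update_of_ne hki]; exact one_mem _
      obtain ⟨g, hg, hgb⟩ := exists_diag_tor h P hb 1 hd (by
        rw [Fintype.prod_eq_mul i j (Ne.symm hj) fun k hk => by simp [Function.update_of_ne, hk.1, hk.2]]
        simp [Function.update_of_ne (Ne.symm hj), Function.update_self])
      refine ⟨μ, hμ1, fun r => cm_cen_scale h P hb C i hz hg (by simp) ?_⟩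
      rw [Submodule.coe_smul, Submodule.coe_smul, LinearEquiv.map_smul, hgb, Function.update_of_ne (Ne.symm hj),
        Function.update_self, Units.val_one, map_one, one_smul, smul_smul, mul_comm]
    · push Not at h1
      have hc1 : Fintype.card ι = 1 := Fintype.card_eq_one_iff.2 ⟨i, h1⟩
      obtain ⟨l, hl, hl3⟩ := exists_normOne_pow_ne h.invol (show 0 < 3 by norm_num) (by have := hex hc1; omega)
      have hl' : (l : F) * σ (l : F) = 1 := mem_normOne.1 hl
      have hσl : σ (l : F) = ((l⁻¹ : Fˣ) : F) := by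
        rw [Units.val_inv_eq_inv_val]; exact eq_inv_of_mul_eq_one_right hl'
      obtain ⟨g, hg, hgb⟩ := exists_diag_tor h P hb l (d := fun _ => l⁻¹ * l⁻¹)
        (fun _ => mul_mem (inv_mem hl) (inv_mem hl)) (by
          rw [Finset.prod_const, Finset.card_univ, hc1, pow_one, hσl, div_eq_mul_inv,
            ← Units.val_inv_eq_inv_val, inv_inv, ← Units.val_mul, ← Units.val_mul]
          simp)
      refine ⟨((l⁻¹ * (l⁻¹ * l⁻¹) : Fˣ) : F), fun e => hl3 ?_, fun r => cm_cen_scale h P hb C i hz hg hl' ?_⟩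
      · rw [Units.val_eq_one, ← mul_inv_rev, ← mul_inv_rev, inv_eq_one] at e
        rw [← e, pow_succ, pow_two]
      · rw [Submodule.coe_smul, Submodule.coe_smul, LinearEquiv.map_smul, hgb, hσl, smul_smul, smul_smul,
          Units.val_mul]
        congr 1
        ring
  let S : AddSubgroup (perpP h a f) :=
    { carrier := {v | C.cm z (xr h P v) = 1}
      zero_mem' := by
        have h2 := cm_cen_add h P hb C i0 hz 0 0
        rw [add_zero] at h2
        exact mul_eq_left.1 h2.symm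
      add_mem' := fun {v w} (hv : C.cm z (xr h P v) = 1) (hw : C.cm z (xr h P w) = 1) => by
        show C.cm z (xr h P (v + w)) = 1
        rw [cm_cen_add h P hb C i0 hz, hv, hw, one_mul]
      neg_mem' := fun {v} (hv : C.cm z (xr h P v) = 1) => by
        show C.cm z (xr h P (-v)) = 1
        have h2 := cm_cen_add h P hb C i0 hz v (-v)
        rw [add_neg_cancel, hv, one_mul] at h2
        have h3 := cm_cen_add h P hb C i0 hz 0 0
        rw [add_zero] at h3
        rw [← h2]
        exact mul_eq_left.1 h3.symm }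
  have hcoord : ∀ i r, r • b i ∈ S := fun i r => by
    obtain ⟨κ, hκ, hk⟩ := hmove i
    have hκ' : κ - 1 ≠ 0 := sub_ne_zero.2 hκ
    have h2 := cm_cen_add h P hb C i0 hz ((r / (κ - 1)) • b i) (r • b i)
    rw [← add_smul, show r / (κ - 1) + r = κ * (r / (κ - 1)) by field_simp; ring, hk] at h2
    exact mul_eq_left.1 h2.symm
  obtain ⟨v, c, hc, e⟩ := exists_split h P hy
  have hv : v ∈ S := by
    rw [← b.sum_repr v]
    exact sum_mem fun i _ => hcoord i _
  refine C.commute_of_cm hzx.symm e ?_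
  rw [C.cm_add_right (cen_commute h P hz (cen_le h P hc)), show C.cm z (xr h P v) = 1 from hv, one_mul]
  rw [← C.comm_eq (C.σ_lf z) (C.σ_lf c), commutatorElement_eq_one_iff_commute]
  exact lift_cen_cen h P hb C i0 (by rw [C.σ_lf]; exact hz) (by rw [C.σ_lf]; exact hc)

end CfsgLib.Known.UnitMult
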