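import Cfsg.Agent.Lib.Known.UnitMult.PCoord
import Cfsg.Agent.Lib.Known.UnitMult.Compl
import Cfsg.Agent.Lib.Known.UnitMult.GenP

/-!
# A complement of the kernel over the radical
-/

set_option autoImplicit false
set_option linter.unusedSectionVars false

namespace CfsgLib.Known.UnitMult

open CfsgLib.Classical CfsgLib.Classical.Herm CfsgLib.Known.SympMult
open CfsgLib.Classical.Herm.IsHerm (restrict restrict_apply)
open scoped commutatorElement

variable {F : Type*} [Field F] {σ : F →+* F} {V : Type*} [AddCommGroup V] [Module F V]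
  {B : V →ₛₗ[σ] V →ₗ[F] F} [Finite F] [FiniteDimensional F V] (h : IsHerm B)

include h

theorem exists_plane {R : Submodule F V} (hR : ND B R) (h2 : 2 ≤ Module.finrank F R) :
    ∃ U : Submodule F V, U ≤ R ∧ ND B U ∧ Module.finrank F U = 2 := by
  obtain ⟨u, hu0, huu⟩ := (h.restrict_herm hR).exists_isotropic h2
  obtain ⟨w, huw, hww⟩ := (h.restrict_herm hR).exists_isotropic_partner hu0 huu
  have P : Pair B (u : V) (w : V) := ⟨huu, hww, huw⟩
  exact ⟨_, Submodule.span_le.2 (Set.insert_subset_iff.2 ⟨u.2, Set.singleton_subset_iff.2 w.2⟩), nd_pair h P,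
    h.pair_finrank (h.hyperbolic_disc P.aa P.af)⟩

/-- a nondegenerate plane orthogonal to a vector -/
theorem exists_plane_perp {R : Submodule F V} (hR : ND B R) (h5 : 5 ≤ Module.finrank F R) {x : V} (hx : x ∈ R) :
    ∃ U : Submodule F V, U ≤ R ∧ ND B U ∧ Module.finrank F U = 2 ∧ ∀ y ∈ U, B x y = 0 := by
  have aux : ∀ S : Submodule F V, x ∈ S → ND B S → S ≤ R → Module.finrank F S ≤ 2 →
      ∃ U : Submodule F V, U ≤ R ∧ ND B U ∧ Module.finrank F U = 2 ∧ ∀ y ∈ U, B x y = 0 := by
    intro S hxS hS hSR hS2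
    have h1 := finrank_inf h hS hR hSR
    obtain ⟨U, hU, hUn, hU2⟩ := exists_plane h (nd_inf h hS hR hSR).1 (by omega)
    exact ⟨U, hU.trans inf_le_left, hUn, hU2, fun y hy => h.mem_orth.1 (hU hy).2 x hxS⟩
  by_cases hx0 : x = 0
  · obtain ⟨U, hU, hUn, hU2⟩ := exists_plane h hR (by omega)
    exact ⟨U, hU, hUn, hU2, fun y _ => by rw [hx0, zero_left]⟩
  by_cases hxx : B x x = 0
  · obtain ⟨w, hxw, hww⟩ := (h.restrict_herm hR).exists_isotropic_partner (u := ⟨x, hx⟩)
      (fun e => hx0 (congrArg Subtype.val e)) hxx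
    have P : Pair B x (w : V) := ⟨hxx, hww, hxw⟩
    exact aux _ (Submodule.subset_span (Set.mem_insert x _)) (nd_pair h P)
      (Submodule.span_le.2 (Set.insert_subset_iff.2 ⟨hx, Set.singleton_subset_iff.2 w.2⟩))
      (le_of_eq (h.pair_finrank (h.hyperbolic_disc P.aa P.af)))
  · refine aux (Submodule.span F {x}) (Submodule.mem_span_singleton_self x) ?_
      (Submodule.span_le.2 (Set.singleton_subset_iff.2 hx)) (by rw [finrank_span_singleton hx0]; norm_num)
    intro y hy hrad
    obtain ⟨r, rfl⟩ := Submodule.mem_span_singleton.1 hy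
    have h1 := hrad x (Submodule.mem_span_singleton_self x)
    rw [smul_left, mul_eq_zero] at h1
    rcases h1 with h1 | h1
    · rw [IsInvol.apply_eq_zero_iff.1 h1, zero_smul]
    · exact absurd h1 hxx

variable {a f : V} (P : Pair B a f)
include P

theorem tor_of_mem_SW {g : HSU B} (hg : g ∈ SW h (perpP h a f)) : IsTor a f g 1 := by
  obtain ⟨h1, h2⟩ := (mem_SW_perpP h P).1 hg
  exact ⟨one_ne_zero, by rw [one_smul, h1], by rw [map_one, inv_one, one_smul, h2]⟩

theorem tor_perp {g : HSU B} {l : F} (hg : IsTor a f g l) {v : V} (hv : v ∈ perpP h a f) :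
    ap g v ∈ perpP h a f := by
  have hσl : σ l ≠ 0 := fun e => hg.1 (IsInvol.apply_eq_zero_iff.1 e)
  have e1 : B (ap g a) (ap g v) = 0 := (ap_form g a v).trans ((mem_perpP h).1 hv).1
  have e2 : B (ap g f) (ap g v) = 0 := (ap_form g f v).trans ((mem_perpP h).1 hv).2
  rw [hg.2.1, smul_left, mul_eq_zero] at e1
  rw [hg.2.2, smul_left, mul_eq_zero] at e2
  exact (mem_perpP h).2 ⟨e1.resolve_left hσl,
    e2.resolve_left fun e => inv_ne_zero hσl (IsInvol.apply_eq_zero_iff.1 e)⟩

theorem tor_radical {g : HSU B} {l : F} (hg : IsTor a f g l) {x : HSU B} (hx : x ∈ radical h P) :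
    g * x * g⁻¹ ∈ radical h P := by
  obtain ⟨v, hv, t, ht, rfl⟩ := hx
  obtain ⟨hv', ht', e⟩ := rx_conj h P hg.1 hg.2.1 hg.2.2 (v := v) (hv := hv) (ht := ht)
  rw [e]
  exact rx_mem h P

theorem commute_tor {g g' : HSU B} {l l' : F} (hg : IsTor a f g l) (hg' : IsTor a f g' l')
    (hv : ∀ v ∈ perpP h a f, ap g (ap g' v) = ap g' (ap g v)) : Commute g g' :=
  pair_ext h P (by rw [ap_mul, ap_mul, hg'.2.1, hg.2.1, LinearEquiv.map_smul, LinearEquiv.map_smul, hg'.2.1,
      hg.2.1, smul_comm])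
    (by rw [ap_mul, ap_mul, hg'.2.2, hg.2.2, LinearEquiv.map_smul, LinearEquiv.map_smul, hg'.2.2, hg.2.2,
      smul_comm])
    fun v hvD => by rw [ap_mul, ap_mul, hv v hvD]

theorem rx_vec_mem_cen {v : V} {hv : v ∈ perpP h a f} {t : F} {ht : t + σ t = -B v v} :
    rx h P v hv t ht ∈ cen h P ↔ v = 0 := by
  refine ⟨fun ⟨s, hs, e⟩ => (rx_inj h P e).1, fun e => ?_⟩
  subst e
  exact ⟨t, ht, rfl⟩

variable {ι : Type*} [Fintype ι] [DecidableEq ι] [Nonempty ι] {b : Module.Basis ι F (perpP h a f)}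
  (hb : ∀ i j, restrict B (perpP h a f) (b i) (b j) = if i = j then 1 else 0)
include hb

theorem derived_radical : ⁅radical h P, radical h P⁆ = cen h P := by
  refine le_antisymm (Subgroup.commutator_le.2 fun x hx y hy => ?_) fun z hz => ?_
  · obtain ⟨v, hv, t, ht, rfl⟩ := hx
    obtain ⟨w, hw, s, hs, rfl⟩ := hy
    rw [rx_comm]
    exact ⟨_, _, rfl⟩
  · obtain ⟨v, w, rfl⟩ := exists_comm h P hb hz (Classical.arbitrary ι)
    exact Subgroup.commutator_mem_commutator (xr_mem h P v) (xr_mem h P w)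

variable {Γ : Type*} [Group Γ] {π : Γ →* HSU B} (C : CExt π) (hQ : Good π (radical h P))
include C hQ

/-- one element without fixed points cuts out a complement -/
theorem cpl_radical {g : Γ} {l : F} (hg : IsTor a f (π g) l)
    (hfree : ∀ v ∈ perpP h a f, σ l • ap (π g) v = v → v = 0) :
    (cpl π (radical h P) g).map π = radical h P ∧ ∀ x ∈ cpl π (radical h P) g, π x = 1 → x = 1 := by
  refine cpl_spec C hQ (fun x hx => tor_radical h P hg hx) ?_ ?_
  · intro x hx hc
    obtain ⟨v, hv, t, ht, rfl⟩ := hx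
    obtain ⟨hv', ht', e⟩ := rx_conj h P hg.1 hg.2.1 hg.2.2 (v := v) (hv := hv) (ht := ht)
    rw [derived_radical h P hb, commutatorElement_def, e, rx_inv, rx_mul, rx_vec_mem_cen, ← sub_eq_add_neg,
      sub_eq_zero] at hc
    rw [derived_radical h P hb, rx_vec_mem_cen]
    exact hfree v hv hc
  · intro y hy
    obtain ⟨w, hw, s, hs, rfl⟩ := hy
    let T : perpP h a f →ₗ[F] perpP h a f :=
      LinearMap.codRestrict _ ((σ l • (ap (π g) : V →ₗ[F] V) - LinearMap.id).comp (perpP h a f).subtype)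
        fun v => sub_mem (Submodule.smul_mem _ _ (tor_perp h P hg v.2)) v.2
    have hT : Function.Surjective T :=
      LinearMap.surjective_of_injective fun v v' e => by
        have e' := congrArg Subtype.val e
        change σ l • ap (π g) (v : V) - v = σ l • ap (π g) (v' : V) - v' at e'
        refine Subtype.ext (sub_eq_zero.1 (hfree _ (sub_mem v.2 v'.2) ?_))
        rw [map_sub, smul_sub]
        linear_combination (norm := abel) e'
    obtain ⟨v, hv⟩ := hT ⟨w, hw⟩
    have hv' : σ l • ap (π g) (v : V) - v = w := congrArg Subtype.val hv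
    refine ⟨xr h P v, xr_mem h P v, ?_⟩
    obtain ⟨hv'', ht'', e⟩ := rx_conj h P hg.1 hg.2.1 hg.2.2 (v := (v : V)) (hv := v.2)
      (ht := (exists_tv h P v).choose_spec)
    rw [derived_radical h P hb, commutatorElement_def, xr, e, rx_inv, rx_mul, rx_inv, rx_mul, rx_vec_mem_cen, ← hv']
    abel

end CfsgLib.Known.UnitMult

namespace CfsgLib.Known.UnitMult

open CfsgLib.Classical CfsgLib.Classical.Herm CfsgLib.Known.SympMult
open CfsgLib.Classical.Herm.IsHerm (restrict restrict_apply)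
open scoped commutatorElement

variable {F : Type*} [Field F] {σ : F →+* F} {V : Type*} [AddCommGroup V] [Module F V]
  {B : V →ₛₗ[σ] V →ₗ[F] F} [Finite F] [FiniteDimensional F V] (h : IsHerm B) {a f : V} (P : Pair B a f)
  {Γ : Type*} [Group Γ] [Finite Γ] {π : Γ →* HSU B} (C : CExt π) {p : ℕ} [Fact p.Prime] [CharP F p]
  (hZ : IsPGroup p π.ker)
include h P C hZ

/-- a complement over the radical, normalised by the stabiliser of the pair -/
theorem exists_radical_complement (h3 : 3 ≤ Module.finrank F V)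
    (hex3 : Module.finrank F V = 3 → Nat.card (fixedSub σ) ≠ 2)
    (hex4 : Module.finrank F V = 4 → Nat.card (fixedSub σ) ≠ 2 ∧ Nat.card (fixedSub σ) ≠ 3)
    (hex6 : Module.finrank F V = 6 → Nat.card (fixedSub σ) ≠ 2) :
    ∃ M : Subgroup Γ, M.map π = radical h P ∧ (∀ x ∈ M, π x = 1 → x = 1) ∧
      ∀ g, π g ∈ SW h (perpP h a f) → ∀ m ∈ M, g * m * g⁻¹ ∈ M := by
  have hD := nd_perpP h P
  obtain ⟨b, hb⟩ := (h.restrict_herm hD).exists_orthonormal_basis rfl
  have hdim := finrank_perpP h P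
  obtain ⟨q, hq⟩ : ∃ q, q = Nat.card (fixedSub σ) := ⟨_, rfl⟩
  obtain ⟨m, hm⟩ : ∃ m, m = Module.finrank F (perpP h a f) := ⟨_, rfl⟩
  have hq2 : 2 ≤ q := hq ▸ IsInvol.card_ge_two
  rw [← hq] at hex3 hex4 hex6
  have : Nonempty (Fin (Module.finrank F (perpP h a f))) := ⟨⟨0, by omega⟩⟩
  have hQ : Good π (radical h P) := good_radical h P C hb hZ
    (fun hc => by rw [Fintype.card_fin] at hc; have := hex3 (by omega); omega)
    (fun hc => by
      rw [Fintype.card_fin] at hc
      have h4 := hex4 (by omega)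
      omega)
  have hinf : Module.finrank F (perpP h a f ⊓ h.orth (perpP h a f) : Submodule F V) = 0 := by
    have := finrank_inf h hD hD le_rfl
    omega
  have hscal : ∀ (l μ : Fˣ) (g : HSU B), IsTor a f g l → (∀ x ∈ perpP h a f, ap g x = (μ : F) • x) →
      σ (l : F) * (μ : F) ≠ 1 →
      ∃ M : Subgroup Γ, M.map π = radical h P ∧ (∀ x ∈ M, π x = 1 → x = 1) ∧
        ∀ g, π g ∈ SW h (perpP h a f) → ∀ m ∈ M, g * m * g⁻¹ ∈ M := by
    intro l μ g hg hgv hκ
    obtain ⟨g, rfl⟩ := C.surj g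
    obtain ⟨h1, h2⟩ := cpl_radical h P hb C hQ hg fun v hv e => by
      rw [hgv v hv, smul_smul] at e
      by_contra hv0
      refine hκ (smul_left_injective F hv0 ?_)
      dsimp only
      rw [e, one_smul]
    refine ⟨_, h1, h2, fun k hk x hx => cpl_conj C (fun y hy => tor_radical h P (tor_of_mem_SW h P hk) hy) ?_ hx⟩
    refine commute_tor h P hg (tor_of_mem_SW h P hk) fun v hv => ?_
    rw [hgv v hv, LinearEquiv.map_smul, hgv _ (tor_perp h P (tor_of_mem_SW h P hk) hv)]
  by_cases hq3 : 3 ≤ q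
  · obtain ⟨N, hN, hN0, hN1⟩ : ∃ N : F, σ N = N ∧ N ≠ 0 ∧ N ≠ 1 := by
      by_contra hh
      push Not at hh
      have hle : (fixedSub σ : Set F) ⊆ {0, 1} := fun y hy => by
        by_cases hy0 : y = 0
        · exact Or.inl hy0
        · exact Or.inr (hh y hy hy0)
      have h4 := (Set.ncard_le_ncard hle (Set.toFinite _)).trans (Set.ncard_insert_le _ _)
      rw [Set.ncard_singleton, ← Nat.card_coe_set_eq] at h4
      have e8 : Nat.card ((fixedSub σ : Set F) : Type _) = Nat.card (fixedSub σ) := rfl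
      omega
    obtain ⟨g, hg, hgv, -⟩ := exists_scal_tor h P hD le_rfl (l := Units.mk0 N hN0) (μ := 1) (μ' := 1) (one_mem _)
      (one_mem _) (by simp [hN, hN0])
    exact hscal _ 1 g hg hgv (by simpa [hN] using hN1)
  -- the field with four elements
  have hq2' : q = 2 := by omega
  have hF : Nat.card F = 4 := by rw [h.invol.card_sq, ← hq, hq2']; norm_num
  obtain ⟨ω, hω, hω1⟩ := exists_normOne_pow_ne h.invol (show 0 < 1 by norm_num) (by omega)
  rw [pow_one] at hω1
  have hω3 : ω ^ 3 = 1 := by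
    have : Fintype F := Fintype.ofFinite F
    have := FiniteField.pow_card_sub_one_eq_one (ω : F) ω.ne_zero
    rw [← Nat.card_eq_fintype_card, hF] at this
    exact Units.ext (by simpa using this)
  have hωo : orderOf ω = 3 := by
    have : Fact (Nat.Prime 3) := ⟨by norm_num⟩
    exact orderOf_eq_prime hω3 hω1
  have hσu : ∀ x : Fˣ, x ∈ normOne σ → σ (x : F) = ((x⁻¹ : Fˣ) : F) := fun x hx => by
    rw [Units.val_inv_eq_inv_val]; exact eq_inv_of_mul_eq_one_right (mem_normOne.1 hx)
  by_cases hm1 : m % 3 ≠ 1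
  · obtain ⟨g, hg, hgv, -⟩ := exists_scal_tor h P hD le_rfl (l := ω ^ m) (μ := ω) (μ' := 1) hω (one_mem _) (by
      rw [hσu _ (pow_mem hω m), ← hm, hinf, pow_zero, mul_one, div_eq_mul_inv, ← Units.val_inv_eq_inv_val,
        inv_inv, ← Units.val_pow_eq_pow_val, ← Units.val_mul, ← Units.val_mul, ← pow_add, ← pow_add,
        show m + m + m = 3 * m by ring, pow_mul, hω3, one_pow, Units.val_one])
    refine hscal _ ω g hg hgv fun e => ?_
    rw [hσu _ (pow_mem hω m), ← Units.val_mul, Units.val_eq_one, inv_mul_eq_one] at e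
    have h1 : ω ^ m = ω ^ 1 := by rw [pow_one]; exact e
    rw [pow_eq_pow_iff_modEq, hωo, Nat.ModEq] at h1
    exact hm1 h1
  push Not at hm1
  have hm7 : 7 ≤ m := by
    have := hex3; have := hex6; have := hex4
    rcases Nat.lt_or_ge m 7 with hlt | hge
    · interval_cases m <;> omega
    · exact hge
  -- elements scalar on a plane and on its complement
  have hex : ∀ U : Submodule F V, ND B U → U ≤ perpP h a f → Module.finrank F U = 2 →
      ∃ g : Γ, IsTor a f (π g) 1 ∧ (∀ x ∈ U, ap (π g) x = (ω : F) • x) ∧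
        (∀ x ∈ perpP h a f ⊓ h.orth U, ap (π g) x = ((ω⁻¹ : Fˣ) : F) • x) ∧
        ((cpl π (radical h P) g).map π = radical h P ∧ ∀ x ∈ cpl π (radical h P) g, π x = 1 → x = 1) := by
    intro U hU hle hU2
    have h1 := finrank_inf h hU hD hle
    obtain ⟨g, hg, hgU, hgo⟩ := exists_scal_tor h P hU hle (l := 1) (μ := ω) (μ' := ω⁻¹) hω (inv_mem hω) (by
      rw [hU2, show Module.finrank F (perpP h a f ⊓ h.orth U : Submodule F V) = m - 2 by omega, Units.val_one,
        map_one, div_one, one_mul, ← Units.val_pow_eq_pow_val, ← Units.val_pow_eq_pow_val, ← Units.val_mul,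
        inv_pow, Units.val_eq_one, mul_inv_eq_one, pow_eq_pow_iff_modEq, hωo, Nat.ModEq]
      omega)
    obtain ⟨g, rfl⟩ := C.surj g
    refine ⟨g, by simpa using hg, hgU, hgo, cpl_radical h P hb C hQ hg fun v hv e => ?_⟩
    rw [← (nd_inf h hU hD hle).2] at hv
    obtain ⟨u, hu, u', hu', rfl⟩ := Submodule.mem_sup.1 hv
    rw [Units.val_one, map_one, one_smul, map_add, hgU u hu, hgo u' hu'] at e
    have hsep : ((ω : F) - 1) • u = 0 ∧ (((ω⁻¹ : Fˣ) : F) - 1) • u' = 0 := by
      have e2 : ((ω : F) - 1) • u + (((ω⁻¹ : Fˣ) : F) - 1) • u' = 0 := by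
        rw [sub_smul, sub_smul, one_smul, one_smul]
        linear_combination (norm := abel) e
      have h2 : ((ω : F) - 1) • u = 0 := by
        refine (Submodule.mem_bot F).1 ((h.isCompl_orth hU).disjoint.eq_bot ▸ ⟨Submodule.smul_mem _ _ hu, ?_⟩)
        rw [SetLike.mem_coe, eq_neg_of_add_eq_zero_left e2]
        exact neg_mem (Submodule.smul_mem _ _ hu'.2)
      exact ⟨h2, by rwa [h2, zero_add] at e2⟩
    have hne : ((ω : F) - 1) ≠ 0 ∧ ((ω⁻¹ : Fˣ) : F) - 1 ≠ 0 := by
      refine ⟨sub_ne_zero.2 fun e => hω1 (Units.val_eq_one.1 e), sub_ne_zero.2 fun e => hω1 ?_⟩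
      rwa [Units.val_eq_one, inv_eq_one] at e
    rw [(smul_eq_zero.1 hsep.1).resolve_left hne.1, (smul_eq_zero.1 hsep.2).resolve_left hne.2, add_zero]
  obtain ⟨U0, hU0le, hU0, hU02⟩ := exists_plane h hD (by omega)
  obtain ⟨g0, hg0, hg0U, hg0o, hM1, hM2⟩ := hex U0 hU0 hU0le hU02
  obtain ⟨M0, hM0⟩ : ∃ M0, M0 = cpl π (radical h P) g0 := ⟨_, rfl⟩
  refine ⟨M0, hM0 ▸ hM1, hM0 ▸ hM2, ?_⟩
  obtain ⟨hW', hWsup⟩ := nd_inf h hU0 hD hU0le
  have hnorm : SW h (perpP h a f) ≤ (Subgroup.normalizer (M0 : Set Γ)).map π := by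
    intro k hk
    obtain ⟨b', rfl⟩ := exists_inclS_eq h hD hk
    have hH := h.restrict_herm hD
    have key : ∀ y : HU (restrict B (perpP h a f)), y ∈ hH.trGroup →
        incl h hD y ∈ ((Subgroup.normalizer (M0 : Set Γ)).map π).map (HSU B).subtype := by
      intro y hy
      induction hy using Subgroup.closure_induction with
      | mem y hy =>
        obtain ⟨u, hu, c, hc, rfl⟩ := hy
        have hu' : B (u : V) (u : V) = 0 := hu
        refine ⟨trS h hu' hc, ?_, ?_⟩
        swap
        · refine Subtype.ext (LinearEquiv.ext fun y => ?_)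
          obtain ⟨w, v, rfl⟩ := CfsgLib.Classical.exists_decomp (h.isCompl_orth hD) y
          show ap (trS h hu' hc) ((w : V) + v) = _
          rw [trS_apply, incl_apply, hH.tr_apply, map_add, h.mem_orth.1 v.2 u u.2, add_zero, restrict_apply]
          push_cast
          abel
        have huD : (u : V) ∈ U0 ⊔ (perpP h a f ⊓ h.orth U0) := hWsup.symm ▸ u.2
        obtain ⟨u0, hu0, u', hu'', eu⟩ := Submodule.mem_sup.1 huD
        obtain ⟨U1, hU1le, hU1, hU12, hU1u⟩ := exists_plane_perp h hW' (by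
          have := finrank_inf h hU0 hD hU0le
          omega) hu''
        have hU1D : U1 ≤ perpP h a f := hU1le.trans inf_le_left
        have hU1u' : ∀ y ∈ U1, B (u : V) y = 0 := fun y hy => by
          rw [← eu, add_left, hU1u y hy, add_zero]
          exact h.mem_orth.1 (hU1le hy).2 u0 hu0
        obtain ⟨g1, hg1, hg1U, hg1o, hM1', hM2'⟩ := hex U1 hU1 hU1D hU12
        have hU01 : U0 ≤ perpP h a f ⊓ h.orth U1 := le_inf hU0le
          ((le_orth_orth h U0).trans (orth_anti h (hU1le.trans inf_le_right)))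
        have hc01 : Commute (π g0) (π g1) := by
          refine commute_tor h P hg0 hg1 fun v hv => ?_
          rw [← hWsup] at hv
          obtain ⟨x, hx, y, hy, rfl⟩ := Submodule.mem_sup.1 hv
          simp only [map_add]
          congr 1
          · rw [hg1o x (hU01 hx), hg0U x hx, LinearEquiv.map_smul, LinearEquiv.map_smul, hg0U x hx,
              hg1o x (hU01 hx), smul_comm]
          · have hy1 : ap (π g1) y ∈ perpP h a f ⊓ h.orth U0 := by
              rw [← (nd_inf h hU1 hW' hU1le).2] at hy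
              obtain ⟨y1, hy1, y2, hy2, rfl⟩ := Submodule.mem_sup.1 hy
              rw [map_add, hg1U y1 hy1, hg1o y2 ⟨hy2.1.1, hy2.2⟩]
              exact add_mem (Submodule.smul_mem _ _ (hU1le hy1)) (Submodule.smul_mem _ _ hy2.1)
            rw [hg0o _ hy1, hg0o y hy, LinearEquiv.map_smul]
        have hM01 : M0 = cpl π (radical h P) g1 := hM0 ▸ le_antisymm
          (cpl_le_cpl C (fun x hx => tor_radical h P hg0 hx) hc01.symm hM1')
          (cpl_le_cpl C (fun x hx => tor_radical h P hg1 hx) hc01 hM1)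
        obtain ⟨k, hk⟩ := C.surj (trS h hu' hc)
        have hkD : π k ∈ SW h (perpP h a f) := hk ▸ trS_mem h u.2 hu' hc
        have hck : Commute (π g1) (π k) := by
          refine commute_tor h P hg1 (tor_of_mem_SW h P hkD) fun v hv => ?_
          rw [← (nd_inf h hU1 hD hU1D).2] at hv
          obtain ⟨x, hx, y, hy, rfl⟩ := Submodule.mem_sup.1 hv
          simp only [map_add]
          congr 1
          · rw [hk, trS_apply, hU1u' x hx, mul_zero, zero_smul, add_zero, hg1U x hx, LinearEquiv.map_smul,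
              trS_apply, hU1u' x hx, mul_zero, zero_smul, add_zero]
          · have hy' : ap (π k) y ∈ perpP h a f ⊓ h.orth U1 := by
              rw [hk, trS_apply]
              refine add_mem hy (Submodule.smul_mem _ _ ⟨u.2, h.mem_orth.2 fun x hx => ?_⟩)
              exact h.eq_zero_symm (hU1u' x hx)
            rw [hg1o _ hy', hg1o y hy, LinearEquiv.map_smul]
        have hck' : Commute (π g1) (π k⁻¹) := by rw [map_inv]; exact hck.inv_right
        refine ⟨k, Subgroup.mem_normalizer_iff.2 fun x => ⟨fun hx => ?_, fun hx => ?_⟩, hk⟩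
        · rw [hM01] at hx ⊢
          exact cpl_conj C (fun y hy => tor_radical h P (tor_of_mem_SW h P hkD) hy) hck hx
        · rw [hM01] at hx ⊢
          have := cpl_conj C (fun y hy => tor_radical h P
            (tor_of_mem_SW h P (by rw [map_inv]; exact inv_mem hkD : π k⁻¹ ∈ _)) hy) hck' hx
          rwa [show k⁻¹ * (k * x * k⁻¹) * k⁻¹⁻¹ = x by group] at this
      | one => rw [map_one]; exact one_mem _
      | mul y z _ _ hy hz => rw [map_mul]; exact mul_mem hy hz
      | inv y _ hy => rw [map_inv]; exact inv_mem hy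
    obtain ⟨g, hg, e⟩ := key _ (hH.generated (by omega) (fun e => by omega) b'.2)
    rwa [show inclS h hD b' = g from Subtype.ext e.symm]
  intro g hg x hx
  obtain ⟨n, hn, e⟩ := hnorm hg
  obtain ⟨z, hz, rfl⟩ := C.diff (x := g) (y := n) e.symm
  rw [show n * z * x * (n * z)⁻¹ = n * (z * x) * z⁻¹ * n⁻¹ by group, ← (C.ker_comm hz x).eq,
    show n * (x * z) * z⁻¹ * n⁻¹ = n * x * n⁻¹ by group]
  exact (Subgroup.mem_normalizer_iff.1 hn x).1 hx

end CfsgLib.Known.UnitMult
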