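import Cfsg.Agent.Lib.Known.UnitMult.PCenter
import Cfsg.Agent.Lib.Known.UnitMult.Balance

/-!
# The radical has no stem part
-/

set_option autoImplicit false
set_option linter.unusedSectionVars false

namespace CfsgLib.Known.UnitMult

open CfsgLib.Classical CfsgLib.Classical.Herm CfsgLib.Known.SympMult
open CfsgLib.Classical.Herm.IsHerm (restrict restrict_apply)
open scoped commutatorElement IsMulCommutative

theorem commute_lift_of_pow {G Γ : Type*} [Group G] [Group Γ] [Finite Γ] {π : Γ →* G} (C : CExt π) {p : ℕ}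
    [Fact p.Prime] (hZ : IsPGroup p π.ker) {g y : Γ} (hc : Commute (π g) (π y)) {k : ℕ} (hk : ¬ p ∣ k)
    (hg : π g ^ k = 1) : Commute g y := by
  obtain ⟨d, hd⟩ : ∃ d, d = ⁅g, y⁆ := ⟨_, rfl⟩
  have hd1 : π d = 1 := by rw [hd, map_commutatorElement, commutatorElement_eq_one_iff_commute.2 hc]
  have e1 : g * y * g⁻¹ = d * y := by rw [hd, commutatorElement_def]; group
  have key : ∀ n : ℕ, g ^ n * y * (g ^ n)⁻¹ = d ^ n * y := by
    intro n
    induction n with
    | zero => simp
    | succ n ih =>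
      rw [show g ^ (n + 1) * y * (g ^ (n + 1))⁻¹ = g ^ n * (g * y * g⁻¹) * (g ^ n)⁻¹ by rw [pow_succ]; group, e1,
        show g ^ n * (d * y) * (g ^ n)⁻¹ = g ^ n * d * (g ^ n)⁻¹ * (g ^ n * y * (g ^ n)⁻¹) by group, ih,
        (C.ker_comm hd1 (g ^ n)).eq, mul_inv_cancel_right, ← mul_assoc, ← pow_succ']
  have h1 : d ^ k = 1 := by
    have h2 := key k
    rw [← (C.ker_comm (show π (g ^ k) = 1 by rw [map_pow, hg]) y).eq, mul_inv_cancel_right] at h2
    exact mul_eq_right.1 h2.symm
  rw [← commutatorElement_eq_one_iff_commute, ← hd]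
  exact eq_one_of_pow C hZ hk hd1 h1

variable {F : Type*} [Field F] {σ : F →+* F} {V : Type*} [AddCommGroup V] [Module F V]
  {B : V →ₛₗ[σ] V →ₗ[F] F} [Finite F] [FiniteDimensional F V] (h : IsHerm B) {a f : V} (P : Pair B a f)

variable {Γ : Type*} [Group Γ] (π : Γ →* HSU B)

/-- the centre of the preimage of the radical, written additively -/
abbrev ZQ : Type _ := Additive (Subgroup.center ((radical h P).comap π))

variable {π}

/-- the underlying element -/
def zval (x : ZQ h P π) : Γ := (((Additive.toMul x : Subgroup.center _) : (radical h P).comap π) : Γ)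

include h P

theorem zval_add (x y : ZQ h P π) : zval h P (x + y) = zval h P x * zval h P y := rfl

theorem zval_zero : zval h P (0 : ZQ h P π) = 1 := rfl

theorem zval_sub (x y : ZQ h P π) : zval h P (x - y) = zval h P x * (zval h P y)⁻¹ := by
  rw [eq_mul_inv_iff_mul_eq, ← zval_add, sub_add_cancel]

theorem zval_inj {x y : ZQ h P π} (e : zval h P x = zval h P y) : x = y :=
  Additive.toMul.injective (Subtype.ext (Subtype.ext e))

theorem zval_commute (x : ZQ h P π) {u : Γ} (hu : π u ∈ radical h P) : Commute (zval h P x) u :=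
  (congrArg Subtype.val (Subgroup.mem_center_iff.1 (Additive.toMul x).2 ⟨u, hu⟩)).symm

variable (C : CExt π) (hcen : ∀ x y : Γ, π x ∈ cen h P → π y ∈ radical h P → Commute x y)
include C hcen

/-- an element over the centre -/
def zmk {x : Γ} (hx : π x ∈ cen h P) : ZQ h P π :=
  Additive.ofMul ⟨⟨x, cen_le h P hx⟩, Subgroup.mem_center_iff.2 fun y => Subtype.ext (hcen x y hx y.2).eq.symm⟩

theorem lf_comm_mem (v w : perpP h a f) : π ⁅C.lf (xr h P v), C.lf (xr h P w)⁆ ∈ cen h P := by
  rw [map_commutatorElement, C.σ_lf, C.σ_lf]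
  exact xr_comm_mem h P v w

/-- commutators depend only on the vectors -/
theorem comm_eq_lf {x y : Γ} {v w : perpP h a f} {z z' : HSU B} (hz : z ∈ cen h P) (hz' : z' ∈ cen h P)
    (hx : π x = xr h P v * z) (hy : π y = xr h P w * z') :
    ⁅x, y⁆ = ⁅C.lf (xr h P v), C.lf (xr h P w)⁆ := by
  obtain ⟨c, rfl⟩ : ∃ c, x = C.lf (xr h P v) * c := ⟨_, (mul_inv_cancel_left _ _).symm⟩
  obtain ⟨d, rfl⟩ : ∃ d, y = C.lf (xr h P w) * d := ⟨_, (mul_inv_cancel_left _ _).symm⟩
  rw [map_mul, C.σ_lf, mul_right_inj] at hx hy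
  have hc : ∀ u : Γ, π u ∈ radical h P → Commute c u := fun u hu => hcen c u (hx ▸ hz) hu
  have hd : ∀ u : Γ, π u ∈ radical h P → Commute d u := fun u hu => hcen d u (hy ▸ hz') hu
  have hu : π (C.lf (xr h P v)) ∈ radical h P := by rw [C.σ_lf]; exact xr_mem h P v
  have hu' : π (C.lf (xr h P w)) ∈ radical h P := by rw [C.σ_lf]; exact xr_mem h P w
  generalize C.lf (xr h P v) = u, C.lf (xr h P w) = u' at hu hu'
  rw [show ⁅u * c, u' * d⁆ = u * (c * (u' * d)) * c⁻¹ * u⁻¹ * (d⁻¹ * u'⁻¹) by
    simp only [commutatorElement_def]; group, (hc (u' * d) (by rw [map_mul, hy]; exact mul_mem hu' (cen_le h P hz'))).eq,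
    show u * (u' * d * c) * c⁻¹ * u⁻¹ * (d⁻¹ * u'⁻¹) = u * u' * (d * u⁻¹) * d⁻¹ * u'⁻¹ by group,
    (hd u⁻¹ (by rw [map_inv]; exact inv_mem hu)).eq]
  simp only [commutatorElement_def]
  group

/-- the commutator pairing -/
noncomputable def Lb : perpP h a f →+ perpP h a f →+ ZQ h P π :=
  AddMonoidHom.mk'
    (fun v => AddMonoidHom.mk' (fun w => zmk h P hcen (lf_comm_mem h P C hcen v w)) fun w w' => zval_inj h P (by
      obtain ⟨z, hz, e⟩ := xr_mul h P w w'
      rw [zval_add]
      show ⁅C.lf (xr h P v), C.lf (xr h P (w + w'))⁆ =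
        ⁅C.lf (xr h P v), C.lf (xr h P w)⁆ * ⁅C.lf (xr h P v), C.lf (xr h P w')⁆
      rw [← comm_eq_lf h P C hcen (x := C.lf (xr h P v)) (y := C.lf (xr h P w) * C.lf (xr h P w')) (one_mem _) hz
        (by rw [C.σ_lf, mul_one]) (by rw [map_mul, C.σ_lf, C.σ_lf, e])]
      have hcm := hcen ⁅C.lf (xr h P v), C.lf (xr h P w')⁆ (C.lf (xr h P w)) (lf_comm_mem h P C hcen v w')
        (by rw [C.σ_lf]; exact xr_mem h P w)
      generalize C.lf (xr h P v) = x, C.lf (xr h P w) = y, C.lf (xr h P w') = y' at hcm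
      rw [show ⁅x, y * y'⁆ = ⁅x, y⁆ * (y * ⁅x, y'⁆ * y⁻¹) by simp only [commutatorElement_def]; group, ← hcm.eq,
        mul_inv_cancel_right]))
    fun v v' => AddMonoidHom.ext fun w => zval_inj h P (by
      obtain ⟨z, hz, e⟩ := xr_mul h P v v'
      show ⁅C.lf (xr h P (v + v')), C.lf (xr h P w)⁆ =
        ⁅C.lf (xr h P v), C.lf (xr h P w)⁆ * ⁅C.lf (xr h P v'), C.lf (xr h P w)⁆
      rw [← comm_eq_lf h P C hcen (x := C.lf (xr h P v) * C.lf (xr h P v')) (y := C.lf (xr h P w)) hz (one_mem _)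
        (by rw [map_mul, C.σ_lf, C.σ_lf, e]) (by rw [C.σ_lf, mul_one])]
      have hcm := hcen ⁅C.lf (xr h P v'), C.lf (xr h P w)⁆ (C.lf (xr h P v)) (lf_comm_mem h P C hcen v' w)
        (by rw [C.σ_lf]; exact xr_mem h P v)
      have hcm' := hcen ⁅C.lf (xr h P v'), C.lf (xr h P w)⁆ ⁅C.lf (xr h P v), C.lf (xr h P w)⁆
        (lf_comm_mem h P C hcen v' w) (cen_le h P (lf_comm_mem h P C hcen v w))
      generalize C.lf (xr h P v) = x, C.lf (xr h P v') = x', C.lf (xr h P w) = y at hcm hcm'
      rw [show ⁅x * x', y⁆ = x * ⁅x', y⁆ * x⁻¹ * ⁅x, y⁆ by simp only [commutatorElement_def]; group, ← hcm.eq,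
        mul_inv_cancel_right, hcm'.eq])

theorem zval_Lb (v w : perpP h a f) : zval h P (Lb h P C hcen v w) = ⁅C.lf (xr h P v), C.lf (xr h P w)⁆ := rfl

theorem Lb_self (v : perpP h a f) : Lb h P C hcen v v = 0 :=
  zval_inj h P (by rw [zval_Lb, zval_zero, commutatorElement_self])

theorem π_Lb (v w : perpP h a f) :
    ∃ ht, π (zval h P (Lb h P C hcen v w)) = rx h P 0 (zero_mem _) (B (w : V) v - B (v : V) w) ht := by
  rw [zval_Lb, map_commutatorElement, C.σ_lf, C.σ_lf, xr, xr, rx_comm]
  exact ⟨_, rfl⟩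

theorem π_Lb_eq {v w v' w' : perpP h a f} (e : B (w : V) v - B (v : V) w = B (w' : V) v' - B (v' : V) w') :
    π (zval h P (Lb h P C hcen v w - Lb h P C hcen v' w')) = 1 := by
  obtain ⟨_, e1⟩ := π_Lb h P C hcen v w
  obtain ⟨_, e2⟩ := π_Lb h P C hcen v' w'
  rw [zval_sub, map_mul, map_inv, e1, e2, mul_inv_eq_one]
  exact rx_congr h P rfl e

theorem Lb_conj {g : Γ} {l : F} (hg : IsTor a f (π g) l) {v v' w w' : perpP h a f}
    (ev : (v' : V) = σ l • ap (π g) v) (ew : (w' : V) = σ l • ap (π g) w) :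
    g * zval h P (Lb h P C hcen v w) * g⁻¹ = zval h P (Lb h P C hcen v' w') := by
  obtain ⟨z, hz, e1⟩ := xr_conj h P hg ev
  obtain ⟨z', hz', e2⟩ := xr_conj h P hg ew
  rw [zval_Lb, zval_Lb, ← comm_eq_lf h P C hcen (v := v') (w := w') (x := g * C.lf (xr h P v) * g⁻¹) (y := g * C.lf (xr h P w) * g⁻¹)
    hz hz' (by rw [map_mul, map_mul, map_inv, C.σ_lf, e1]) (by rw [map_mul, map_mul, map_inv, C.σ_lf, e2])]
  simp only [commutatorElement_def]
  group

/-- differences in the kernel do not move -/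
theorem Lb_sub_conj {g : Γ} {l : F} (hg : IsTor a f (π g) l) {v v' w w' x x' y y' : perpP h a f}
    (ev : (v' : V) = σ l • ap (π g) v) (ew : (w' : V) = σ l • ap (π g) w)
    (ex : (x' : V) = σ l • ap (π g) x) (ey : (y' : V) = σ l • ap (π g) y)
    (h1 : π (zval h P (Lb h P C hcen v w - Lb h P C hcen x y)) = 1) :
    Lb h P C hcen v' w' - Lb h P C hcen x' y' = Lb h P C hcen v w - Lb h P C hcen x y := by
  refine zval_inj h P ?_
  rw [zval_sub, ← Lb_conj h P C hcen hg ev ew, ← Lb_conj h P C hcen hg ex ey]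
  rw [zval_sub] at h1 ⊢
  generalize zval h P (Lb h P C hcen v w) = u, zval h P (Lb h P C hcen x y) = u' at h1
  rw [show g * u * g⁻¹ * (g * u' * g⁻¹)⁻¹ = g * (u * u'⁻¹) * g⁻¹ by group, (C.ker_comm h1 g).eq,
    mul_inv_cancel_right]

/-- coordinate pairings -/
noncomputable def bet {ι : Type*} (b : Module.Basis ι F (perpP h a f)) (i : ι) : F →+ F →+ ZQ h P π :=
  AddMonoidHom.mk' (fun r => AddMonoidHom.mk' (fun s => Lb h P C hcen (r • b i) (s • b i))
    fun s s' => by rw [add_smul, map_add]) fun r r' => AddMonoidHom.ext fun s => by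
      show Lb h P C hcen ((r + r') • b i) (s • b i) = _
      rw [add_smul, map_add]
      rfl

theorem bet_apply {ι : Type*} (b : Module.Basis ι F (perpP h a f)) (i : ι) (r s : F) :
    bet h P C hcen b i r s = Lb h P C hcen (r • b i) (s • b i) := rfl

variable {ι : Type*} [Fintype ι] [DecidableEq ι] [Nonempty ι] {b : Module.Basis ι F (perpP h a f)}
  (hb : ∀ i j, restrict B (perpP h a f) (b i) (b j) = if i = j then 1 else 0)
include hb

theorem Bb (i j : ι) (r s : F) :
    B ((r • b i : perpP h a f) : V) (s • b j : perpP h a f) = if i = j then σ r * s else 0 := by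
  rw [Submodule.coe_smul, Submodule.coe_smul, smul_left, smul_right, show B (b i : V) (b j) = _ from hb i j]
  split_ifs <;> ring

/-- diagonal conjugation on a coordinate -/
theorem Lb_diag {g : Γ} {l : F} (hg : IsTor a f (π g) l) {d : ι → Fˣ}
    (hgb : ∀ i, ap (π g) (b i : V) = (d i : F) • (b i : V)) (i : ι) (r : F) :
    ((((σ l * d i) * r) • b i : perpP h a f) : V) = σ l • ap (π g) ((r • b i : perpP h a f) : V) := by
  rw [Submodule.coe_smul, Submodule.coe_smul, LinearEquiv.map_smul, hgb, smul_smul, smul_smul]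
  congr 1
  ring

theorem Lb_cross (hex2 : Fintype.card ι = 2 → Nat.card (fixedSub σ) ≠ 3) {i j : ι} (hij : i ≠ j) (r s : F) :
    Lb h P C hcen (r • b i) (s • b j) = 0 := by
  have hker : ∀ r s : F, π (zval h P (Lb h P C hcen (r • b i) (s • b j) - Lb h P C hcen 0 0)) = 1 := fun r s =>
    π_Lb_eq h P C hcen (by rw [Bb h P C hcen hb, Bb h P C hcen hb, if_neg hij, if_neg (Ne.symm hij)]; simp)
  have hinv : ∀ {g : Γ} {l : F} {d : ι → Fˣ}, IsTor a f (π g) l →
      (∀ i, ap (π g) (b i : V) = (d i : F) • (b i : V)) → ∀ r s,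
      Lb h P C hcen (((σ l * d i) * r) • b i) (((σ l * d j) * s) • b j) = Lb h P C hcen (r • b i) (s • b j) := by
    intro g l d hg hgb r s
    have := Lb_sub_conj h P C hcen hg (Lb_diag h P C hcen hb hg hgb i r) (Lb_diag h P C hcen hb hg hgb j s)
      (x := 0) (x' := 0) (y := 0) (y' := 0) (by simp) (by simp) (hker r s)
    simpa using this
  suffices ∃ κ : F, κ ≠ 1 ∧ ∀ r s, Lb h P C hcen ((κ * r) • b i) (s • b j) = Lb h P C hcen (r • b i) (s • b j) by
    obtain ⟨κ, hκ, hk⟩ := this
    have hκ' : κ - 1 ≠ 0 := sub_ne_zero.2 hκ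
    have h2 := hk (r / (κ - 1)) s
    rw [show κ * (r / (κ - 1)) = r / (κ - 1) + r by field_simp; ring, add_smul, map_add,
      AddMonoidHom.add_apply] at h2
    exact add_eq_left.1 h2
  by_cases h3 : ∃ k, k ≠ i ∧ k ≠ j
  · obtain ⟨k, hki, hkj⟩ := h3
    obtain ⟨μ, hμ1, hμ⟩ := h.exists_norm_one_ne_one
    obtain ⟨d, hd0⟩ : ∃ d, d = Function.update (Function.update (1 : ι → Fˣ) i μ) k μ⁻¹ := ⟨_, rfl⟩
    have hdi : d i = μ := by rw [hd0, Function.update_of_ne (Ne.symm hki), Function.update_self]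
    have hdj : d j = 1 := by
      rw [hd0, Function.update_of_ne (Ne.symm hkj), Function.update_of_ne (Ne.symm hij), Pi.one_apply]
    have hd : ∀ x, d x ∈ normOne σ := fun x => by
      rw [hd0]
      rcases eq_or_ne x k with rfl | hxk
      · rw [Function.update_self]; exact inv_mem (mem_normOne.2 hμ)
      rw [Function.update_of_ne hxk]
      rcases eq_or_ne x i with rfl | hxi
      · rw [Function.update_self]; exact mem_normOne.2 hμ
      · rw [Function.update_of_ne hxi]; exact one_mem _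
    obtain ⟨g, hg, hgb⟩ := exists_diag_tor h P hb 1 hd (by
      rw [Fintype.prod_eq_mul i k (Ne.symm hki) fun x hx => by simp [hd0, Function.update_of_ne, hx.1, hx.2]]
      simp [hd0, Function.update_of_ne (Ne.symm hki), Function.update_self])
    obtain ⟨g', rfl⟩ := C.surj g
    refine ⟨μ, hμ1, fun r s => ?_⟩
    have := hinv hg hgb r s
    simpa [hdi, hdj] using this
  · push Not at h3
    have hc2 : Fintype.card ι = 2 := by
      rw [← Finset.card_univ, Finset.card_eq_two]
      refine ⟨i, j, hij, ?_⟩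
      ext x
      simp only [Finset.mem_univ, Finset.mem_insert, Finset.mem_singleton, true_iff]
      exact or_iff_not_imp_left.2 (h3 x)
    have hq : Nat.card (fixedSub σ) ≠ 3 := hex2 hc2
    obtain ⟨l, hl, hl4⟩ : ∃ l : Fˣ, l ∈ normOne σ ∧ l ^ 4 ≠ 1 := by
      rcases Nat.lt_or_ge (Nat.card (fixedSub σ)) 4 with hlt | hge
      · have hq2 : Nat.card (fixedSub σ) = 2 := by have := IsInvol.card_ge_two (σ := σ); omega
        obtain ⟨l, hl, hl1⟩ := exists_normOne_pow_ne h.invol (show 0 < 1 by norm_num) (by omega)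
        refine ⟨l, hl, fun e => hl1 ?_⟩
        have hF : Nat.card F = 4 := by rw [h.invol.card_sq, hq2]; norm_num
        have : Fintype F := Fintype.ofFinite F
        have h3' : l ^ 3 = 1 := by
          have := FiniteField.pow_card_sub_one_eq_one (l : F) l.ne_zero
          rw [← Nat.card_eq_fintype_card, hF] at this
          exact Units.ext (by simpa using this)
        rw [pow_succ, h3', one_mul] at e
        rw [e, one_pow]
      · exact exists_normOne_pow_ne h.invol (show 0 < 4 by norm_num) (by omega)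
    have hl' : (l : F) * σ (l : F) = 1 := mem_normOne.1 hl
    have hσl : σ (l : F) = ((l⁻¹ : Fˣ) : F) := by
      rw [Units.val_inv_eq_inv_val]; exact eq_inv_of_mul_eq_one_right hl'
    obtain ⟨d, hd0⟩ : ∃ d, d = Function.update (Function.update (1 : ι → Fˣ) i (l ^ 3)⁻¹) j l := ⟨_, rfl⟩
    have hdi : d i = (l ^ 3)⁻¹ := by rw [hd0, Function.update_of_ne hij, Function.update_self]
    have hdj : d j = l := by rw [hd0, Function.update_self]
    have hd : ∀ x, d x ∈ normOne σ := fun x => by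
      rw [hd0]
      rcases eq_or_ne x j with rfl | hxj
      · rw [Function.update_self]; exact hl
      rw [Function.update_of_ne hxj]
      rcases eq_or_ne x i with rfl | hxi
      · rw [Function.update_self]; exact inv_mem (pow_mem hl 3)
      · rw [Function.update_of_ne hxi]; exact one_mem _
    obtain ⟨g, hg, hgb⟩ := exists_diag_tor h P hb l hd (by
      rw [Fintype.prod_eq_mul i j hij fun x hx => absurd (h3 x hx.1) hx.2, hdi, hdj, hσl, div_eq_mul_inv,
        ← Units.val_inv_eq_inv_val, inv_inv, ← Units.val_mul, ← Units.val_mul, ← Units.val_mul,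
        show l * l * ((l ^ 3)⁻¹ * l) = 1 by group, Units.val_one])
    obtain ⟨g', rfl⟩ := C.surj g
    refine ⟨((l⁻¹ * (l ^ 3)⁻¹ : Fˣ) : F), fun e => hl4 ?_, fun r s => ?_⟩
    · rw [Units.val_eq_one, ← mul_inv_rev, inv_eq_one, ← pow_succ] at e
      exact e
    · have := hinv hg hgb r s
      rw [hdi, hdj, hσl] at this
      simpa using this

variable [Finite Γ] {p : ℕ} [Fact p.Prime] [CharP F p] (hZ : IsPGroup p π.ker)
include hZ

theorem bet_balanced (hex1 : Fintype.card ι = 1 → 3 ≤ Nat.card (fixedSub σ)) (i : ι) (r s : F) :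
    bet h P C hcen b i r s = bet h P C hcen b i 1 (σ r * s) := by
  obtain ⟨β, hβ⟩ : ∃ β, β = bet h P C hcen b i := ⟨_, rfl⟩
  rw [← hβ]
  let R : Subring F :=
    { carrier := {c | ∀ r s, β (c * r) s = β r (σ c * s)}
      one_mem' := fun r s => by simp
      zero_mem' := fun r s => by simp
      add_mem' := fun {x y} hx hy r s => by
        simp only [add_mul, map_add, AddMonoidHom.add_apply, hx r s, hy r s]
      neg_mem' := fun {x} hx r s => by
        simp only [neg_mul, map_neg, AddMonoidHom.neg_apply, hx r s]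
      mul_mem' := fun {x y} hx hy r s => by
        rw [mul_assoc, hx, hy, σ.map_mul, ← mul_assoc, mul_comm (σ y)] }
  suffices hR : R = ⊤ by
    have := (hR ▸ Subring.mem_top r : r ∈ R) 1 s
    rwa [mul_one] at this
  have hF : Nat.card F = Nat.card (fixedSub σ) ^ 2 := h.invol.card_sq
  have hpF : ¬ p ∣ Nat.card F - 1 := by
    intro hd
    have : Fintype F := Fintype.ofFinite F
    obtain ⟨k, hp, hk⟩ := FiniteField.card F p
    have hdF : p ∣ Nat.card F := by
      rw [Nat.card_eq_fintype_card, hk]; exact dvd_pow_self p k.ne_zero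
    have := Nat.dvd_sub hdF hd
    rw [show Nat.card F - (Nat.card F - 1) = 1 by have := Finite.one_lt_card (α := F); omega] at this
    exact (Fact.out : p.Prime).ne_one (Nat.dvd_one.1 this)
  by_cases h2 : ∃ j, j ≠ i
  · obtain ⟨j, hji⟩ := h2
    refine subring_eq_top hF ?_
    have hζ : ∀ x : F, x * σ x = 1 → x ∈ R := by
      intro x hx r s
      have hx0 : x ≠ 0 := left_ne_zero_of_mul_eq_one hx
      have hμ : (Units.mk0 x hx0) ∈ normOne σ := mem_normOne.2 hx
      obtain ⟨d, hd0⟩ : ∃ d, d = Function.update (Function.update (1 : ι → Fˣ) i (Units.mk0 x hx0)) j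
          (Units.mk0 x hx0)⁻¹ := ⟨_, rfl⟩
      have hdi : d i = Units.mk0 x hx0 := by rw [hd0, Function.update_of_ne (Ne.symm hji), Function.update_self]
      have hd : ∀ k, d k ∈ normOne σ := fun k => by
        rw [hd0]
        rcases eq_or_ne k j with rfl | hkj
        · rw [Function.update_self]; exact inv_mem hμ
        rw [Function.update_of_ne hkj]
        rcases eq_or_ne k i with rfl | hki
        · rw [Function.update_self]; exact hμ
        · rw [Function.update_of_ne hki]; exact one_mem _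
      obtain ⟨g, hg, hgb⟩ := exists_diag_tor h P hb 1 hd (by
        rw [Fintype.prod_eq_mul i j (Ne.symm hji) fun k hk => by simp [hd0, Function.update_of_ne, hk.1, hk.2]]
        simp [hd0, Function.update_of_ne (Ne.symm hji), Function.update_self, hx0])
      have hpow := diag_pow h P hb hg hgb
      obtain ⟨g', rfl⟩ := C.surj g
      have key : ∀ r s, β (x * r) (x * s) = β r s := by
        intro r s
        refine zval_inj h P ?_
        have ev := Lb_diag h P C hcen hb hg hgb i r
        have ew := Lb_diag h P C hcen hb hg hgb i s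
        have h1 := Lb_conj h P C hcen hg ev ew
        have hcm : Commute g' (zval h P (Lb h P C hcen (r • b i) (s • b i))) := by
          refine commute_lift_of_pow C hZ ?_ hpF hpow
          obtain ⟨ht, e⟩ := π_Lb h P C hcen (r • b i) (s • b i)
          rw [e, commute_iff_eq, ← mul_inv_eq_iff_eq_mul]
          exact cen_fix h P hg (by simp) ⟨_, ht, rfl⟩
        rw [hcm.eq, mul_inv_cancel_right] at h1
        rw [hβ, bet_apply, bet_apply, h1, hdi]
        simp
      conv_lhs => rw [show s = x * (σ x * s) by rw [← mul_assoc, hx, one_mul]]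
      exact key r (σ x * s)
    have hsub : {x : F | x * σ x = 1} ∪ {0} ⊆ (R : Set F) := by
      rintro x (hx | hx)
      · exact hζ x hx
      · rw [Set.mem_singleton_iff.1 hx]; exact zero_mem R
    have h5 := Set.ncard_le_ncard hsub (Set.toFinite _)
    rw [Set.union_singleton, Set.ncard_insert_of_notMem (by simp) (Set.toFinite _), ← Nat.card_coe_set_eq,
      ← Nat.card_coe_set_eq] at h5
    have h6 := h.invol.card_norm_fibre (μ := 1) one_ne_zero (map_one σ)
    have e7 : Nat.card ({x : F | x * σ x = 1} : Set F) = Nat.card {x : F // x * σ x = 1} := rfl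
    have e8 : Nat.card ((R : Set F) : Type _) = Nat.card R := rfl
    omega
  · push Not at h2
    have hc1 : Fintype.card ι = 1 := Fintype.card_eq_one_iff.2 ⟨i, h2⟩
    have hq : 3 ≤ Nat.card (fixedSub σ) := hex1 hc1
    refine eq_top_iff.2 fun c _ r s => ?_
    obtain ⟨ω, hω⟩ := IsCyclic.exists_generator (α := Fˣ)
    have hoω : orderOf ω = Nat.card (fixedSub σ) ^ 2 - 1 := by
      rw [orderOf_eq_card_of_forall_mem_zpowers hω, Nat.card_units, hF]
    obtain ⟨q, hqdef⟩ : ∃ q, q = Nat.card (fixedSub σ) := ⟨_, rfl⟩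
    rw [← hqdef] at hq hF hoω
    obtain ⟨hA, hB, hC⟩ := exponent_aux hq
    have hσω : σ (ω : F) = ((ω ^ q : Fˣ) : F) := by
      rw [h.invol.apply_eq_pow, Units.val_pow_eq_pow_val, hqdef]
    obtain ⟨dd, hdd⟩ : ∃ dd : Fˣ, dd = ω ^ q * ω⁻¹ := ⟨_, rfl⟩
    have hddn : dd ∈ normOne σ := by
      rw [mem_normOne, hdd, Units.val_mul, map_mul, Units.val_inv_eq_inv_val, map_inv₀, ← hσω, h.invol.invol]
      field_simp
    obtain ⟨g, hg, hgb⟩ := exists_diag_tor h P hb ω (d := fun _ => dd) (fun _ => hddn) (by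
      rw [Finset.prod_const, Finset.card_univ, hc1, pow_one, hσω, hdd, ← Units.val_div_eq_div_val, ← Units.val_mul,
        div_mul_eq_mul_div, mul_comm (ω ^ q), ← mul_assoc, mul_inv_cancel, one_mul, div_self', Units.val_one])
    obtain ⟨g', rfl⟩ := C.surj g
    obtain ⟨ν, hν⟩ : ∃ ν : Fˣ, ν = ω ^ (2 * q - 1) := ⟨_, rfl⟩
    have hνeq : σ (ω : F) * (dd : F) = (ν : F) := by
      rw [hσω, ← Units.val_mul, hν, hdd, ← mul_assoc, ← pow_add]
      congr 1
      rw [show q + q = 2 * q - 1 + 1 by omega, pow_succ, mul_inv_cancel_right]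
    have hνne : ∀ x, ¬ (q ^ 2 - 1) ∣ (2 * q - 1) * x → (ν : F) ^ x ≠ 1 := fun x hx e => hx (by
      rw [← Units.val_pow_eq_pow_val, Units.val_eq_one, hν, ← pow_mul, ← orderOf_dvd_iff_pow_eq_one, hoω] at e
      exact e)
    let D : F →+ F →+ ZQ h P π :=
      AddMonoidHom.mk' (fun r => AddMonoidHom.mk' (fun s => β (c * r) s - β r (σ c * s))
        fun s s' => by rw [mul_add, map_add, map_add]; abel) fun r r' => AddMonoidHom.ext fun s => by
          show β (c * (r + r')) s - β (r + r') (σ c * s) =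
            (β (c * r) s - β r (σ c * s)) + (β (c * r') s - β r' (σ c * s))
          rw [mul_add, map_add, map_add, AddMonoidHom.add_apply, AddMonoidHom.add_apply]
          abel
    have hD : D = 0 := by
      refine biadd_zero hF D ν.ne_zero (fun x hx hxq => hνne _ (hA x hx hxq)) (hνne _ hB) (hνne _ hC) fun r s => ?_
      show β (c * ((ν : F) * r)) ((ν : F) * s) - β ((ν : F) * r) (σ c * ((ν : F) * s)) =
        β (c * r) s - β r (σ c * s)
      have e : ∀ x : F, (((ν : F) * x) • b i : perpP h a f).1 = σ (ω : F) • ap (π g') ((x • b i : perpP h a f) : V) :=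
        fun x => by rw [← hνeq]; exact Lb_diag h P C hcen hb hg hgb i x
      rw [hβ, bet_apply, bet_apply, bet_apply, bet_apply, mul_left_comm c, mul_left_comm (σ c)]
      refine Lb_sub_conj h P C hcen hg (e _) (e _) (e _) (e _) (π_Lb_eq h P C hcen ?_)
      simp [Bb h P C hcen hb, h.invol.invol]
      ring
    exact sub_eq_zero.1 (show D r s = 0 by rw [hD]; rfl)

theorem bet_same (hex1 : Fintype.card ι = 1 → 3 ≤ Nat.card (fixedSub σ))
    (hex : Fintype.card ι = 2 → 3 ≤ Nat.card (fixedSub σ)) (i j : ι) (x : F) :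
    bet h P C hcen b i 1 x = bet h P C hcen b j 1 x := by
  by_cases hij : i = j
  · rw [hij]
  have hker : ∀ (i j : ι) (x : F), π (zval h P (bet h P C hcen b i 1 x - bet h P C hcen b j 1 x)) = 1 :=
    fun i j x => π_Lb_eq h P C hcen (by simp only [Bb h P C hcen hb, if_pos])
  by_cases h3 : ∃ k, k ≠ i ∧ k ≠ j
  · obtain ⟨k, hki, hkj⟩ := h3
    obtain ⟨g, d, hg, hgb, hd, hd1⟩ := exists_perm_tor h P hb (Equiv.swap i j) k
    obtain ⟨g', rfl⟩ := C.surj g
    have e : ∀ (m : ι) (r : F), (((d m : F) * r) • b (Equiv.swap i j m) : perpP h a f).1 =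
        σ (1 : F) • ap (π g') ((r • b m : perpP h a f) : V) := fun m r => by
      rw [Submodule.coe_smul, Submodule.coe_smul, LinearEquiv.map_smul, hgb, map_one, one_smul, smul_smul, mul_comm]
    have hk' : Equiv.swap i j k = k := Equiv.swap_apply_of_ne_of_ne hki hkj
    have h1 := Lb_sub_conj h P C hcen hg (e i 1) (e i x) (e k 1) (e k x) (hker i k x)
    rw [Equiv.swap_apply_left, hk', hd1 i (Ne.symm hki), Units.val_one, one_mul, one_mul, mul_one] at h1
    rw [← bet_apply h P C hcen b, ← bet_apply h P C hcen b, ← bet_apply h P C hcen b,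
      ← bet_apply h P C hcen b, bet_balanced h P C hcen hb hZ hex1 k (d k : F), ← mul_assoc,
      mul_comm (σ _) (d k : F), mem_normOne.1 (hd k), one_mul] at h1
    exact (sub_left_inj.1 h1).symm
  · push Not at h3
    have hc2 : Fintype.card ι = 2 := by
      rw [← Finset.card_univ, Finset.card_eq_two]
      refine ⟨i, j, hij, ?_⟩
      ext y
      simp only [Finset.mem_univ, Finset.mem_insert, Finset.mem_singleton, true_iff]
      exact or_iff_not_imp_left.2 (h3 y)
    have hq := hex hc2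
    obtain ⟨N, hN, hN0, hN1⟩ : ∃ N : F, σ N = N ∧ N ≠ 0 ∧ N ≠ 1 := by
      by_contra hh
      push Not at hh
      have hle : (fixedSub σ : Set F) ⊆ {0, 1} := fun y hy => by
        by_cases hy0 : y = 0
        · exact Or.inl hy0
        · exact Or.inr (hh y hy hy0)
      have h4 := (Set.ncard_le_ncard hle (Set.toFinite _)).trans (Set.ncard_insert_le _ _)
      rw [Set.ncard_singleton, ← Nat.card_coe_set_eq] at h4
      have e8 : Nat.card ((fixedSub σ : Set F) : Type _) = Nat.card (fixedSub σ) := rfl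
      omega
    obtain ⟨l0, hl0⟩ := h.invol.exists_norm_eq hN
    have hl0' : l0 ≠ 0 := fun e => hN0 (by rw [← hl0, e, zero_mul])
    have hσl0 : σ l0 ≠ 0 := fun e => hl0' (IsInvol.apply_eq_zero_iff.1 e)
    obtain ⟨d, hd0⟩ : ∃ d : ι → Fˣ, d = fun m => if m = i then Units.mk0 (σ l0 / l0) (div_ne_zero hσl0 hl0') else 1 :=
      ⟨_, rfl⟩
    have hd : ∀ m, d m ∈ normOne σ := fun m => by
      rw [hd0]; dsimp only; split_ifs
      · rw [mem_normOne, Units.val_mk0, map_div₀, h.invol.invol]; field_simp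
      · exact one_mem _
    obtain ⟨g, hg, hgb⟩ := exists_diag_tor h P hb (Units.mk0 l0 hl0') hd (by
      rw [Fintype.prod_eq_mul i j hij fun y hy => absurd (h3 y hy.1) hy.2]
      simp [hd0, Ne.symm hij]
      field_simp)
    obtain ⟨g', rfl⟩ := C.surj g
    have key : ∀ m x, bet h P C hcen b m (σ l0 * d m * 1) (σ l0 * d m * x) =
        bet h P C hcen b m 1 (N * x) := fun m x => by
      rw [bet_balanced h P C hcen hb hZ hex1, mul_one]
      congr 1
      rw [map_mul, h.invol.invol, ← hl0]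
      linear_combination (l0 * σ l0 * x) * (mem_normOne.1 (hd m))
    have hE : ∀ x, bet h P C hcen b i 1 (N * x) - bet h P C hcen b j 1 (N * x) =
        bet h P C hcen b i 1 x - bet h P C hcen b j 1 x := fun x => by
      rw [← key i x, ← key j x]
      exact Lb_sub_conj h P C hcen hg (Lb_diag h P C hcen hb hg hgb i 1) (Lb_diag h P C hcen hb hg hgb i x)
        (Lb_diag h P C hcen hb hg hgb j 1) (Lb_diag h P C hcen hb hg hgb j x) (hker i j x)
    have h5 := hE (x / (N - 1))
    have hN' : N - 1 ≠ 0 := sub_ne_zero.2 hN1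
    rw [show N * (x / (N - 1)) = x / (N - 1) + x by field_simp; ring, map_add, map_add, add_sub_add_comm] at h5
    exact sub_eq_zero.1 (add_eq_left.1 h5)

/-- the pairing factors through the form -/
theorem Lb_eq (hex1 : Fintype.card ι = 1 → 3 ≤ Nat.card (fixedSub σ))
    (hex2 : Fintype.card ι = 2 → 4 ≤ Nat.card (fixedSub σ)) (i0 : ι) (v w : perpP h a f) :
    Lb h P C hcen v w = bet h P C hcen b i0 1 (B (v : V) w) := by
  conv_lhs => rw [← b.sum_repr v, ← b.sum_repr w]
  rw [map_sum (Lb h P C hcen), AddMonoidHom.finsetSum_apply]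
  rw [show B (v : V) w = ∑ i, σ (b.repr v i) * b.repr w i from
    sum_form (b := b) hb LinearMap.id (fun i => rfl) v w, map_sum]
  refine Finset.sum_congr rfl fun i _ => ?_
  rw [map_sum, Finset.sum_eq_single i (fun j _ hj => Lb_cross h P C hcen hb (fun hc => by have := hex2 hc; omega)
      (Ne.symm hj) _ _) (by simp), ← bet_apply h P C hcen b, bet_balanced h P C hcen hb hZ hex1 i,
    bet_same h P C hcen hb hZ hex1 (fun hc => by have := hex2 hc; omega) i i0]

omit hcen in
/-- the radical has no stem part -/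
theorem good_radical (hex1 : Fintype.card ι = 1 → 3 ≤ Nat.card (fixedSub σ))
    (hex2 : Fintype.card ι = 2 → 4 ≤ Nat.card (fixedSub σ)) : Good π (radical h P) := by
  have hcen : ∀ x y : Γ, π x ∈ cen h P → π y ∈ radical h P → Commute x y := fun x y hx hy =>
    lift_cen_radical h P hb C hex1 hx hy
  obtain ⟨i0⟩ := ‹Nonempty ι›
  obtain ⟨φ, hφ⟩ : ∃ φ, φ = bet h P C hcen b i0 1 := ⟨_, rfl⟩
  let S : Subgroup Γ :=
    { carrier := {x | ∃ c, x = zval h P (φ c)}
      one_mem' := ⟨0, by rw [map_zero, zval_zero]⟩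
      mul_mem' := by
        rintro _ _ ⟨c, rfl⟩ ⟨c', rfl⟩
        exact ⟨c + c', by rw [map_add, zval_add]⟩
      inv_mem' := by
        rintro _ ⟨c, rfl⟩
        exact ⟨-c, by rw [← zero_sub, map_sub, map_zero, zval_sub, zval_zero, one_mul]⟩ }
  intro z hz hz1
  have hle : ⁅(radical h P).comap π, (radical h P).comap π⁆ ≤ S := by
    rw [Subgroup.commutator_le]
    intro x hx y hy
    obtain ⟨v, c, hc, ev⟩ := exists_split h P (show π x ∈ radical h P from hx)
    obtain ⟨w, c', hc', ew⟩ := exists_split h P (show π y ∈ radical h P from hy)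
    refine ⟨B (v : V) w, ?_⟩
    rw [comm_eq_lf h P C hcen hc hc' ev ew, ← zval_Lb h P C hcen, Lb_eq h P C hcen hb hZ hex1 hex2 i0, hφ]
  obtain ⟨c, rfl⟩ := hle hz
  rw [hφ, bet_apply] at hz1 ⊢
  obtain ⟨ht, e⟩ := π_Lb h P C hcen ((1 : F) • b i0) (c • b i0)
  rw [hz1, ← rx_zero h P (hv := zero_mem _) (ht := by simp)] at e
  have e2 := (rx_inj h P e).2
  simp only [Bb h P C hcen hb, if_pos, map_one, one_mul, mul_one] at e2
  obtain ⟨r, hr⟩ := h.invol.exists_norm_eq (show σ c = c from (sub_eq_zero.1 e2.symm))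
  rw [← bet_apply h P C hcen b, ← hr, mul_comm r, ← bet_balanced h P C hcen hb hZ hex1, bet_apply, Lb_self,
    zval_zero]

end CfsgLib.Known.UnitMult
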