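import Cfsg.Agent.Lib.Known.UnitMult.Space

/-!
# The unipotent radical of the stabiliser of an isotropic vector
-/

set_option autoImplicit false
set_option linter.unusedSectionVars false

namespace CfsgLib.Known.UnitMult

open CfsgLib.Classical CfsgLib.Classical.Herm
open CfsgLib.Classical.Herm.IsHerm (restrict restrict_apply)
open scoped commutatorElement

variable {F : Type*} [Field F] {V : Type*} [AddCommGroup V] [Module F V] {σ : F →+* F}
  {B : V →ₛₗ[σ] V →ₗ[F] F}

/-- a hyperbolic pair -/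
structure Pair (B : V →ₛₗ[σ] V →ₗ[F] F) (a f : V) : Prop where
  aa : B a a = 0
  ff : B f f = 0
  af : B a f = 1

variable [Finite F] [FiniteDimensional F V] (h : IsHerm B) {a f : V}
include h

/-- the orthogonal of a pair -/
def perpP (a f : V) : Submodule F V := h.orth (Submodule.span F ({a, f} : Set V))

theorem mem_perpP {v : V} : v ∈ perpP h a f ↔ B a v = 0 ∧ B f v = 0 := by
  rw [perpP, h.mem_orth]
  refine ⟨fun hv => ⟨hv a (Submodule.subset_span (Set.mem_insert a _)),
    hv f (Submodule.subset_span (Set.mem_insert_of_mem a rfl))⟩, fun hv w hw => ?_⟩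
  obtain ⟨r, s, rfl⟩ := Submodule.mem_span_pair.1 hw
  simp [hv.1, hv.2]

variable (P : Pair B a f)
include P

theorem fa : B f a = 1 := by rw [← h.symm, P.af, map_one]

theorem nd_pair : ND B (Submodule.span F ({a, f} : Set V)) := h.pair_nondeg (h.hyperbolic_disc P.aa P.af)

theorem nd_perpP : ND B (perpP h a f) := nd_orth h (nd_pair h P)

theorem finrank_perpP : Module.finrank F (perpP h a f) + 2 = Module.finrank F V := by
  have h1 := h.finrank_orth (nd_pair h P)
  rw [h.pair_finrank (h.hyperbolic_disc P.aa P.af)] at h1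
  rw [perpP]
  omega

theorem va {v : V} (hv : v ∈ perpP h a f) : B v a = 0 := h.eq_zero_symm ((mem_perpP h).1 hv).1

theorem vf {v : V} (hv : v ∈ perpP h a f) : B v f = 0 := h.eq_zero_symm ((mem_perpP h).1 hv).2

theorem pair_decomp (y : V) : ∃ r s : F, ∃ v ∈ perpP h a f, y = r • a + s • f + v := by
  refine ⟨B f y, B a y, y - B f y • a - B a y • f, (mem_perpP h).2 ⟨?_, ?_⟩, by abel⟩
  · simp [P.aa, P.af]
  · simp [fa h P, P.ff]

theorem pair_ext {g g' : HSU B} (ha : ap g a = ap g' a) (hf : ap g f = ap g' f)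
    (hv : ∀ v ∈ perpP h a f, ap g v = ap g' v) : g = g' := ap_ext fun y => by
  obtain ⟨r, s, v, hvD, rfl⟩ := pair_decomp h P y
  simp only [map_add, LinearEquiv.map_smul, ha, hf, hv v hvD]

theorem mem_SW_perpP {g : HSU B} : g ∈ SW h (perpP h a f) ↔ ap g a = a ∧ ap g f = f := by
  rw [mem_SW, perpP, orth_orth h (nd_pair h P)]
  refine ⟨fun hg => ⟨hg a (Submodule.subset_span (Set.mem_insert a _)),
    hg f (Submodule.subset_span (Set.mem_insert_of_mem a rfl))⟩, fun hg w hw => ?_⟩
  obtain ⟨r, s, rfl⟩ := Submodule.mem_span_pair.1 hw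
  simp only [map_add, LinearEquiv.map_smul, hg.1, hg.2]

/-- elements of the radical -/
noncomputable def rx (v : V) (hv : v ∈ perpP h a f) (t : F) (ht : t + σ t = -B v v) : HSU B :=
  ⟨h.eich P.aa ((mem_perpP h).1 hv).1 ht, h.eich_mem P.aa ((mem_perpP h).1 hv).1 ht⟩

variable {v w : V} {hv : v ∈ perpP h a f} {hw : w ∈ perpP h a f} {t s : F} {ht : t + σ t = -B v v}
  {hs : s + σ s = -B w w}

theorem rx_apply (y : V) : ap (rx h P v hv t ht) y = y + B a y • v + (t * B a y - B v y) • a :=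
  h.eich_apply P.aa ((mem_perpP h).1 hv).1 ht y

theorem rx_a : ap (rx h P v hv t ht) a = a := by
  rw [rx_apply, P.aa, va h P hv]
  simp

theorem rx_f : ap (rx h P v hv t ht) f = f + v + t • a := by
  rw [rx_apply, P.af, vf h P hv]
  simp

theorem rx_perp {y : V} (hy : y ∈ perpP h a f) : ap (rx h P v hv t ht) y = y - B v y • a := by
  rw [rx_apply, ((mem_perpP h).1 hy).1]
  simp [sub_eq_add_neg]

theorem rx_congr {v' : V} {t' : F} {hv' : v' ∈ perpP h a f} {ht' : t' + σ t' = -B v' v'} (e1 : v = v')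
    (e2 : t = t') : rx h P v hv t ht = rx h P v' hv' t' ht' := by
  subst e1; subst e2; rfl

theorem rx_inj {v' : V} {t' : F} {hv' : v' ∈ perpP h a f} {ht' : t' + σ t' = -B v' v'}
    (e : rx h P v hv t ht = rx h P v' hv' t' ht') : v = v' ∧ t = t' := by
  have e1 : ap (rx h P v hv t ht) f = ap (rx h P v' hv' t' ht') f := by rw [e]
  rw [rx_f, rx_f] at e1
  have e2 := congrArg (B f) e1
  simp [((mem_perpP h).1 hv).2, ((mem_perpP h).1 hv').2, P.ff, fa h P] at e2
  refine ⟨?_, e2⟩
  rw [e2, add_assoc, add_assoc] at e1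
  exact add_right_cancel (add_left_cancel e1)

theorem rx_trace (hv : v ∈ perpP h a f) (hw : w ∈ perpP h a f) (ht : t + σ t = -B v v)
    (hs : s + σ s = -B w w) : (t + s - B v w) + σ (t + s - B v w) = -B (v + w) (v + w) := by
  rw [map_sub, map_add, h.symm]
  simp only [map_add, LinearMap.add_apply]
  linear_combination ht + hs

theorem rx_mul : rx h P v hv t ht * rx h P w hw s hs =
    rx h P (v + w) (add_mem hv hw) (t + s - B v w) (rx_trace h P hv hw ht hs) := by
  refine pair_ext h P ?_ ?_ fun y hy => ?_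
  · rw [ap_mul, rx_a, rx_a, rx_a]
  · rw [ap_mul, rx_f, map_add, map_add, LinearEquiv.map_smul, rx_f, rx_a, rx_perp h P hw, rx_f]
    module
  · rw [ap_mul, rx_perp h P hy, map_sub, LinearEquiv.map_smul, rx_a, rx_perp h P hy, rx_perp h P hy, add_left]
    module

theorem rx_zero {hv : (0 : V) ∈ perpP h a f} {ht : (0 : F) + σ 0 = -B (0 : V) 0} :
    rx h P 0 hv 0 ht = 1 := ap_ext fun y => by
  rw [rx_apply, zero_left]
  simp

theorem rx_inv : (rx h P v hv t ht)⁻¹ =
    rx h P (-v) (neg_mem hv) (σ t) (by rw [h.invol.invol, add_comm]; simpa using ht) := by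
  refine inv_eq_of_mul_eq_one_right ?_
  rw [rx_mul, ← rx_zero h P (hv := zero_mem _) (ht := by simp)]
  refine rx_congr h P (add_neg_cancel v) ?_
  rw [map_neg]
  linear_combination ht

theorem rx_zero_left_comm {u : F} (hu : u + σ u = -B (0 : V) 0) :
    Commute (rx h P v hv t ht) (rx h P 0 (zero_mem _) u hu) := by
  rw [commute_iff_eq, rx_mul, rx_mul]
  refine rx_congr h P (by rw [add_zero, zero_add]) ?_
  rw [map_zero, zero_left]
  ring

theorem rx_comm : ⁅rx h P v hv t ht, rx h P w hw s hs⁆ =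
    rx h P 0 (zero_mem _) (B w v - B v w) (by rw [map_sub, h.symm, h.symm, zero_left]; ring) := by
  rw [commutatorElement_def, mul_inv_eq_iff_eq_mul, mul_inv_eq_iff_eq_mul, rx_mul, rx_mul, rx_mul]
  refine rx_congr h P (by abel) ?_
  simp only [zero_add, zero_left]
  ring

/-- conjugation by an element fixing both lines -/
theorem rx_conj {g : HSU B} {l : F} (hl : l ≠ 0) (hga : ap g a = l • a) (hgf : ap g f = (σ l)⁻¹ • f) :
    ∃ (hv' : σ l • ap g v ∈ perpP h a f) (ht' : l * σ l * t + σ (l * σ l * t) = -B (σ l • ap g v) (σ l • ap g v)),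
      g * rx h P v hv t ht * g⁻¹ = rx h P _ hv' (l * σ l * t) ht' := by
  have hσl : σ l ≠ 0 := fun e => hl (IsInvol.apply_eq_zero_iff.1 e)
  have hD : ∀ y ∈ perpP h a f, ap g y ∈ perpP h a f := fun y hy => by
    have e1 : B (ap g a) (ap g y) = 0 := (ap_form g a y).trans ((mem_perpP h).1 hy).1
    have e2 : B (ap g f) (ap g y) = 0 := (ap_form g f y).trans ((mem_perpP h).1 hy).2
    rw [hga, smul_left, mul_eq_zero] at e1
    rw [hgf, smul_left, mul_eq_zero] at e2
    exact (mem_perpP h).2 ⟨e1.resolve_left hσl,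
      e2.resolve_left (fun e => inv_ne_zero hσl (IsInvol.apply_eq_zero_iff.1 e))⟩
  refine ⟨Submodule.smul_mem _ _ (hD v hv), ?_, ?_⟩
  · rw [map_mul, map_mul, h.invol.invol, IsHerm.smul_self, h.invol.invol, ap_form]
    linear_combination (l * σ l) * ht
  rw [mul_inv_eq_iff_eq_mul]
  refine pair_ext h P ?_ ?_ fun y hy => ?_
  · rw [ap_mul, ap_mul, rx_a, hga, LinearEquiv.map_smul, rx_a]
  · rw [ap_mul, ap_mul, rx_f, hgf, map_add, map_add, LinearEquiv.map_smul, LinearEquiv.map_smul, hga, hgf, rx_f,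
      smul_add, smul_add, smul_smul, smul_smul, smul_smul]
    congr 2
    · rw [inv_mul_cancel₀ hσl, one_smul]
    · field_simp
  · rw [ap_mul, ap_mul, rx_perp h P hy, map_sub, LinearEquiv.map_smul, hga, rx_perp h P (hD y hy), smul_left,
      h.invol.invol, ap_form, smul_smul, mul_comm l]

/-- the radical -/
noncomputable def radical : Subgroup (HSU B) where
  carrier := {g | ∃ (v : V) (hv : v ∈ perpP h a f) (t : F) (ht : t + σ t = -B v v), g = rx h P v hv t ht}
  one_mem' := ⟨0, zero_mem _, 0, by simp, (rx_zero h P).symm⟩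
  mul_mem' := by
    rintro _ _ ⟨v, hv, t, ht, rfl⟩ ⟨w, hw, s, hs, rfl⟩
    exact ⟨_, _, _, _, rx_mul h P⟩
  inv_mem' := by
    rintro _ ⟨v, hv, t, ht, rfl⟩
    exact ⟨_, _, _, _, rx_inv h P⟩

theorem rx_mem : rx h P v hv t ht ∈ radical h P := ⟨v, hv, t, ht, rfl⟩

theorem radical_inf : radical h P ⊓ SW h (perpP h a f) = ⊥ := by
  refine eq_bot_iff.2 ?_
  rintro _ ⟨⟨v, hv, t, ht, rfl⟩, hg⟩
  have hf : f + v + t • a = f := by rw [← rx_f h P (hv := hv) (ht := ht)]; exact ((mem_SW_perpP h P).1 hg).2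
  rw [add_assoc, add_eq_left] at hf
  have e := congrArg (B f) hf
  simp [((mem_perpP h).1 hv).2, fa h P] at e
  subst e
  rw [zero_smul, add_zero] at hf
  subst hf
  exact Subgroup.mem_bot.2 (rx_zero h P)

/-- an element fixing the isotropic vector -/
theorem stab_decomp {g : HSU B} (hg : ap g a = a) :
    ∃ (v : V) (hv : v ∈ perpP h a f) (t : F) (ht : t + σ t = -B v v) (k : HSU B),
      k ∈ SW h (perpP h a f) ∧ g = rx h P v hv t ht * k ∧
      ∀ (W : Submodule F V), a ∈ W → f ∈ W → g ∈ SW h W → ND B W → v ∈ W := by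
  obtain ⟨r, s, v, hv, e⟩ := pair_decomp h P (ap g f)
  have e1 : B a (ap g f) = 1 := by conv_lhs => rw [← hg]
                                   rw [ap_form, P.af]
  rw [e] at e1
  simp [P.aa, P.af, ((mem_perpP h).1 hv).1] at e1
  subst e1
  rw [one_smul] at e
  have e2 : B (ap g f) (ap g f) = 0 := by rw [ap_form, P.ff]
  rw [e] at e2
  simp [P.aa, P.af, P.ff, fa h P, va h P hv, vf h P hv, ((mem_perpP h).1 hv).1, ((mem_perpP h).1 hv).2] at e2
  have ht : r + σ r = -B v v := by linear_combination e2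
  refine ⟨v, hv, r, ht, (rx h P v hv r ht)⁻¹ * g, ?_, (mul_inv_cancel_left _ _).symm, fun W haW hfW hgW hW => ?_⟩
  · rw [mem_SW_perpP h P]
    refine ⟨?_, ?_⟩
    · rw [ap_mul, hg]
      conv_lhs => arg 2; rw [← rx_a h P (hv := hv) (ht := ht)]
      rw [ap_inv_ap]
    · rw [ap_mul, e, show r • a + f + v = f + v + r • a by abel, ← rx_f h P (hv := hv) (ht := ht), ap_inv_ap]
  · have := SW_map h hW hgW hfW
    rw [e] at this
    exact (Submodule.add_mem_iff_right W (add_mem (W.smul_mem r haW) hfW)).1 this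

theorem rx_mem_SW {W : Submodule F V} (haW : a ∈ W) (hvW : v ∈ W) : rx h P v hv t ht ∈ SW h W := by
  intro u hu
  rw [rx_apply, h.mem_orth.1 hu a haW, h.mem_orth.1 hu v hvW]
  simp

end CfsgLib.Known.UnitMult
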