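import Cfsg.Agent.Lib.Classical.Unitary.Isotropic
import Cfsg.Agent.Lib.Classical.Unitary.Structure

/-!
# Special unitary groups of nondegenerate subspaces inside the special unitary group
-/

set_option autoImplicit false
set_option linter.unusedSectionVars false

namespace CfsgLib.Known.UnitMult

open CfsgLib.Classical CfsgLib.Classical.Herm
open CfsgLib.Classical.Herm.IsHerm (restrict restrict_apply)

variable {F : Type*} [Field F] {V : Type*} [AddCommGroup V] [Module F V] {σ : F →+* F}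
  {B : V →ₛₗ[σ] V →ₗ[F] F}

/-- the linear map of a special isometry -/
abbrev ap (g : HSU B) : V ≃ₗ[F] V := ((g : HU B) : V ≃ₗ[F] V)

@[simp] theorem ap_mul (g g' : HSU B) (x : V) : ap (g * g') x = ap g (ap g' x) := rfl

@[simp] theorem ap_one (x : V) : ap (1 : HSU B) x = x := rfl

@[simp] theorem ap_inv_ap (g : HSU B) (x : V) : ap g⁻¹ (ap g x) = x := by
  rw [← ap_mul, inv_mul_cancel, ap_one]

@[simp] theorem ap_ap_inv (g : HSU B) (x : V) : ap g (ap g⁻¹ x) = x := by
  rw [← ap_mul, mul_inv_cancel, ap_one]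

theorem ap_form (g : HSU B) (u v : V) : B (ap g u) (ap g v) = B u v := HU.map_eq (g : HU B) u v

theorem ap_ext {g g' : HSU B} (h : ∀ x, ap g x = ap g' x) : g = g' :=
  Subtype.ext (Subtype.ext (LinearEquiv.ext h))

theorem ap_pow_fix {g : HSU B} {x : V} (h : ap g x = x) : ∀ n : ℕ, ap (g ^ n) x = x := by
  intro n
  induction n with
  | zero => simp
  | succ n ih => rw [pow_succ, ap_mul, h, ih]

/-- nondegenerate subspaces -/
def ND (B : V →ₛₗ[σ] V →ₗ[F] F) (W : Submodule F V) : Prop := ∀ x ∈ W, (∀ y ∈ W, B x y = 0) → x = 0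

/-- the pointwise stabiliser of a set -/
def fixOn (S : Set V) : Subgroup (HSU B) where
  carrier := {g | ∀ u ∈ S, ap g u = u}
  one_mem' := fun u _ => ap_one u
  mul_mem' := fun {a b} ha hb u hu => by rw [ap_mul, hb u hu, ha u hu]
  inv_mem' := fun {a} ha u hu => by conv_lhs => rw [← ha u hu, ap_inv_ap]

theorem mem_fixOn {S : Set V} {g : HSU B} : g ∈ fixOn S ↔ ∀ u ∈ S, ap g u = u := Iff.rfl

/-- the stabiliser of a subspace -/
def stab (W : Submodule F V) : Subgroup (HSU B) where
  carrier := {g | ∀ x, x ∈ W ↔ ap g x ∈ W}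
  one_mem' := fun _ => Iff.rfl
  mul_mem' := fun {a b} ha hb x => (hb x).trans (ha _)
  inv_mem' := fun {a} ha x => by conv_lhs => rw [← ap_ap_inv a x, ← ha]

theorem mem_stab_of_le [FiniteDimensional F V] {W : Submodule F V} {g : HSU B} (h : ∀ x ∈ W, ap g x ∈ W) :
    g ∈ stab (B := B) W := by
  have hle : W.map (ap g : V →ₗ[F] V) ≤ W := by rintro _ ⟨x, hx, rfl⟩; exact h x hx
  have he : W.map (ap g : V →ₗ[F] V) = W :=
    Submodule.eq_of_le_of_finrank_eq hle (LinearEquiv.finrank_map_eq _ W)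
  refine fun x => ⟨h x, fun hx => ?_⟩
  rw [← he] at hx
  obtain ⟨y, hy, e⟩ := hx
  rwa [← (ap g).injective e]

/-- the determinant on an invariant subspace -/
noncomputable def dl (W : Submodule F V) : stab (B := B) W →* Fˣ where
  toFun g := LinearEquiv.det (restrictEquiv (ap (g : HSU B)) W g.2)
  map_one' := by
    rw [← map_one (LinearEquiv.det : (W ≃ₗ[F] W) →* Fˣ)]
    congr 1
  map_mul' a b := by
    rw [← map_mul]
    congr 1

theorem dl_eq_one_of_fix {W : Submodule F V} {g : stab (B := B) W} (h : ∀ x ∈ W, ap (g : HSU B) x = x) :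
    dl W g = 1 := by
  show LinearEquiv.det _ = 1
  rw [show restrictEquiv (ap (g : HSU B)) W g.2 = 1 from LinearEquiv.ext fun x => Subtype.ext (h x x.2), map_one]

variable [Finite F] [FiniteDimensional F V] (h : IsHerm B)
include h

/-- isometries supported on a nondegenerate subspace -/
noncomputable def SW (W : Submodule F V) : Subgroup (HSU B) := fixOn (h.orth W : Set V)

theorem mem_SW {W : Submodule F V} {g : HSU B} : g ∈ SW h W ↔ ∀ u ∈ h.orth W, ap g u = u := Iff.rfl

theorem mem_orth_symm {W : Submodule F V} {x y : V} (hx : x ∈ W) (hy : y ∈ h.orth W) : B y x = 0 :=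
  h.eq_zero_symm (h.mem_orth.1 hy x hx)

theorem orth_anti {W W' : Submodule F V} (hle : W ≤ W') : h.orth W' ≤ h.orth W := fun _ hy =>
  h.mem_orth.2 fun w hw => h.mem_orth.1 hy w (hle hw)

theorem le_orth_orth (W : Submodule F V) : W ≤ h.orth (h.orth W) := fun _ hz =>
  h.mem_orth.2 fun _ hw => mem_orth_symm h hz hw

theorem orth_orth {W : Submodule F V} (hW : ND B W) : h.orth (h.orth W) = W := by
  refine (Submodule.eq_of_le_of_finrank_eq (le_orth_orth h W) ?_).symm
  have h1 := h.finrank_orth hW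
  have h2 := h.finrank_orth (h.orth_nondeg hW)
  omega

theorem sup_orth {W : Submodule F V} (hW : ND B W) : W ⊔ h.orth W = ⊤ := (h.isCompl_orth hW).sup_eq_top

theorem nd_top : ND B (⊤ : Submodule F V) := fun x _ hx => h.nondeg x fun y => hx y Submodule.mem_top

theorem nd_bot : ND B (⊥ : Submodule F V) := fun _ hx _ => by simpa using hx

theorem nd_orth {W : Submodule F V} (hW : ND B W) : ND B (h.orth W) := h.orth_nondeg hW

/-- orthogonal sums of nondegenerate subspaces -/
theorem nd_sup {U U' : Submodule F V} (hU : ND B U) (hU' : ND B U') (ho : U' ≤ h.orth U) : ND B (U ⊔ U') := by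
  intro x hx hrad
  obtain ⟨u, hu, v, hv, rfl⟩ := Submodule.mem_sup.1 hx
  have hu0 : u = 0 := hU u hu fun y hy => by
    have := hrad y (Submodule.mem_sup_left hy)
    rwa [add_left, mem_orth_symm h hy (ho hv), add_zero] at this
  have hv0 : v = 0 := hU' v hv fun y hy => by
    have := hrad y (Submodule.mem_sup_right hy)
    rwa [hu0, zero_add] at this
  rw [hu0, hv0, add_zero]

/-- the complement of a nondegenerate subspace inside another -/
theorem nd_inf {U W : Submodule F V} (hU : ND B U) (hW : ND B W) (hle : U ≤ W) :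
    ND B (W ⊓ h.orth U) ∧ U ⊔ (W ⊓ h.orth U) = W := by
  have hsup : U ⊔ (W ⊓ h.orth U) = W := by
    rw [inf_comm, ← sup_inf_assoc_of_le _ hle, sup_orth h hU, top_inf_eq]
  refine ⟨fun x hx hrad => ?_, hsup⟩
  refine hW x hx.1 fun y hy => ?_
  rw [← hsup] at hy
  obtain ⟨u, hu, v, hv, rfl⟩ := Submodule.mem_sup.1 hy
  rw [map_add, mem_orth_symm h hu hx.2, hrad v hv, add_zero]

theorem finrank_inf {U W : Submodule F V} (hU : ND B U) (hW : ND B W) (hle : U ≤ W) :
    Module.finrank F U + Module.finrank F (W ⊓ h.orth U : Submodule F V) = Module.finrank F W := by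
  have h1 := Submodule.finrank_sup_add_finrank_inf_eq U (W ⊓ h.orth U)
  have h2 : U ⊓ (W ⊓ h.orth U) = ⊥ := by
    rw [eq_bot_iff, ← (h.isCompl_orth hU).disjoint.eq_bot]
    exact inf_le_inf_left _ inf_le_right
  rw [(nd_inf h hU hW hle).2, h2, finrank_bot] at h1
  omega

theorem SW_mono {W W' : Submodule F V} (hle : W ≤ W') : SW h W ≤ SW h W' := fun _ hg u hu =>
  hg u (orth_anti h hle hu)

theorem SW_top : SW h (⊤ : Submodule F V) = ⊤ := by
  refine eq_top_iff.2 fun g _ u hu => ?_
  have : u = 0 := h.nondeg u fun y => mem_orth_symm h Submodule.mem_top hu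
  rw [this, map_zero]

theorem SW_bot : SW h (⊥ : Submodule F V) = ⊥ := by
  refine eq_bot_iff.2 fun g hg => Subgroup.mem_bot.2 (ap_ext fun x => ?_)
  refine (hg x (h.mem_orth.2 fun w hw => ?_)).trans (ap_one x).symm
  rw [(Submodule.mem_bot F).1 hw, zero_left]

theorem SW_map {W : Submodule F V} (hW : ND B W) {g : HSU B} (hg : g ∈ SW h W) {x : V} (hx : x ∈ W) :
    ap g x ∈ W := by
  rw [← orth_orth h hW, h.mem_orth]
  intro u hu
  rw [← hg u hu, ap_form]
  exact mem_orth_symm h hx hu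

theorem SW_le_stab {W : Submodule F V} (hW : ND B W) : SW h W ≤ stab W := fun _ hg =>
  mem_stab_of_le fun _ hx => SW_map h hW hg hx

theorem stab_orth {W : Submodule F V} {g : HSU B} (hg : g ∈ stab W) : g ∈ stab (h.orth W) :=
  mem_stab_of_le fun x hx => h.mem_orth.2 fun w hw => by
    rw [← ap_ap_inv g w, ap_form]
    exact h.mem_orth.1 hx _ (((stab W).inv_mem hg w).1 hw)

theorem stab_inf {U W : Submodule F V} {g : HSU B} (hU : g ∈ stab U) (hW : g ∈ stab W) : g ∈ stab (W ⊓ U) :=
  fun x => by rw [Submodule.mem_inf, Submodule.mem_inf, hW x, hU x]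

theorem eq_one_of_fix {W : Submodule F V} (hW : ND B W) {g : HSU B} (hg : g ∈ SW h W)
    (hfix : ∀ x ∈ W, ap g x = x) : g = 1 := ap_ext fun x => by
  obtain ⟨w, u, rfl⟩ := CfsgLib.Classical.exists_decomp (h.isCompl_orth hW) x
  rw [map_add, hfix w w.2, hg u u.2, ap_one]

/-- supports on orthogonal subspaces commute -/
theorem commute_of_orth {U U' : Submodule F V} (hU : ND B U) (ho : U' ≤ h.orth U)
    {g g' : HSU B} (hg : g ∈ SW h U) (hg' : g' ∈ SW h U') : Commute g g' := by
  have ho' : U ≤ h.orth U' := (le_orth_orth h U).trans (orth_anti h ho)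
  have hs : g' ∈ stab U := mem_stab_of_le fun x hx => by rwa [hg' x (ho' hx)]
  refine ap_ext fun x => ?_
  obtain ⟨w, u, rfl⟩ := CfsgLib.Classical.exists_decomp (h.isCompl_orth hU) x
  rw [ap_mul, ap_mul]
  simp only [map_add]
  rw [hg u u.2, hg' w (ho' w.2), hg' _ (ho' (SW_map h hU hg w.2)), hg _ ((stab_orth h hs u).1 u.2)]

theorem disjoint_SW {U U' : Submodule F V} (hU : ND B U) (ho : U' ≤ h.orth U) :
    SW h U ⊓ SW h U' = ⊥ := by
  refine eq_bot_iff.2 fun g hg => Subgroup.mem_bot.2 (eq_one_of_fix h hU hg.1 fun x hx => ?_)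
  exact hg.2 x (orth_anti h ho (le_orth_orth h U hx))

/-- extending by the identity -/
noncomputable def incl {W : Submodule F V} (hW : ND B W) : HU (restrict B W) →* HU B :=
  (sumHom (f := fun u v => B u v) (h.isCompl_orth hW) (h.add_add_orth W)).comp
    (MonoidHom.inl (HU (restrict B W)) (HU (restrict B (h.orth W))))

theorem incl_apply {W : Submodule F V} (hW : ND B W) (b : HU (restrict B W)) (w : W) (u : h.orth W) :
    (incl h hW b : V ≃ₗ[F] V) ((w : V) + u) = ((b : W ≃ₗ[F] W) w : V) + u :=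
  sumHom_apply (f := fun u v => B u v) (h.isCompl_orth hW) (h.add_add_orth W) (b, 1) w u

theorem det_incl {W : Submodule F V} (hW : ND B W) (b : HU (restrict B W)) :
    HU.det B (incl h hW b) = HU.det (restrict B W) b := by
  ext
  show ((LinearEquiv.det (incl h hW b : V ≃ₗ[F] V) : Fˣ) : F) =
    ((LinearEquiv.det (b : W ≃ₗ[F] W) : Fˣ) : F)
  rw [LinearEquiv.coe_det, LinearEquiv.coe_det]
  have hE : ((incl h hW b : V ≃ₗ[F] V) : V →ₗ[F] V) =
      ((W.prodEquivOfIsCompl _ (h.isCompl_orth hW)) : (W × h.orth W) →ₗ[F] V) ∘ₗ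
        (LinearMap.prodMap ((b : W ≃ₗ[F] W) : W →ₗ[F] W) LinearMap.id) ∘ₗ
        ((W.prodEquivOfIsCompl _ (h.isCompl_orth hW)).symm : V →ₗ[F] W × h.orth W) :=
    LinearMap.ext fun y => rfl
  rw [hE, LinearMap.det_conj, LinearMap.det_prodMap, LinearMap.det_id, mul_one]

/-- the special isometries of a subspace inside the special unitary group -/
noncomputable def inclS {W : Submodule F V} (hW : ND B W) : HSU (restrict B W) →* HSU B :=
  ((incl h hW).comp (HSU (restrict B W)).subtype).codRestrict (HSU B) fun b => by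
    rw [MonoidHom.mem_ker]
    show HU.det B (incl h hW (b : HU (restrict B W))) = 1
    rw [det_incl]
    exact b.2

theorem inclS_apply {W : Submodule F V} (hW : ND B W) (b : HSU (restrict B W)) (w : W) (u : h.orth W) :
    ap (inclS h hW b) ((w : V) + u) = ((ap b w : W) : V) + u := incl_apply h hW b w u

theorem inclS_apply_left {W : Submodule F V} (hW : ND B W) (b : HSU (restrict B W)) (w : W) :
    ap (inclS h hW b) w = ((ap b w : W) : V) := by simpa using inclS_apply h hW b w 0

theorem inclS_mem {W : Submodule F V} (hW : ND B W) (b : HSU (restrict B W)) : inclS h hW b ∈ SW h W :=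
  fun u hu => by simpa using inclS_apply h hW b 0 ⟨u, hu⟩

/-- the part of an isometry on an invariant subspace -/
theorem exists_part {W : Submodule F V} (hW : ND B W) {g : HSU B} (hg : g ∈ stab W) (hd : dl W ⟨g, hg⟩ = 1) :
    ∃ g' ∈ SW h W, ∀ x ∈ W, ap g' x = ap g x := by
  obtain ⟨b, hb⟩ : ∃ b : HSU (restrict B W), ∀ x : W, ((ap b x : W) : V) = ap g x :=
    ⟨⟨⟨restrictEquiv (ap g) W hg, fun u v => ap_form g (u : V) v⟩, hd⟩, fun x => rfl⟩
  exact ⟨inclS h hW b, inclS_mem h hW b, fun x hx => by rw [← hb ⟨x, hx⟩, ← inclS_apply_left]⟩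

theorem exists_inclS_eq {W : Submodule F V} (hW : ND B W) {g : HSU B} (hg : g ∈ SW h W) :
    ∃ b, inclS h hW b = g := by
  have hgs := SW_le_stab h hW hg
  obtain ⟨b', hb'⟩ : ∃ b' : HU (restrict B W), ∀ x : W, (((b' : W ≃ₗ[F] W) x : W) : V) = ap g x :=
    ⟨⟨restrictEquiv (ap g) W hgs, fun u v => ap_form g (u : V) v⟩, fun x => rfl⟩
  have he : incl h hW b' = (g : HU B) := by
    ext x
    obtain ⟨w, u, rfl⟩ := CfsgLib.Classical.exists_decomp (h.isCompl_orth hW) x
    rw [incl_apply, hb', map_add]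
    exact congrArg _ (hg u u.2).symm
  have hd : b' ∈ HSU (restrict B W) := by
    rw [MonoidHom.mem_ker, ← det_incl h hW, he]
    exact g.2
  exact ⟨⟨b', hd⟩, Subtype.ext he⟩

theorem dl_of_mem_SW {W : Submodule F V} (hW : ND B W) {g : HSU B} (hg : g ∈ SW h W) :
    dl W ⟨g, SW_le_stab h hW hg⟩ = 1 := by
  obtain ⟨b, rfl⟩ := exists_inclS_eq h hW hg
  refine Eq.trans ?_ b.2
  show LinearEquiv.det _ = LinearEquiv.det _
  congr 1
  exact LinearEquiv.ext fun x => Subtype.ext (inclS_apply_left h hW b x)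

theorem dl_norm {W : Submodule F V} (hW : ND B W) {g : HSU B} (hg : g ∈ stab W) :
    (dl W ⟨g, hg⟩ : F) * σ (dl W ⟨g, hg⟩ : F) = 1 :=
  (h.restrict_herm hW).det_norm_one ⟨restrictEquiv (ap g) W hg, fun u v => ap_form g (u : V) v⟩

theorem SW_eq_bot {W : Submodule F V} (hW : ND B W) (h1 : Module.finrank F W ≤ 1) : SW h W = ⊥ := by
  refine eq_bot_iff.2 fun g hg => Subgroup.mem_bot.2 (eq_one_of_fix h hW hg fun x hx => ?_)
  by_cases hx0 : (⟨x, hx⟩ : W) = 0
  · rw [show x = 0 from congrArg Subtype.val hx0, map_zero]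
  obtain ⟨b, rfl⟩ := exists_inclS_eq h hW hg
  have hd : (LinearMap.det ((ap b : W ≃ₗ[F] W) : W →ₗ[F] W)) = 1 := by
    rw [← LinearEquiv.coe_det]
    exact congrArg Units.val b.2
  have hpos : 0 < Module.finrank F W :=
    Module.finrank_pos_iff_exists_ne_zero.2 ⟨_, hx0⟩
  obtain ⟨c, hc⟩ : ∃ c : F, ∀ w : W, ap b w = c • w := by
    have h1' : Module.finrank F W = 1 := by omega
    obtain ⟨c, hc⟩ := exists_smul_eq_of_finrank_eq_one h1' hx0 (ap b ⟨x, hx⟩)
    refine ⟨c, fun w => ?_⟩
    obtain ⟨d, rfl⟩ := exists_smul_eq_of_finrank_eq_one h1' hx0 w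
    rw [map_smul, ← hc, smul_comm]
  have hc1 : c = 1 := by
    rw [show ((ap b : W ≃ₗ[F] W) : W →ₗ[F] W) = c • LinearMap.id from LinearMap.ext hc, LinearMap.det_smul,
      LinearMap.det_id, mul_one, show Module.finrank F W = 1 by omega, pow_one] at hd
    exact hd
  rw [inclS_apply_left h hW b ⟨x, hx⟩, hc, hc1, one_smul]

end CfsgLib.Known.UnitMult
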