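import Cfsg.Agent.Lib.Known.UnitMult.Radical
import Cfsg.Agent.Lib.Known.UnitMult.Mon

/-!
# Elements fixing both lines of a hyperbolic pair
-/

set_option autoImplicit false
set_option linter.unusedSectionVars false

namespace CfsgLib.Known.UnitMult

open CfsgLib.Classical CfsgLib.Classical.Herm
open CfsgLib.Classical.Herm.IsHerm (restrict restrict_apply)

variable {F : Type*} [Field F] {V : Type*} [AddCommGroup V] [Module F V] {σ : F →+* F}
  {B : V →ₛₗ[σ] V →ₗ[F] F}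

/-- both lines are fixed -/
def IsTor (a f : V) (g : HSU B) (l : F) : Prop := l ≠ 0 ∧ ap g a = l • a ∧ ap g f = (σ l)⁻¹ • f

variable [Finite F] [FiniteDimensional F V] (h : IsHerm B)
include h

theorem exists_scalU {U : Submodule F V} (hU : ND B U) {μ : Fˣ} (hμ : μ ∈ normOne σ) :
    ∃ g : HU B, HU.det B g = μ ^ Module.finrank F U ∧ (∀ x ∈ U, (g : V ≃ₗ[F] V) x = (μ : F) • x) ∧
      ∀ x ∈ h.orth U, (g : V ≃ₗ[F] V) x = x := by
  have hp : ∀ x y, restrict B U ((μ : F) • x) ((μ : F) • y) = restrict B U x y := fun x y => by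
    rw [restrict_apply, restrict_apply, Submodule.coe_smul, Submodule.coe_smul, smul_left, smul_right, ← mul_assoc,
      mul_comm (σ _), mem_normOne.1 hμ, one_mul]
  obtain ⟨b, hb⟩ : ∃ b : HU (restrict B U), ∀ x : U, (b : U ≃ₗ[F] U) x = (μ : F) • x :=
    ⟨⟨LinearEquiv.smulOfUnit μ, hp⟩, fun x => rfl⟩
  refine ⟨incl h hU b, ?_, fun x hx => ?_, fun x hx => ?_⟩
  · rw [det_incl]
    ext
    show ((LinearEquiv.det (b : U ≃ₗ[F] U) : Fˣ) : F) = _
    rw [LinearEquiv.coe_det, show ((b : U ≃ₗ[F] U) : U →ₗ[F] U) = (μ : F) • LinearMap.id from LinearMap.ext hb,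
      LinearMap.det_smul, LinearMap.det_id, mul_one, Units.val_pow_eq_pow_val]
  · have := incl_apply h hU b ⟨x, hx⟩ 0
    rw [Submodule.coe_zero, add_zero, add_zero, hb, Submodule.coe_smul] at this
    exact this
  · have := incl_apply h hU b 0 ⟨x, hx⟩
    rw [Submodule.coe_zero, zero_add, map_zero, Submodule.coe_zero, zero_add] at this
    exact this

variable {a f : V} (P : Pair B a f)
include P

theorem ne_zero_left : a ≠ 0 := fun e => by simpa [e, P.ff] using P.af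

theorem exists_dilU {l : F} (hl : l ≠ 0) :
    ∃ g : HU B, ((HU.det B g : Fˣ) : F) = l / σ l ∧ (g : V ≃ₗ[F] V) a = l • a ∧
      (g : V ≃ₗ[F] V) f = (σ l)⁻¹ • f ∧ ∀ v ∈ perpP h a f, (g : V ≃ₗ[F] V) v = v := by
  obtain ⟨g, hdet, hg⟩ := h.exists_dilation P.aa P.ff P.af hl
  have hσl : σ l ≠ 0 := fun e => hl (IsInvol.apply_eq_zero_iff.1 e)
  have hga : (g : V ≃ₗ[F] V) a = l • a := by
    rw [hg a P.aa, fa h P, mul_one, sub_smul, one_smul, add_sub_cancel]
  have hgv : ∀ v ∈ perpP h a f, (g : V ≃ₗ[F] V) v = v := fun v hv => by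
    rw [hg v ((mem_perpP h).1 hv).1, ((mem_perpP h).1 hv).2, mul_zero, zero_smul, add_zero]
  obtain ⟨r, s, v, hv, e⟩ := pair_decomp h P ((g : V ≃ₗ[F] V) f)
  have e1 := HU.map_eq g a f
  rw [hga, e, P.af, smul_left, map_add, map_add, smul_right, smul_right, P.aa, P.af, ((mem_perpP h).1 hv).1,
    mul_zero, zero_add, mul_one, add_zero] at e1
  have hs : s = (σ l)⁻¹ := eq_inv_of_mul_eq_one_right e1
  have hv0 : v = 0 := nd_perpP h P v hv fun w hw => by
    have h2 := HU.map_eq g f w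
    rw [hgv w hw, e, add_left, add_left, smul_left, smul_left, ((mem_perpP h).1 hw).1, ((mem_perpP h).1 hw).2,
      mul_zero, mul_zero, zero_add, zero_add] at h2
    exact h2
  rw [hv0, add_zero, hs] at e
  have e2 := HU.map_eq g f f
  rw [e, P.ff] at e2
  simp [P.aa, P.af, P.ff, fa h P, map_inv₀, h.invol.invol] at e2
  have hc : -(r / l) + σ (-(r / l)) = 0 := by
    rw [map_neg, map_div₀]
    field_simp at e2 ⊢
    linear_combination (-1 : F) * e2
  refine ⟨g * h.tr P.aa hc, ?_, ?_, ?_, fun w hw => ?_⟩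
  · rw [map_mul, h.det_tr P.aa hc, mul_one, hdet]
  · show (g : V ≃ₗ[F] V) ((h.tr P.aa hc : V ≃ₗ[F] V) a) = _
    rw [h.tr_apply, P.aa, mul_zero, zero_smul, add_zero, hga]
  · show (g : V ≃ₗ[F] V) ((h.tr P.aa hc : V ≃ₗ[F] V) f) = _
    rw [h.tr_apply, P.af, mul_one, map_add, LinearEquiv.map_smul, hga, e, smul_smul, neg_mul,
      div_mul_cancel₀ r hl, neg_smul]
    abel
  · show (g : V ≃ₗ[F] V) ((h.tr P.aa hc : V ≃ₗ[F] V) w) = _
    rw [h.tr_apply, ((mem_perpP h).1 hw).1, mul_zero, zero_smul, add_zero, hgv w hw]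

theorem pair_fix_orth {U : Submodule F V} (hU : U ≤ perpP h a f) : a ∈ h.orth U ∧ f ∈ h.orth U :=
  ⟨h.mem_orth.2 fun _ hw => va h P (hU hw), h.mem_orth.2 fun _ hw => vf h P (hU hw)⟩

/-- a scalar on each of two parts -/
theorem exists_scal_tor {U : Submodule F V} (hU : ND B U) (hle : U ≤ perpP h a f) {l μ μ' : Fˣ}
    (hμ : μ ∈ normOne σ) (hμ' : μ' ∈ normOne σ)
    (hdet : (l : F) / σ (l : F) * ((μ : F) ^ Module.finrank F U *
      (μ' : F) ^ Module.finrank F (perpP h a f ⊓ h.orth U : Submodule F V)) = 1) :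
    ∃ g : HSU B, IsTor a f g l ∧ (∀ x ∈ U, ap g x = (μ : F) • x) ∧
      ∀ x ∈ perpP h a f ⊓ h.orth U, ap g x = (μ' : F) • x := by
  obtain ⟨g0, d0, g0a, g0f, g0v⟩ := exists_dilU h P l.ne_zero
  obtain ⟨g1, d1, g1U, g1o⟩ := exists_scalU h hU hμ
  obtain ⟨g2, d2, g2U, g2o⟩ := exists_scalU h (nd_inf h hU (nd_perpP h P) hle).1 hμ'
  obtain ⟨ha1, hf1⟩ := pair_fix_orth h P hle
  obtain ⟨ha2, hf2⟩ := pair_fix_orth h P (inf_le_left : perpP h a f ⊓ h.orth U ≤ _)
  refine ⟨⟨g0 * g1 * g2, ?_⟩, ⟨l.ne_zero, ?_, ?_⟩, fun x hx => ?_, fun x hx => ?_⟩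
  · rw [MonoidHom.mem_ker, map_mul, map_mul, d1, d2]
    ext
    rw [Units.val_mul, Units.val_mul, d0, Units.val_pow_eq_pow_val, Units.val_pow_eq_pow_val, Units.val_one,
      mul_assoc, hdet]
  · show (g0 : V ≃ₗ[F] V) ((g1 : V ≃ₗ[F] V) ((g2 : V ≃ₗ[F] V) a)) = _
    rw [g2o a ha2, g1o a ha1, g0a]
  · show (g0 : V ≃ₗ[F] V) ((g1 : V ≃ₗ[F] V) ((g2 : V ≃ₗ[F] V) f)) = _
    rw [g2o f hf2, g1o f hf1, g0f]
  · show (g0 : V ≃ₗ[F] V) ((g1 : V ≃ₗ[F] V) ((g2 : V ≃ₗ[F] V) x)) = _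
    rw [g2o x (orth_anti h inf_le_right (le_orth_orth h U hx)), g1U x hx, LinearEquiv.map_smul,
      g0v x (hle hx)]
  · show (g0 : V ≃ₗ[F] V) ((g1 : V ≃ₗ[F] V) ((g2 : V ≃ₗ[F] V) x)) = _
    rw [g2U x hx, LinearEquiv.map_smul, g1o x hx.2, LinearEquiv.map_smul, g0v x hx.1]

variable {ι : Type*} [Fintype ι] [DecidableEq ι] {b : Module.Basis ι F (perpP h a f)}
  (hb : ∀ i j, restrict B (perpP h a f) (b i) (b j) = if i = j then 1 else 0)
include hb

/-- diagonal elements -/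
theorem exists_diag_tor (l : Fˣ) {d : ι → Fˣ} (hd : ∀ i, d i ∈ normOne σ)
    (hdet : (l : F) / σ (l : F) * (∏ i, (d i : F)) = 1) :
    ∃ g : HSU B, IsTor a f g l ∧ ∀ i, ap g (b i : V) = (d i : F) • (b i : V) := by
  obtain ⟨g0, d0, g0a, g0f, g0v⟩ := exists_dilU h P l.ne_zero
  have hD := nd_perpP h P
  obtain ⟨t, ht⟩ : ∃ t, t = monU (h.restrict_herm hD) hb 1 d hd := ⟨_, rfl⟩
  obtain ⟨ha1, hf1⟩ := pair_fix_orth h P (le_refl (perpP h a f))
  have hfix : ∀ x ∈ h.orth (perpP h a f), (incl h hD t : V ≃ₗ[F] V) x = x := fun x hx => by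
    have := incl_apply h hD t 0 ⟨x, hx⟩
    rw [Submodule.coe_zero, zero_add, map_zero, Submodule.coe_zero, zero_add] at this
    exact this
  refine ⟨⟨g0 * incl h hD t, ?_⟩, ⟨l.ne_zero, ?_, ?_⟩, fun i => ?_⟩
  · rw [MonoidHom.mem_ker, map_mul, det_incl, ht, det_diag]
    ext
    rw [Units.val_mul, d0, Units.coe_prod, Units.val_one, hdet]
  · show (g0 : V ≃ₗ[F] V) ((incl h hD t : V ≃ₗ[F] V) a) = _
    rw [hfix a ha1, g0a]
  · show (g0 : V ≃ₗ[F] V) ((incl h hD t : V ≃ₗ[F] V) f) = _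
    rw [hfix f hf1, g0f]
  · show (g0 : V ≃ₗ[F] V) ((incl h hD t : V ≃ₗ[F] V) (b i : V)) = _
    have := incl_apply h hD t (b i) 0
    rw [Submodule.coe_zero, add_zero, add_zero, ht, monU_apply, Equiv.Perm.one_apply, Submodule.coe_smul] at this
    rw [ht, this, LinearEquiv.map_smul, g0v _ (b i).2]

/-- monomial elements -/
theorem exists_perm_tor (π : Equiv.Perm ι) (i₀ : ι) :
    ∃ (g : HSU B) (d : ι → Fˣ), IsTor a f g 1 ∧ (∀ i, ap g (b i : V) = (d i : F) • (b (π i) : V)) ∧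
      (∀ i, d i ∈ normOne σ) ∧ ∀ i, i ≠ i₀ → d i = 1 := by
  have hD := nd_perpP h P
  obtain ⟨t, d, ht, hd, -⟩ := exists_permS (h.restrict_herm hD) hb π i₀
  obtain ⟨ha1, hf1⟩ := pair_fix_orth h P (le_refl (perpP h a f))
  have e1 : ∀ i, ap (inclS h hD t) (b i : V) = (d i : F) • (b (π i) : V) := fun i => by
    rw [inclS_apply_left h hD t (b i), ht, Submodule.coe_smul]
  refine ⟨inclS h hD t, d, ⟨one_ne_zero, ?_, ?_⟩, e1, fun i => ?_, hd⟩
  · rw [one_smul]; exact inclS_mem h hD t a ha1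
  · rw [map_one, inv_one, one_smul]; exact inclS_mem h hD t f hf1
  · have h2 := ap_form (inclS h hD t) (b i : V) (b i)
    have hbi : ∀ j, B (b j : V) (b j) = 1 := fun j => by simpa using hb j j
    rw [e1, smul_left, smul_right, hbi, hbi, mul_one, mul_comm] at h2
    exact mem_normOne.2 h2

omit hb in
theorem pow_pow_fix {g : HSU B} {x : V} {c : F} (hc : c ≠ 0) (hx : ap g x = c • x) :
    ap (g ^ (Nat.card F - 1)) x = x := by
  have key : ∀ n : ℕ, ap (g ^ n) x = c ^ n • x := by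
    intro n
    induction n with
    | zero => simp
    | succ n ih => rw [pow_succ', ap_mul, ih, LinearEquiv.map_smul, hx, smul_smul, ← pow_succ]
  have : Fintype F := Fintype.ofFinite F
  rw [key, Nat.card_eq_fintype_card, FiniteField.pow_card_sub_one_eq_one c hc, one_smul]

theorem diag_pow {g : HSU B} {l : F} (hg : IsTor a f g l) {d : ι → Fˣ}
    (hgd : ∀ i, ap g (b i : V) = (d i : F) • (b i : V)) : g ^ (Nat.card F - 1) = 1 := by
  refine pair_ext h P ?_ ?_ fun v hv => ?_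
  · rw [ap_one, pow_pow_fix h P hg.1 hg.2.1]
  · rw [ap_one, pow_pow_fix h P (inv_ne_zero fun e => hg.1 (IsInvol.apply_eq_zero_iff.1 e)) hg.2.2]
  · have hv' : v = ∑ i, b.repr ⟨v, hv⟩ i • (b i : V) := by
      have h2 := congrArg Subtype.val (b.sum_repr ⟨v, hv⟩)
      rw [Submodule.coe_sum] at h2
      exact h2.symm
    rw [ap_one, hv', map_sum]
    exact Finset.sum_congr rfl fun i _ => by rw [LinearEquiv.map_smul, pow_pow_fix h P (d i).ne_zero (hgd i)]

end CfsgLib.Known.UnitMult
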